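import Cfsg.Agent.E7P.En2.Tab_m3
import Cfsg.Agent.E7P.En1.Rat_m3
import Cfsg.Agent.E7P.Lie.ATor_m3
import Cfsg.Agent.R2.T1.N7.Grp_m3
import Cfsg.Agent.E7P.Br.Api_m3
import Mathlib
import Cfsg.Agent.R2.T1.Five.CaseII_m3
import Cfsg.Agent.R2.T1.Inf.Dia
import Cfsg.Agent.ClassicalGeometry.AutPSL.Main
import Cfsg.Agent.Lib.FieldAutCard
import Cfsg.Agent.R2.H9.E6.Num_m3
import Cfsg.Agent.ChevFast.E7
import Cfsg.Agent.ChevFast.E8
import Cfsg.Agent.ChevFast.Lin
import Cfsg.Agent.Lib.FinFast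
import Cfsg.Agent.FastGrp
import Cfsg.Agent.Prune
set_option linter.all false

section
prune_inst 0x7ff0a9f909bda3ffdfff7e77ae50dffd99b91fffa6dff9cbbfe001ff0bdf038009856f8589e000fe0e67e21410387803fb7eeeffe86bd47ffffd5c341efbee4fe5f63108519c88300e280ff603e0770a6f3ffff7fbffffffffffffffffffffaeffbfffffffff

-- part: E7P/P2/HbInd
section
prune_inst 0x300009200400000000008018c20002002200040000000400062001000080884000008000190001010000000800300008000000000000000000200010000001000040000000400000000010010000410000000000000000000000000000000000000000000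
set_option linter.all false
open scoped Cfsg.Agent.FastGrp

-- part: E7P/P2/Bas
section
/-!
# S5932, `p = 2`: basics (helper39)

* every field: `eqv2`, `del_adM'`, `adM_br'`, `St_del'`, `adM_Zc`, `cm_Zc`;
* `2 = 0`: the square `sq`, `del_sq`, `sq_add`, `sq_smul`, `adM_sq`, `exists_sq_zero`;
* `Sit.two`, `ck2`, `nop2`, `pt2`; `Sit.C` (the fixed points of `A` on the Lie algebra), `FixZ`, `fix_of_mod`.
-/

set_option autoImplicit false
set_option maxRecDepth 100000

namespace Cfsg.Agent.E7P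

open Cfsg Cfsg.Lie Matrix Module
open Cfsg.Agent.H943.E7V.Block (D1 rho)
open Cfsg.Agent.R2.T1 Cfsg.Agent.E7P.Kf Cfsg.Agent.E7P.Br
open Cfsg.Agent.R2.PX (del)
open Cfsg.Agent.R2.T1.N6D (Zc mem_Zc zv del_zv Zc_eq)

universe u v

namespace P2

variable {K : Type u} [Field K]

/-- `del` is equivariant over every field -/
theorem eqv2 : La.Eqv K := R2.T2.Alg.del_equi'

theorem del_adM' (g : Gh K) (z : chevE7.Idx → K) : del K (adM K g *ᵥ z) = rho K g * del K z * rho K g⁻¹ :=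
  eqv2.conj g z

theorem rho_inv_mul (g : Gh K) (A : Matrix D1 D1 K) : rho K g⁻¹ * (rho K g * A) = A := by
  rw [← mul_assoc, ← map_mul, inv_mul_cancel, map_one, one_mul]

/-- fixed vectors are the ones which commute -/
theorem fix_iff {g : Gh K} {z : chevE7.Idx → K} : adM K g *ᵥ z = z ↔ rho K g * del K z = del K z * rho K g := by
  refine ⟨fun h => by rw [eqv2 g z, h], fun h => Mu.del_injective ?_⟩
  rw [del_adM', h, mul_assoc, La.rho_mul_inv, mul_one]

theorem adM_br' (g : Gh K) (x y : chevE7.Idx → K) :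
    adM K g *ᵥ br K x y = br K (adM K g *ᵥ x) (adM K g *ᵥ y) := Mu.del_injective (by
  rw [del_br, del_adM', del_adM', del_adM', del_br, mul_sub, sub_mul]
  simp only [mul_assoc, rho_inv_mul])

theorem adM_Zc {z : chevE7.Idx → K} (hz : z ∈ Zc K) (g : Gh K) : adM K g *ᵥ z = z := by
  obtain ⟨c, hc⟩ := mem_Zc.1 hz
  rw [fix_iff, ← hc, Matrix.mul_smul, Matrix.smul_mul, mul_one, one_mul]

theorem cm_Zc {z : chevE7.Idx → K} (hz : z ∈ Zc K) (x : chevE7.Idx → K) : Cm z x := by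
  obtain ⟨c, hc⟩ := mem_Zc.1 hz
  rw [Cm, ← hc, Matrix.mul_smul, Matrix.smul_mul, mul_one, one_mul]

theorem adM_mem_Zc {g : Gh K} {z : chevE7.Idx → K} : adM K g *ᵥ z ∈ Zc K ↔ z ∈ Zc K := by
  refine ⟨fun h => ?_, fun h => by rwa [adM_Zc h]⟩
  rwa [← adM_Zc h g⁻¹, mulVec_inv] at h

theorem eq_zero_of_Zc {z : chevE7.Idx → K} (hz : z ∈ Zc K) (hn : IsNilpotent (del K z)) : z = 0 := by
  by_contra hne
  obtain ⟨c, hc⟩ := mem_Zc.1 hz
  obtain ⟨n, hn⟩ := hn
  rw [← hc, smul_pow, one_pow] at hn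
  have h1 : c = 0 := by
    by_contra h1
    have h3 : (1 : Matrix D1 D1 K) = 0 := (smul_eq_zero.1 hn).resolve_left (pow_ne_zero n h1)
    exact hne (Mu.del_inj (by rw [← mul_one (del K z), h3, mul_zero]))
  exact hne (Mu.del_inj (by rw [← hc, h1, zero_smul]))

/-! ### squares -/

open Classical in
variable (K) in
/-- the square (the `2`-map in characteristic `2`) -/
noncomputable def sq (z : chevE7.Idx → K) : chevE7.Idx → K :=
  if h : ∃ w, del K w = del K z * del K z then h.choose else 0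

theorem exists_sq (h2 : (2 : K) = 0) (z : chevE7.Idx → K) : ∃ w, del K w = del K z * del K z :=
  R2.T2.Alg.sq_mem h2 (R2.T2.Alg.del_mem z)

theorem del_sq (h2 : (2 : K) = 0) (z : chevE7.Idx → K) : del K (sq K z) = del K z * del K z := by
  rw [sq, dif_pos (exists_sq h2 z)]
  exact (exists_sq h2 z).choose_spec

theorem neg_eq (h2 : (2 : K) = 0) {M : Type*} [AddCommGroup M] [Module K M] (x : M) : -x = x := by
  rw [neg_eq_iff_add_eq_zero, ← two_smul K, h2, zero_smul]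

theorem sq_add (h2 : (2 : K) = 0) (x y : chevE7.Idx → K) : sq K (x + y) = sq K x + sq K y + br K x y :=
  Mu.del_injective (by
    rw [map_add, map_add, del_sq h2, del_sq h2, del_sq h2, del_br, map_add, sub_eq_add_neg, neg_eq h2]
    noncomm_ring)

theorem sq_smul (h2 : (2 : K) = 0) (c : K) (x : chevE7.Idx → K) : sq K (c • x) = c ^ 2 • sq K x :=
  Mu.del_injective (by rw [map_smul, del_sq h2, del_sq h2, map_smul, smul_mul_smul_comm, pow_two])

theorem sq_zero (h2 : (2 : K) = 0) : sq K 0 = 0 := Mu.del_inj (by rw [del_sq h2, map_zero, mul_zero])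

theorem sq_eq_zero (h2 : (2 : K) = 0) {x : chevE7.Idx → K} : sq K x = 0 ↔ del K x * del K x = 0 :=
  ⟨fun h => by rw [← del_sq h2, h, map_zero], fun h => Mu.del_inj (by rw [del_sq h2, h])⟩

theorem sq_eq_self (h2 : (2 : K) = 0) {x : chevE7.Idx → K} : sq K x = x ↔ del K x * del K x = del K x :=
  ⟨fun h => by rw [← del_sq h2, h], fun h => Mu.del_injective (by rw [del_sq h2, h])⟩

theorem adM_sq (h2 : (2 : K) = 0) (g : Gh K) (x : chevE7.Idx → K) : adM K g *ᵥ sq K x = sq K (adM K g *ᵥ x) :=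
  Mu.del_injective (by
    rw [del_adM', del_sq h2, del_sq h2, del_adM']
    simp only [mul_assoc, rho_inv_mul])

theorem br_sq (h2 : (2 : K) = 0) (x y : chevE7.Idx → K) : br K (sq K x) y = br K x (br K x y) :=
  Mu.del_injective (by
    simp only [del_br, del_sq h2]
    have h1 := neg_eq h2 (del K x * del K y * del K x)
    have h3 := neg_eq h2 (del K y * (del K x * del K x))
    linear_combination (norm := noncomm_ring) h3 - h1)

theorem sq_Ge (h2 : (2 : K) = 0) {β : E} {d : ℝ} {x : chevE7.Idx → K} (h : x ∈ Ge K ac β d) :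
    sq K x ∈ Ge K ac β (d + d) := by
  rw [← del_MGe] at h ⊢
  rw [del_sq h2]
  exact Br.MGe_mul h h

theorem del_sq_iter (h2 : (2 : K) = 0) (n : ℕ) (x : chevE7.Idx → K) : del K ((sq K)^[n] x) = del K x ^ 2 ^ n := by
  induction n with
  | zero => rw [Function.iterate_zero_apply, pow_zero, pow_one]
  | succ n ih => rw [Function.iterate_succ_apply', del_sq h2, ih, pow_succ, pow_mul, pow_two]

/-- a set which is closed under squares and contains a nilpotent element contains an element of square zero -/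
theorem exists_sq_zero (h2 : (2 : K) = 0) {C : Set (chevE7.Idx → K)} (hC : ∀ z ∈ C, sq K z ∈ C) {z : chevE7.Idx → K}
    (hz : z ∈ C) (h0 : z ≠ 0) (hn : IsNilpotent (del K z)) : ∃ w ∈ C, w ≠ 0 ∧ del K w * del K w = 0 := by
  obtain ⟨n, hn⟩ := hn
  induction n generalizing z with
  | zero => exact absurd (Mu.del_inj (by rw [← mul_one (del K z), ← pow_zero (del K z), hn, mul_zero])) h0
  | succ n ih =>
    by_cases h : sq K z = 0
    · exact ⟨z, hz, h0, (sq_eq_zero h2).1 h⟩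
    refine ih (hC z hz) h ?_
    rcases n with _ | n
    · exact absurd (Mu.del_inj (by rwa [zero_add, pow_one] at hn)) h0
    · rw [del_sq h2, ← pow_two, ← pow_mul]
      exact pow_eq_zero_of_le (by omega) hn

/-- the centre of the group is trivial in characteristic `2` -/
theorem eq_one_of_center (h2 : (2 : K) = 0) {z : Gh K} (hz : z ∈ Subgroup.center (Gh K)) : z = 1 := by
  rcases V_center hz with h | h
  · exact faithful h
  · exact faithful (by rw [h, neg_eq h2])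

end P2

namespace Sit

open P2

variable {p a b : ℕ} {F : Type u} {K : Type v} {k : Type u} [Field F] [Fintype F] [Field K] [Fintype K] [Field k]
  (S : Sit p a b F K k)

include S in
theorem two (hp : p = 2) : (2 : k) = 0 := by
  subst hp
  have := S.chark
  exact CharTwo.two_eq_zero

include S in
theorem twoK (hp : p = 2) : (2 : K) = 0 := by
  subst hp
  have := S.charK
  exact CharTwo.two_eq_zero

include S in
theorem four_le (hp : p = 2) : 4 ≤ a := by
  subst hp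
  by_contra h
  have h1 := S.eleven
  have h2 : 2 ^ a ≤ 2 ^ 3 := Nat.pow_le_pow_right two_pos (by omega)
  omega

/-- **CK2** -/
theorem ck2 (hp : p = 2) : S.CK := fun _ hc h =>
  (S.fpf' (D := S.CA) (fun _ => S.σ_mem_CA) (fun _ hm _ => S.conj_mem_CA hm)
    (fun _ hy => S.cent_fix (S.mem_CA.1 hy)) (S.mem_CA.2 hc) h).resolve_right fun h1 => h1.1 hp

theorem ck2' (hp : p = 2) {c : Gh k} (hc : S.Cent c) (h : c * c = 1) : c = 1 :=
  S.ck2 hp c hc (by rw [hp, pow_two, h])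

/-- a `σ`-stable subgroup normalised by `M` which does not contain `A` has no involution -/
theorem nop2 (hp : p = 2) {D : Subgroup (Gh k)} (hσ : ∀ x ∈ D, S.σ x ∈ D) (hM : ∀ m ∈ S.M, ∀ x ∈ D, m * x * m⁻¹ ∈ D)
    (hA : ∃ x, S.ψ x ∉ D) {c : Gh k} (hc : c ∈ D) (h : c ^ p = 1) : c = 1 :=
  (S.fpf' hσ hM ((S.base hM).resolve_right (not_forall.2 hA)) hc h).resolve_right fun h1 => h1.1 hp

/-- **PT**, `p = 2` -/
theorem pt2 (hp : p = 2) {I : Type} [Fintype I] [DecidableEq I] {c : I → Fin 7 → ℤ} {R : Gh k →* Matrix I I k}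
    (hR : WRep c R) : S.PT R := by
  rintro W hW ⟨x, y, hy, hxy⟩ d hd h
  refine S.nop2 hp (D := Fx R W) (fun e he z hz => ?_) (fun m hm e he z hz => ?_) ⟨x, fun h1 => hxy (h1 y hy)⟩ hd h
  · obtain ⟨z', hz', rfl⟩ := S.k_sv_surj (X := (W : Set (I → k))) hW.2 z hz
    exact (S.sv_mulVec hR e z').symm.trans (by rw [he z' hz']; rfl)
  · rw [mulVec_mul, mulVec_mul, he _ (hW.1 _ (inv_mem hm) z hz), mulVec_inv']

/-- no root element centralises `A` -/
theorem not_cent_xs (hp : p = 2) {g : Gh k} {r : ℕ} (hr : r < 126) {t : k} (ht : t ≠ 0)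
    (h : S.Cent (g * xs k r t * g⁻¹)) : False := by
  have h1 := S.ck2' hp h (by
    rw [show g * xs k r t * g⁻¹ * (g * xs k r t * g⁻¹) = g * (xs k r t * xs k r t) * g⁻¹ by group, xs_mul,
      ← two_smul k, S.two hp, zero_smul, xs_zero, mul_one, mul_inv_cancel])
  have h3 : xs k r t = 1 := by rw [show xs k r t = g⁻¹ * (g * xs k r t * g⁻¹) * g by group, h1, mul_one, inv_mul_cancel]
  have h4 := lead_xs hr t
  rw [h3, map_one, sub_self, zero_sub, neg_eq_zero] at h4
  exact ht (by simpa using congrFun (Mu.del_inj h4) (Sum.inr ⟨r, hr⟩))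

/-- the fixed points of `A` on the Lie algebra -/
def C : Submodule k (chevE7.Idx → k) where
  carrier := {y | ∀ x, adM k (S.ψ x) *ᵥ y = y}
  zero_mem' := fun _ => mulVec_zero _
  add_mem' := fun h h' x => by rw [mulVec_add, h x, h' x]
  smul_mem' := fun _ _ h x => by rw [mulVec_smul, h x]

theorem Zc_le_C : Zc k ≤ S.C := fun _ h _ => adM_Zc h _

theorem br_mem_C {x y : chevE7.Idx → k} (hx : x ∈ S.C) (hy : y ∈ S.C) : br k x y ∈ S.C := fun g => by
  rw [adM_br', hx g, hy g]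

theorem sq_mem_C (hp : p = 2) {x : chevE7.Idx → k} (hx : x ∈ S.C) : _root_.Cfsg.Agent.E7P.P2.sq k x ∈ S.C := fun g => by
  rw [adM_sq (S.two hp), hx g]

theorem stb_C : S.Stb (adM k) S.C := by
  refine ⟨fun m hm y hy x => ?_, fun y hy x => ?_⟩
  · obtain ⟨x', h⟩ := S.norm_ψ (inv_mem hm) x
    rw [← mulVec_mul, show S.ψ x * m = m * S.ψ x' by rw [← h]; group, mulVec_mul, hy]
  · rw [← S.k_σ_ψ x, ← S.sv_mulVec wrep_L, hy]

/-- Case 2: the fixed points of `A` on the Lie algebra are central -/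
def FixZ : Prop := ∀ y : chevE7.Idx → k, (∀ x, adM k (S.ψ x) *ᵥ y = y) → y ∈ Zc k

/-- a line which is stable under `A` is fixed -/
theorem fix_of_line {I : Type} [Fintype I] [DecidableEq I] (R : Gh k →* Matrix I I k) {y : I → k}
    (h : ∀ x, ∃ c : k, R (S.ψ x) *ᵥ y = c • y) (x : _root_.Matrix.SpecialLinearGroup (Fin 2) K) : R (S.ψ x) *ᵥ y = y := by
  by_cases h0 : y = 0
  · rw [h0, mulVec_zero]
  choose c hc using h
  have h1 : ∀ x x', c (x * x') = c x * c x' := fun x x' => smul_left_injective k h0 (by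
    show c (x * x') • y = (c x * c x') • y
    rw [← hc, map_mul, mulVec_mul, hc x', mulVec_smul, hc x, smul_smul, mul_comm])
  have h2 : c 1 = 1 := smul_left_injective k h0 (by
    show c 1 • y = (1 : k) • y
    rw [← hc, map_one, map_one, one_mulVec, one_smul])
  let f : _root_.Matrix.SpecialLinearGroup (Fin 2) K →* k := ⟨⟨c, h2⟩, h1⟩
  have h3 : x ∈ f.toHomUnits.ker := Abelianization.commutator_subset_ker _ (S.perfect ▸ Subgroup.mem_top x)
  have h4 : c x = 1 := congrArg Units.val h3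
  rw [hc, h4, one_smul]

end Sit

end Cfsg.Agent.E7P
end

-- part: E7P/P2/HbZ
section
/-!
# S5932, `p = 2`, Case 2b: the Lie algebra over rings (helper92)

* `Hb.br_er` : `br (er r) y = EM r *ᵥ y`;
* `Hb.brR`, `Hb.kfR`, `Hb.phi` : the bracket, the form and the trilinear form `κ([x, y], z)` over commutative rings.
-/

set_option autoImplicit false
set_option maxRecDepth 100000

namespace Cfsg.Agent.E7P.Hb

open Cfsg Cfsg.Lie Matrix Module
open Cfsg.Agent.ChevalleyStructure.Columns (car cor)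
open Cfsg.Agent.H943.E7V.Block (D1 rho)
open Cfsg.Agent.R2.T1 Cfsg.Agent.E7P.Kf Cfsg.Agent.E7P.Br Cfsg.Agent.E7P.P2
open Cfsg.Agent.R2.PX (del)

universe u

section
variable {K : Type u} [Field K]

theorem del_EM_single (r : Fin chevE7.nroots) (j : chevE7.Idx) : del K (EM K r *ᵥ Pi.single j 1) =
    NM K r * del K (Pi.single j 1) - del K (Pi.single j 1) * NM K r := by
  have hr : r.val < 126 := r.2
  have h0 : del K (EM K r *ᵥ Pi.single j 1) = del K (chevE7.x K r 1 *ᵥ Pi.single j 1) - del K (Pi.single j 1) +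
      (Pi.single j 1 : chevE7.Idx → K) (Sum.inr (ng r)) • NM K r := by
    rw [← R2.PX.adM_xs, adM_xs hr, add_mulVec, add_mulVec, one_mulVec, one_pow, one_smul, one_smul, QM_mulVec, map_add,
      map_add, map_smul, er, R2.PX.del_inr, neg_smul]
    abel
  rw [h0]
  rcases j with i | s
  · rw [R2.PX.del_x_inl hr, R2.PX.del_inl, Pi.single_eq_of_ne (by simp), zero_smul, add_zero, mul_one,
      ← R2.PX.Hi_comm hr i.2]
    abel
  · have hs : s.val < 126 := s.2
    rw [R2.PX.del_inr]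
    by_cases h1 : s = r
    · subst h1
      rw [R2.PX.del_x_self hr, Pi.single_eq_of_ne (fun h => by
        have h2 := congrArg Fin.val (Sum.inr.inj h)
        rw [ng_val] at h2
        omega), zero_smul, add_zero, sub_self, sub_self]
    by_cases h2 : s = ng r
    · subst h2
      rw [Pi.single_eq_same, one_smul]
      refine Eq.trans ?_ (R2.PX.NM_comm_neg hr).symm
      have h3 := R2.PX.del_x_neg (F := K) hr 1
      rw [one_pow, one_smul, one_smul] at h3
      rw [show del K (chevE7.x K r 1 *ᵥ Pi.single (Sum.inr (ng r)) 1) = _ from h3]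
      show _ - NM K (125 - r) + _ = _
      abel
    · have h3 : s.val ≠ 125 - r.val := fun h => h2 (Fin.ext h)
      rw [R2.PX.del_x_inr hr hs h3 (fun h => h1 (Fin.ext h)), Pi.single_eq_of_ne (fun h => h2 (Sum.inr.inj h).symm),
        zero_smul, add_zero, one_smul, R2.PX.NM_comm hr hs h3]
      abel

/-- the bracket with a root vector -/
theorem br_er (r : Fin chevE7.nroots) (y : chevE7.Idx → K) : br K (Pi.single (Sum.inr r) 1) y = EM K r *ᵥ y := by
  have h : br K (Pi.single (Sum.inr r) 1) = toLin' (EM K r) := LinearMap.pi_ext' fun j => LinearMap.ext_ring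
    (Mu.del_injective (by
      show del K (br K (Pi.single (Sum.inr r) 1) (Pi.single j 1)) = del K (toLin' (EM K r) (Pi.single j 1))
      rw [toLin'_apply, del_EM_single, del_br, R2.PX.del_inr]))
  rw [h, toLin'_apply]

end

/-- `ad e_r` over the integers -/
def EZ (r : ℕ) (a b : chevE7.Idx) : ℤ :=
  match a, b with
  | Sum.inl _, Sum.inl _ => 0
  | Sum.inr u, Sum.inl i => if u.val = r then -(car chevE7 i.val r) else 0
  | Sum.inl i, Sum.inr s => if s.val = 125 - r then cor chevE7 r i.val else 0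
  | Sum.inr u, Sum.inr s => cf r s.val u.val

/-- `(ad e_r)² / 2` over the integers -/
def QZ (r : ℕ) (a b : chevE7.Idx) : ℤ :=
  match a, b with
  | Sum.inr u, Sum.inr s => if s.val = 125 - r then (if u.val = r then -1 else 0) else 0
  | _, _ => 0

/-- the form over the integers -/
def KZ (a b : chevE7.Idx) : ℤ :=
  match a, b with
  | Sum.inl i, Sum.inl j => car chevE7 i.val (chevE7.simple j.val)
  | Sum.inr u, Sum.inr s => if s.val = 125 - u.val then 1 else 0
  | _, _ => 0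

/-- the structure constants -/
def cZ (a b m : chevE7.Idx) : ℤ :=
  match a, b with
  | Sum.inr r, b => EZ r m b
  | Sum.inl i, Sum.inr s => - EZ s m (Sum.inl i)
  | Sum.inl _, Sum.inl _ => 0

section
variable {K : Type u} [Field K]

theorem EM_eq (r : ℕ) (a b : chevE7.Idx) : EM K r a b = (EZ r a b : K) := by
  rcases a with i | u <;> rcases b with j | s
  · exact Int.cast_zero.symm
  · rw [EM_lr]
    show _ = (((if s.val = 125 - r then cor chevE7 r i.val else 0 : ℤ)) : K)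
    split_ifs <;> simp
  · rw [EM_rl]
    show _ = (((if u.val = r then -(car chevE7 j.val r) else 0 : ℤ)) : K)
    split_ifs <;> simp
  · rfl

theorem QM_eq (r : ℕ) (a b : chevE7.Idx) : QM K r a b = (QZ r a b : K) := by
  rcases a with i | u <;> rcases b with j | s
  · exact Int.cast_zero.symm
  · exact Int.cast_zero.symm
  · exact Int.cast_zero.symm
  · rw [QM_rr]
    show _ = (((if s.val = 125 - r then (if u.val = r then -1 else 0) else 0 : ℤ)) : K)
    split_ifs <;> simp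

theorem KM_eq (a b : chevE7.Idx) : KM K a b = (KZ a b : K) := by
  rcases a with i | u <;> rcases b with j | s
  · rfl
  · exact Int.cast_zero.symm
  · exact Int.cast_zero.symm
  · rw [KM_rr]
    show _ = (((if s.val = 125 - u.val then 1 else 0 : ℤ)) : K)
    split_ifs <;> simp

theorem br_single (a b m : chevE7.Idx) : br K (Pi.single a 1) (Pi.single b 1) m = (cZ a b m : K) := by
  rcases a with i | r
  · rcases b with j | s
    · rw [br_eq_zero.2]
      · exact Int.cast_zero.symm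
      · rw [Cm, R2.PX.del_inl, R2.PX.del_inl]
        exact R2.T2.Alg.Hi_Hi _ _
    · rw [br_anti, br_er, mulVec_single_one, Pi.neg_apply, col_apply, EM_eq]
      exact (Int.cast_neg _).symm
  · rw [br_er, mulVec_single_one, col_apply, EM_eq]
    rfl

end

section
variable (R : Type*) [CommRing R] {I : Type*} [Fintype I]

/-- a bilinear map with integral coefficients -/
def bil (c : I → I → I → ℤ) : (I → R) →ₗ[R] (I → R) →ₗ[R] (I → R) :=
  LinearMap.mk₂ R (fun x y m => ∑ a, ∑ b, (c a b m : R) * (x a * y b))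
    (fun x x' y => funext fun m => by simp only [Pi.add_apply, add_mul, mul_add, Finset.sum_add_distrib])
    (fun t x y => funext fun m => by simp only [Pi.smul_apply, smul_eq_mul, Finset.mul_sum, mul_assoc, mul_left_comm])
    (fun x y y' => funext fun m => by simp only [Pi.add_apply, mul_add, Finset.sum_add_distrib])
    (fun t x y => funext fun m => by simp only [Pi.smul_apply, smul_eq_mul, Finset.mul_sum, mul_left_comm])

/-- a bilinear form with integral coefficients -/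
def frm (c : I → I → ℤ) : (I → R) →ₗ[R] (I → R) →ₗ[R] R :=
  LinearMap.mk₂ R (fun x y => ∑ a, ∑ b, (c a b : R) * (x a * y b))
    (fun x x' y => by simp only [Pi.add_apply, add_mul, mul_add, Finset.sum_add_distrib])
    (fun t x y => by simp only [Pi.smul_apply, smul_eq_mul, Finset.mul_sum, mul_assoc, mul_left_comm])
    (fun x y y' => by simp only [Pi.add_apply, mul_add, Finset.sum_add_distrib])
    (fun t x y => by simp only [Pi.smul_apply, smul_eq_mul, Finset.mul_sum, mul_left_comm])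

variable {R} {R' : Type*} [CommRing R']

theorem bil_apply (c : I → I → I → ℤ) (x y : I → R) (m : I) : bil R c x y m = ∑ a, ∑ b, (c a b m : R) * (x a * y b) := rfl

theorem frm_apply (c : I → I → ℤ) (x y : I → R) : frm R c x y = ∑ a, ∑ b, (c a b : R) * (x a * y b) := rfl

theorem bil_map (f : R →+* R') (c : I → I → I → ℤ) (x y : I → R) : f ∘ bil R c x y = bil R' c (f ∘ x) (f ∘ y) :=
  funext fun m => by simp only [Function.comp_apply, bil_apply, map_sum, map_mul, map_intCast]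

theorem frm_map (f : R →+* R') (c : I → I → ℤ) (x y : I → R) : f (frm R c x y) = frm R' c (f ∘ x) (f ∘ y) := by
  simp only [Function.comp_apply, frm_apply, map_sum, map_mul, map_intCast]

variable [DecidableEq I]

theorem frm_single (c : I → I → ℤ) (a b : I) : frm R c (Pi.single a 1) (Pi.single b 1) = c a b := by
  rw [frm_apply, Finset.sum_eq_single a, Finset.sum_eq_single b]
  · simp
  · intro j _ hj
    rw [Pi.single_eq_of_ne hj, mul_zero, mul_zero]
  · simp only [_root_.Finset.mem_univ, _root_.not_true_eq_false, _root_.Pi.single_eq_same, _root_.mul_one, _root_.IsEmpty.forall_iff]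
  · intro i _ hi
    exact Finset.sum_eq_zero fun j _ => by rw [Pi.single_eq_of_ne hi, zero_mul, mul_zero]
  · simp only [_root_.Finset.mem_univ, _root_.not_true_eq_false, _root_.Pi.single_eq_same, _root_.one_mul, _root_.IsEmpty.forall_iff]

theorem bil_single (c : I → I → I → ℤ) (a b m : I) : bil R c (Pi.single a 1) (Pi.single b 1) m = c a b m :=
  frm_single (fun a b => c a b m) a b

theorem ext_bil {M : Type*} [AddCommGroup M] [Module R M] {f g : (I → R) →ₗ[R] (I → R) →ₗ[R] M}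
    (h : ∀ a b, f (Pi.single a 1) (Pi.single b 1) = g (Pi.single a 1) (Pi.single b 1)) : f = g :=
  LinearMap.pi_ext' fun a => LinearMap.ext_ring (LinearMap.pi_ext' fun b => LinearMap.ext_ring (h a b))

end

section
variable (R : Type*) [CommRing R]

/-- the trilinear form `κ([x, y], z)` -/
def phi : (chevE7.Idx → R) →ₗ[R] (chevE7.Idx → R) →ₗ[R] (chevE7.Idx → R) →ₗ[R] R := (bil R cZ).compr₂ (frm R KZ)

variable {R} {R' : Type*} [CommRing R']

theorem phi_apply (x y z : chevE7.Idx → R) : phi R x y z = frm R KZ (bil R cZ x y) z := rfl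

theorem phi_map (f : R →+* R') (x y z : chevE7.Idx → R) : f (phi R x y z) = phi R' (f ∘ x) (f ∘ y) (f ∘ z) := by
  rw [phi_apply, frm_map, bil_map, phi_apply]

end

section
variable {K : Type u} [Field K]

theorem bil_eq : bil K cZ = br K := ext_bil fun a b => funext fun m => by rw [bil_single, br_single]

theorem frm_eq : frm K KZ = kf K := ext_bil fun a b => by
  rw [frm_single, kf_apply, mulVec_single_one, single_one_dotProduct, col_apply, KM_eq]

theorem phi_eq (x y z : chevE7.Idx → K) : phi K x y z = kf K (br K x y) z := by rw [phi_apply, bil_eq, frm_eq]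

theorem phi_adM (g : Gh K) (x y z : chevE7.Idx → K) :
    phi K (adM K g *ᵥ x) (adM K g *ᵥ y) (adM K g *ᵥ z) = phi K x y z := by
  rw [phi_eq, phi_eq, ← adM_br', kf_adM]

end

/-! ### weights -/

theorem cZ_wt {a b m : chevE7.Idx} (h : cZ a b m ≠ 0) : ac m = ac a + ac b := by
  have key : ∀ (r : Fin chevE7.nroots) (i j : chevE7.Idx), EZ r i j ≠ 0 → ac i = ac j + rc r := fun r i j h =>
    EM_wt (K := ℚ) r.2 (by rw [EM_eq]; exact_mod_cast h)
  rcases a with i | r
  · rcases b with j | s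
    · exact absurd rfl h
    · exact key s m _ (neg_ne_zero.1 h)
  · rw [add_comm]
    exact key r m b h

theorem KZ_wt {a b : chevE7.Idx} (h : KZ a b ≠ 0) : ac a + ac b = 0 := by
  rcases a with i | u <;> rcases b with j | s
  · exact add_zero _
  · exact absurd rfl h
  · exact absurd rfl h
  · have h1 : s.val = 125 - u.val := by
      by_contra h1
      exact h (if_neg h1)
    rw [ac_inr, ac_inr, h1, rc_neg u.2, add_neg_cancel]

/-- the trilinear form is graded -/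
theorem phi_zero {R : Type*} [CommRing R] {x y z : chevE7.Idx → R}
    (h : ∀ a b c, x a ≠ 0 → y b ≠ 0 → z c ≠ 0 → ac a + ac b + ac c ≠ 0) : phi R x y z = 0 := by
  rw [phi_apply, frm_apply]
  refine Finset.sum_eq_zero fun m _ => Finset.sum_eq_zero fun c _ => ?_
  by_cases h1 : KZ m c = 0
  · rw [h1, Int.cast_zero, zero_mul]
  by_cases h2 : z c = 0
  · rw [h2, mul_zero, mul_zero]
  rw [bil_apply, Finset.sum_eq_zero, zero_mul, mul_zero]
  refine fun a _ => Finset.sum_eq_zero fun b _ => ?_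
  by_cases h3 : cZ a b m = 0
  · rw [h3, Int.cast_zero, zero_mul]
  by_cases h4 : x a = 0
  · rw [h4, zero_mul, mul_zero]
  by_cases h5 : y b = 0
  · rw [h5, mul_zero, mul_zero]
  exact absurd (by rw [← cZ_wt h3, KZ_wt h1]) (h a b c h4 h5 h2)

theorem phi_single {R : Type*} [CommRing R] (a b c : Fin chevE7.nroots) :
    phi R (Pi.single (Sum.inr a) 1) (Pi.single (Sum.inr b) 1) (Pi.single (Sum.inr c) 1) = (cf a b (125 - c) : ℤ) := by
  rw [phi_apply, frm_apply, Finset.sum_eq_single (Sum.inr (ng c)), Finset.sum_eq_single (Sum.inr c)]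
  · have h1 : KZ (Sum.inr (ng c)) (Sum.inr c) = 1 := if_pos (congrArg Fin.val (ng_ng c)).symm
    rw [h1, bil_single, Pi.single_eq_same, Int.cast_one, one_mul, mul_one]
    rfl
  · intro j _ hj
    rw [Pi.single_eq_of_ne hj, mul_zero, mul_zero]
  · simp only [_root_.Finset.mem_univ, _root_.not_true_eq_false, _root_.Pi.single_eq_same, _root_.mul_one, _root_.IsEmpty.forall_iff]
  · intro m _ hm
    refine Finset.sum_eq_zero fun j _ => ?_
    by_cases hj : j = Sum.inr c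
    · subst hj
      have h1 : KZ m (Sum.inr c) = 0 := by
        rcases m with i | u
        · rfl
        · refine if_neg fun h => hm (congrArg Sum.inr (Fin.ext ?_))
          have hu : u.val < 126 := u.2
          rw [ng_val]
          omega
      rw [h1, Int.cast_zero, zero_mul]
    · rw [Pi.single_eq_of_ne hj, mul_zero, mul_zero]
  · simp only [_root_.Finset.mem_univ, _root_.not_true_eq_false, _root_.Fintype.sum_sum_type, _root_.ne_eq, _root_.reduceCtorEq, _root_.not_false_eq_true, _root_.Pi.single_eq_of_ne, _root_.MulZeroClass.mul_zero, _root_.Finset.sum_const_zero, _root_.zero_add, _root_.IsEmpty.forall_iff]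

end Cfsg.Agent.E7P.Hb
end

-- part: E7P/P2/HbOm
section
/-!
# S5932, `p = 2`, Case 2b: the trilinear form `κ([x, y], z) / 2` on commuting triples (helper92)

* `Hb.Lf k R` : a lift of the field `k` of characteristic `2`; `exists_lf` (Witt vectors);
* `Lf.om` : the form; `om_eq, om_add, om_smul, om_cyc, om_self, om_adM`.
-/

set_option autoImplicit false
set_option maxRecDepth 100000

namespace Cfsg.Agent.E7P.Hb

open Cfsg Cfsg.Lie Matrix Module
open Cfsg.Agent.H943.E7V.Block (D1 rho)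
open Cfsg.Agent.R2.T1 Cfsg.Agent.E7P.Kf Cfsg.Agent.E7P.Br Cfsg.Agent.E7P.P2
open Cfsg.Agent.R2.PX (del)

universe u

/-- a lift to characteristic zero -/
structure Lf (k : Type u) [Field k] (R : Type u) [CommRing R] where
  π : R →+* k
  surj : Function.Surjective π
  ker : ∀ a, π a = 0 ↔ 2 ∣ a
  two : (2 : R) ≠ 0

theorem exists_lf (k : Type u) [Field k] [IsAlgClosed k] [CharP k 2] :
    ∃ (R : Type u) (_ : CommRing R) (_ : IsDomain R), Nonempty (Lf k R) :=
  ⟨WittVector 2 k, inferInstance, inferInstance, ⟨⟨WittVector.constantCoeff, WittVector.constantCoeff_surjective 2,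
    fun a => by
      rw [← RingHom.mem_ker, WittVector.ker_constantCoeff, Ideal.mem_span_singleton]
      rfl,
    WittVector.p_nonzero 2 k⟩⟩⟩

/-- three commuting elements -/
structure Cm3 {K : Type u} [Field K] (x y z : chevE7.Idx → K) : Prop where
  xy : Cm x y
  yz : Cm y z
  zx : Cm z x

theorem Cm3.cyc {K : Type u} [Field K] {x y z : chevE7.Idx → K} (h : Cm3 x y z) : Cm3 y z x := ⟨h.yz, h.zx, h.xy⟩

namespace Lf

variable {k : Type u} [Field k] {R : Type u} [CommRing R] (L : Lf k R)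

include L in
theorem two_k : (2 : k) = 0 := by rw [← map_ofNat L.π 2, L.ker]

/-- a section -/
noncomputable def sec (a : k) : R := (L.surj a).choose

theorem π_sec (a : k) : L.π (L.sec a) = a := (L.surj a).choose_spec

theorem comp_sec {I : Type*} (x : I → k) : L.π ∘ (L.sec ∘ x) = x := funext fun i => L.π_sec (x i)

theorem phi_even {x y : chevE7.Idx → R} (h : Cm (L.π ∘ x) (L.π ∘ y)) (z : chevE7.Idx → R) : 2 ∣ phi R x y z := by
  rw [← L.ker, phi_map, phi_eq, br_eq_zero.2 h, map_zero, LinearMap.zero_apply]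

theorem exists_diff {I : Type*} {x x' : I → R} (h : L.π ∘ x = L.π ∘ x') : ∃ u, x' = x + (2 : R) • u := by
  have h1 : ∀ i, ∃ u, x' i - x i = 2 * u := fun i => (L.ker _).1 (by
    rw [map_sub, sub_eq_zero]
    exact (congrFun h i).symm)
  choose u hu using h1
  exact ⟨u, funext fun i => by rw [Pi.add_apply, Pi.smul_apply, smul_eq_mul, ← hu, add_sub_cancel]⟩

open Classical in
/-- **the form** -/
noncomputable def om (x y z : chevE7.Idx → k) : k :=
  if h : 2 ∣ phi R (L.sec ∘ x) (L.sec ∘ y) (L.sec ∘ z) then L.π h.choose else 0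

variable [IsDomain R]

include L in
theorem twelve : (12 : FractionRing R) ≠ 0 := by
  have h3 : (3 : R) ≠ 0 := fun h => by
    have h1 := congrArg L.π h
    rw [map_ofNat, map_zero, show (3 : k) = 2 + 1 by norm_num, L.two_k, zero_add] at h1
    exact one_ne_zero h1
  rw [← map_ofNat (algebraMap R (FractionRing R)) 12, map_ne_zero_iff _ (IsFractionRing.injective R _),
    show (12 : R) = 2 * 2 * 3 by norm_num]
  exact mul_ne_zero (mul_ne_zero L.two L.two) h3

include L in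
theorem phi_cyc (x y z : chevE7.Idx → R) : phi R x y z = phi R y z x := by
  apply IsFractionRing.injective R (FractionRing R)
  rw [phi_map, phi_map, phi_eq, phi_eq, kf_br L.twelve, kf_comm]

theorem _root_.Cfsg.Agent.E7P.Hb.phi_self (x z : chevE7.Idx → R) : phi R x x z = 0 := by
  apply IsFractionRing.injective R (FractionRing R)
  rw [phi_map, phi_eq, br_self, map_zero, map_zero, LinearMap.zero_apply]

theorem four_dvd {x x' y z : chevE7.Idx → R} (h : L.π ∘ x = L.π ∘ x') (hc : Cm (L.π ∘ y) (L.π ∘ z)) :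
    4 ∣ phi R x' y z - phi R x y z := by
  obtain ⟨u, rfl⟩ := L.exists_diff h
  obtain ⟨d, hd⟩ := L.phi_even hc u
  rw [map_add, map_smul, LinearMap.add_apply, LinearMap.add_apply, add_sub_cancel_left, LinearMap.smul_apply,
    LinearMap.smul_apply, L.phi_cyc, hd, smul_eq_mul]
  exact ⟨d, by ring⟩

theorem om_eq {x y z : chevE7.Idx → R} (h : Cm3 (L.π ∘ x) (L.π ∘ y) (L.π ∘ z)) {d : R} (hd : phi R x y z = 2 * d) :
    L.om (L.π ∘ x) (L.π ∘ y) (L.π ∘ z) = L.π d := by
  have h0 : 2 ∣ phi R (L.sec ∘ (L.π ∘ x)) (L.sec ∘ (L.π ∘ y)) (L.sec ∘ (L.π ∘ z)) :=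
    L.phi_even (by rw [comp_sec, comp_sec]; exact h.xy) _
  rw [om, dif_pos h0]
  have h1 := L.four_dvd (L.comp_sec (L.π ∘ x)).symm h.yz
  have h2 := L.four_dvd (L.comp_sec (L.π ∘ y)).symm (y := z) (z := L.sec ∘ (L.π ∘ x)) (by rw [comp_sec]; exact h.zx)
  have h3 := L.four_dvd (L.comp_sec (L.π ∘ z)).symm (y := L.sec ∘ (L.π ∘ x)) (z := L.sec ∘ (L.π ∘ y))
    (by rw [comp_sec, comp_sec]; exact h.xy)
  rw [← L.phi_cyc _ y, ← L.phi_cyc] at h2
  rw [L.phi_cyc z, L.phi_cyc] at h3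
  obtain ⟨e, he⟩ := dvd_add (dvd_add h1 h2) h3
  rw [hd, h0.choose_spec] at he
  rw [← sub_eq_zero, ← map_sub, L.ker]
  exact ⟨e, mul_left_cancel₀ L.two (by linear_combination he)⟩

theorem exists_om {x y z : chevE7.Idx → R} (h : Cm3 (L.π ∘ x) (L.π ∘ y) (L.π ∘ z)) :
    ∃ d, phi R x y z = 2 * d ∧ L.om (L.π ∘ x) (L.π ∘ y) (L.π ∘ z) = L.π d := by
  obtain ⟨d, hd⟩ := L.phi_even h.xy z
  exact ⟨d, hd, L.om_eq h hd⟩

omit [IsDomain R] in
theorem exists_lift {I : Type*} (x : I → k) : ∃ x', x = L.π ∘ x' := ⟨_, (L.comp_sec x).symm⟩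

theorem om_cyc {x y z : chevE7.Idx → k} (h : Cm3 x y z) : L.om x y z = L.om y z x := by
  obtain ⟨x, rfl⟩ := L.exists_lift x
  obtain ⟨y, rfl⟩ := L.exists_lift y
  obtain ⟨z, rfl⟩ := L.exists_lift z
  obtain ⟨d, hd, h1⟩ := L.exists_om h
  rw [h1, L.om_eq h.cyc ((L.phi_cyc x y z).symm.trans hd)]

theorem om_self {x z : chevE7.Idx → k} (h : Cm3 x x z) : L.om x x z = 0 := by
  obtain ⟨x, rfl⟩ := L.exists_lift x
  obtain ⟨z, rfl⟩ := L.exists_lift z
  rw [L.om_eq h (d := 0) (by rw [phi_self, mul_zero]), map_zero]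

theorem om_add {x x' y z : chevE7.Idx → k} (h : Cm3 x y z) (h' : Cm3 x' y z) (h'' : Cm3 (x + x') y z) :
    L.om (x + x') y z = L.om x y z + L.om x' y z := by
  obtain ⟨x, rfl⟩ := L.exists_lift x
  obtain ⟨x', rfl⟩ := L.exists_lift x'
  obtain ⟨y, rfl⟩ := L.exists_lift y
  obtain ⟨z, rfl⟩ := L.exists_lift z
  obtain ⟨d, hd, h1⟩ := L.exists_om h
  obtain ⟨d', hd', h1'⟩ := L.exists_om h'
  have e : L.π ∘ x + L.π ∘ x' = L.π ∘ (x + x') := funext fun i => (map_add L.π _ _).symm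
  rw [e] at h'' ⊢
  rw [h1, h1', L.om_eq h'' (d := d + d') (by
    rw [map_add, LinearMap.add_apply, LinearMap.add_apply, hd, hd', mul_add]), map_add]

theorem om_smul {x y z : chevE7.Idx → k} (c : k) (h : Cm3 x y z) (h'' : Cm3 (c • x) y z) :
    L.om (c • x) y z = c * L.om x y z := by
  obtain ⟨x, rfl⟩ := L.exists_lift x
  obtain ⟨y, rfl⟩ := L.exists_lift y
  obtain ⟨z, rfl⟩ := L.exists_lift z
  obtain ⟨c, rfl⟩ := L.surj c
  obtain ⟨d, hd, h1⟩ := L.exists_om h
  have e : L.π c • (L.π ∘ x) = L.π ∘ (c • x) := funext fun i => (map_mul L.π _ _).symm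
  rw [e] at h'' ⊢
  rw [h1, L.om_eq h'' (d := c * d) (by
    rw [map_smul, LinearMap.smul_apply, LinearMap.smul_apply, hd, smul_eq_mul, mul_left_comm]), map_mul]

/-! ### invariance -/

/-- `g` lifts to a matrix which preserves the trilinear form -/
def Up (g : Gh k) : Prop := ∃ A : Matrix chevE7.Idx chevE7.Idx R, A.map L.π = adM k g ∧
  ∀ x y z, phi R (A *ᵥ x) (A *ᵥ y) (A *ᵥ z) = phi R x y z

theorem up_xs {r : ℕ} (hr : r < 126) (t : k) : L.Up (xs k r t) := by
  obtain ⟨t, rfl⟩ := L.surj t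
  let A : Matrix chevE7.Idx chevE7.Idx R := 1 + t • Matrix.of (fun a b => (EZ r a b : R)) +
    t ^ 2 • Matrix.of (fun a b => (QZ r a b : R))
  have key : ∀ (K : Type u) [Field K] (f : R →+* K), A.map f = adM K (xs K r (f t)) := by
    intro K _ f
    rw [adM_xs hr]
    ext a b
    simp only [A, map_apply, Matrix.add_apply, Matrix.smul_apply, smul_eq_mul, of_apply, map_add, map_mul, map_pow,
      map_intCast, EM_eq, QM_eq, one_apply, apply_ite f, map_one, map_zero]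
  refine ⟨A, key k L.π, fun x y z => ?_⟩
  apply IsFractionRing.injective R (FractionRing R)
  have h1 : ∀ x : chevE7.Idx → R, algebraMap R (FractionRing R) ∘ (A *ᵥ x) =
      adM _ (xs _ r (algebraMap R (FractionRing R) t)) *ᵥ (algebraMap R (FractionRing R) ∘ x) := fun x => by
    rw [← key]
    exact funext fun i => RingHom.map_mulVec _ _ _ i
  rw [phi_map, phi_map, h1, h1, h1, phi_adM]

theorem up (g : Gh k) : L.Up g := by
  have hm : ∀ {a b}, L.Up a → L.Up b → L.Up (a * b) := by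
    rintro a b ⟨A, h1, h2⟩ ⟨B, h3, h4⟩
    refine ⟨A * B, by rw [Matrix.map_mul, h1, h3, map_mul], fun x y z => ?_⟩
    rw [← mulVec_mulVec, ← mulVec_mulVec, ← mulVec_mulVec, h2, h4]
  have h1 : L.Up 1 := ⟨1, by rw [map_one, Matrix.map_one _ (map_zero _) (map_one _)], fun x y z => by
    rw [one_mulVec, one_mulVec, one_mulVec]⟩
  exact (mem_of_gens (F := k) (S :=
    { carrier := {g | L.Up g ∧ L.Up g⁻¹}
      one_mem' := ⟨h1, by rw [inv_one]; exact h1⟩
      mul_mem' := fun ha hb => ⟨hm ha.1 hb.1, by rw [_root_.mul_inv_rev]; exact hm hb.2 ha.2⟩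
      inv_mem' := fun ha => ⟨ha.2, by rw [inv_inv]; exact ha.1⟩ })
    (fun r hr t => ⟨L.up_xs hr t, by rw [Kf.xs_inv]; exact L.up_xs hr _⟩) g).1

theorem om_adM (g : Gh k) {x y z : chevE7.Idx → k} (h : Cm3 x y z) :
    L.om (adM k g *ᵥ x) (adM k g *ᵥ y) (adM k g *ᵥ z) = L.om x y z := by
  have h' : Cm3 (adM k g *ᵥ x) (adM k g *ᵥ y) (adM k g *ᵥ z) := ⟨eqv2.cm g h.xy, eqv2.cm g h.yz, eqv2.cm g h.zx⟩
  obtain ⟨x, rfl⟩ := L.exists_lift x
  obtain ⟨y, rfl⟩ := L.exists_lift y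
  obtain ⟨z, rfl⟩ := L.exists_lift z
  obtain ⟨A, h1, h2⟩ := L.up g
  obtain ⟨d, hd, h3⟩ := L.exists_om h
  have e : ∀ x : chevE7.Idx → R, adM k g *ᵥ (L.π ∘ x) = L.π ∘ (A *ᵥ x) := fun x => by
    rw [← h1]
    exact funext fun i => (RingHom.map_mulVec _ _ _ i).symm
  rw [e, e, e] at h' ⊢
  rw [h3, L.om_eq h' ((h2 x y z).trans hd)]

end Lf

end Cfsg.Agent.E7P.Hb
end

-- part: E7P/P2/HbTab
section
/-!
# S5932, `p = 2`, Case 2b: the centralisers of the elements of square zero (helper92)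

* `Hb.ind R B` : the sum of the root vectors in `B`; `Hb.lvI B` : the levels for the sum `tau B` of the coroots;
* `Hb.low2`, `Hb.low1`, `Hb.tri` : the negative levels of the centraliser; `Hb.free_ind`.
-/

set_option autoImplicit false
set_option maxRecDepth 100000

namespace Cfsg.Agent.E7P.Hb

open Cfsg Cfsg.Lie Matrix Module
open Cfsg.Agent.ChevalleyStructure.Columns (car cor)
open Cfsg.Agent.H943.E7V.Block (D1 rho)
open Cfsg.Agent.R2.T1 Cfsg.Agent.E7P.Kf Cfsg.Agent.E7P.Br Cfsg.Agent.E7P.P2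
open Cfsg.Agent.R2.PX (del)
open Cfsg.Agent.R2.T1.N6D (Zc mem_Zc zv del_zv Zc_eq cast_even)

universe u

section
variable (R : Type*) [CommRing R]

/-- the sum of the root vectors in `B` -/
def ind (B : List ℕ) : chevE7.Idx → R := fun i =>
  match i with
  | Sum.inr r => if r.val ∈ B then 1 else 0
  | Sum.inl _ => 0

variable {R}

theorem ind_inl (B : List ℕ) (i : Fin chevE7.rank) : ind R B (Sum.inl i) = 0 := rfl

theorem ind_inr (B : List ℕ) (r : Fin chevE7.nroots) : ind R B (Sum.inr r) = if r.val ∈ B then 1 else 0 := rfl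

theorem ind_one (r : Fin chevE7.nroots) : ind R [r.val] = Pi.single (Sum.inr r) 1 := by
  funext a
  rcases a with i | s
  · rw [ind_inl, Pi.single_eq_of_ne (by simp)]
  · rw [ind_inr]
    by_cases h : s = r
    · rw [h, Pi.single_eq_same, if_pos List.mem_cons_self]
    · rw [Pi.single_eq_of_ne (by simpa using h), if_neg (by simpa using fun e => h (Fin.ext e))]

theorem ind_sum {B : List ℕ} (h : B.Nodup) : ind R B = (B.map fun r => ind R [r]).sum := by
  induction B with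
  | nil =>
    funext a
    rcases a with i | s <;> rfl
  | cons r B ih =>
    rw [List.map_cons, List.sum_cons, ← ih h.of_cons]
    funext a
    rcases a with i | s
    · exact (add_zero _).symm
    · rw [Pi.add_apply, ind_inr, ind_inr, ind_inr]
      by_cases h1 : s.val = r
      · rw [h1, if_pos List.mem_cons_self, if_pos List.mem_cons_self, if_neg h.notMem, add_zero]
      · simp [h1]

theorem lin_ind {M : Type*} [AddCommGroup M] [Module R M] (f : (chevE7.Idx → R) →ₗ[R] M) {B : List ℕ} (h : B.Nodup) :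
    f (ind R B) = (B.map fun r => f (ind R [r])).sum := by
  rw [ind_sum h, map_list_sum, List.map_map]
  rfl

theorem comp_ind {R' : Type*} [CommRing R'] (f : R →+* R') (B : List ℕ) : f ∘ ind R B = ind R' B := by
  funext a
  rcases a with i | s
  · exact map_zero f
  · rw [Function.comp_apply, ind_inr, ind_inr, apply_ite f, map_one, map_zero]

theorem ind_ne {B : List ℕ} {a : chevE7.Idx} (h : ind R B a ≠ 0) : ∃ r : Fin chevE7.nroots, a = Sum.inr r ∧ r.val ∈ B := by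
  rcases a with i | s
  · exact absurd rfl h
  · exact ⟨s, rfl, by_contra fun h1 => h (if_neg h1)⟩

/-- good lists of roots -/
def Gd (B : List ℕ) : Prop := B.Nodup ∧ ∀ r ∈ B, r < 126

theorem phi_ind {A B C : List ℕ} (hA : Gd A) (hB : Gd B) (hC : Gd C) : phi R (ind R A) (ind R B) (ind R C) =
    (((A.map fun a => (B.map fun b => (C.map fun c => cf a b (125 - c)).sum).sum).sum : ℤ) : R) := by
  have h1 := lin_ind ((phi R).flip.flip.flip (ind R B) |>.flip (ind R C)) hA.1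
  rw [show phi R (ind R A) (ind R B) (ind R C) = _ from h1, Int.cast_list_sum, List.map_map]
  refine congrArg List.sum (List.map_congr_left fun a ha => ?_)
  have h2 := lin_ind ((phi R (ind R [a])).flip (ind R C)) hB.1
  refine Eq.trans h2 ?_
  rw [Function.comp_apply, Int.cast_list_sum, List.map_map]
  refine congrArg List.sum (List.map_congr_left fun b hb => ?_)
  refine Eq.trans ((lin_ind (phi R (ind R [a]) (ind R [b])) hC.1 :)) ?_
  rw [Function.comp_apply, Int.cast_list_sum, List.map_map]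
  refine congrArg List.sum (List.map_congr_left fun c hc => ?_)
  have h3 := phi_single (R := R) ⟨a, hA.2 a ha⟩ ⟨b, hB.2 b hb⟩ ⟨c, hC.2 c hc⟩
  rw [← ind_one, ← ind_one, ← ind_one] at h3
  exact h3

end

/-! ### levels -/

/-- the level of a root -/
def lev (B : List ℕ) (r : ℕ) : ℤ := (B.map fun b => pc b (rc r)).sum

/-- the level of a basis vector -/
def lvI (B : List ℕ) (a : chevE7.Idx) : ℤ := (B.map fun b => pc b (ac a)).sum

theorem lvI_inr (B : List ℕ) (r : Fin chevE7.nroots) : lvI B (Sum.inr r) = lev B r := rfl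

theorem lvI_inl (B : List ℕ) (i : Fin chevE7.rank) : lvI B (Sum.inl i) = 0 :=
  List.sum_eq_zero fun x hx => by
    obtain ⟨b, -, rfl⟩ := List.mem_map.1 hx
    exact Finset.sum_eq_zero fun j _ => mul_zero _

/-- the sum of the coroots -/
def tau (B : List ℕ) : E := (B.map rv).sum

theorem bf_tau {B : List ℕ} (h : ∀ r ∈ B, r < 126) (c : Fin 7 → ℤ) :
    bf (tau B) (cv c) = ((B.map fun b => pc b c).sum : ℤ) := by
  rw [bf_symm, tau, map_list_sum, List.map_map, Int.cast_list_sum, List.map_map]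
  exact congrArg List.sum (List.map_congr_left fun b hb => bf_cv_rv c (h b hb))

theorem lvI_sum {B : List ℕ} (h : ∀ r ∈ B, r < 126) {a b c : chevE7.Idx} (e : ac a + ac b + ac c = 0) :
    lvI B a + lvI B b + lvI B c = 0 := by
  have h1 := congrArg (fun v => bf (tau B) (cv v)) e
  simp only [cv_add, map_add, cv_zero, map_zero, bf_tau h] at h1
  exact_mod_cast h1

/-! ### certificates -/

section
variable {K : Type u} [Field K]

theorem br_ind {B : List ℕ} (hB : Gd B) (y : chevE7.Idx → K) (m : chevE7.Idx) :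
    br K (ind K B) y m = ∑ b, (((B.map fun r => EZ r m b).sum : ℤ) : K) * y b := by
  have h1 := lin_ind ((LinearMap.proj m) ∘ₗ (br K).flip y) hB.1
  refine Eq.trans h1 ?_
  obtain ⟨-, h2⟩ := hB
  clear h1
  induction B with
  | nil => simp only [_root_.LinearMap.coe_comp, _root_.LinearMap.coe_proj, _root_.Function.comp_apply, _root_.Function.eval, _root_.LinearMap.flip_apply, _root_.List.map_nil, _root_.List.sum_nil, _root_.Int.cast_zero, _root_.MulZeroClass.zero_mul, _root_.Finset.sum_const_zero]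
  | cons r B ih =>
    rw [List.map_cons, List.sum_cons, ih fun s hs => h2 s (List.mem_cons_of_mem _ hs)]
    simp only [List.map_cons, List.sum_cons, Int.cast_add, add_mul, Finset.sum_add_distrib]
    congr 1
    have h3 := congrFun (br_er ⟨r, h2 r List.mem_cons_self⟩ y) m
    rw [← ind_one] at h3
    refine Eq.trans h3 ?_
    rw [mulVec, dotProduct]
    exact Finset.sum_congr rfl fun b _ => by rw [EM_eq]

/-- coordinates -/
def yy (y : chevE7.Idx → K) (s : ℕ) : K := if h : s < 126 then y (Sum.inr ⟨s, h⟩) else 0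

theorem yy_val (y : chevE7.Idx → K) (s : Fin chevE7.nroots) : yy y s = y (Sum.inr s) := dif_pos s.2

theorem sum_yy (y : chevE7.Idx → K) (r : ℕ) :
    ∑ s : Fin chevE7.nroots, (((if s.val = r then 1 else 0 : ℤ)) : K) * y (Sum.inr s) = yy y r := by
  by_cases h : r < 126
  · rw [Finset.sum_eq_single ⟨r, h⟩, if_pos rfl, Int.cast_one, one_mul, yy, dif_pos h]
    · intro s _ hs
      rw [if_neg fun e => hs (Fin.ext e), Int.cast_zero, zero_mul]
    · simp only [_root_.Finset.mem_univ, _root_.not_true_eq_false, ↓ _root_.reduceIte, _root_.Int.cast_one, _root_.one_mul, _root_.IsEmpty.forall_iff]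
  · rw [yy, dif_neg h]
    refine Finset.sum_eq_zero fun s _ => ?_
    have hs : s.val < 126 := s.2
    rw [if_neg (by omega), Int.cast_zero, zero_mul]

end

def par (g : ℕ → ℤ) (r r' : ℕ) : Bool :=
  (List.range 126).all fun s => (g s - (if s = r then 1 else 0) - (if s = r' then 1 else 0)) % 2 == 0

def gR (B : List ℕ) (m s : ℕ) : ℤ := (B.map fun r => cf r s m).sum

def gC (B M : List ℕ) (s : ℕ) : ℤ := (M.map fun i => (B.map fun r => if s = 125 - r then cor chevE7 r i else 0).sum).sum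

def Ms : List (List ℕ) := [[2], [4], [1], [2, 6], [1, 2], [2, 4], [1, 2, 4], [1, 4, 6]]

theorem Ms_lt : ∀ M ∈ Ms, ∀ i ∈ M, i < 7 := by decide

/-- a certificate for `y r + y r' = 0` -/
def ok (B : List ℕ) (r r' : ℕ) : Bool :=
  (B.any fun b => (F7 b r).any fun x => decide (x.1 ∉ B) && decide (x.1 < 126) && par (gR B x.1) r r') ||
    Ms.any fun M => par (gC B M) r r'

section
variable {K : Type u} [Field K]

theorem par_spec (h2 : (2 : K) = 0) {g : ℕ → ℤ} {r r' : ℕ} (h : par g r r' = true) {y : chevE7.Idx → K}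
    (hy : ∑ s : Fin chevE7.nroots, (g s : K) * y (Sum.inr s) = 0) : yy y r + yy y r' = 0 := by
  rw [← sum_yy, ← sum_yy, ← Finset.sum_add_distrib, ← hy]
  refine Finset.sum_congr rfl fun s _ => ?_
  have h1 := cast_even h2 (beq_iff_eq.1 (List.all_eq_true.1 h s (List.mem_range.2 s.2)))
  rw [Int.cast_sub, Int.cast_sub, sub_sub, sub_eq_zero] at h1
  rw [h1, add_mul]

theorem ok_spec (h2 : (2 : K) = 0) {B : List ℕ} (hB : Gd B) {r r' : ℕ} (h : ok B r r' = true) {y : chevE7.Idx → K}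
    (hy : Cm (ind K B) y) : yy y r + yy y r' = 0 := by
  have h0 : ∀ m, ∑ b, (((B.map fun r => EZ r m b).sum : ℤ) : K) * y b = 0 := fun m => by
    rw [← br_ind hB, br_eq_zero.2 hy]
    rfl
  rcases Bool.or_eq_true _ _ ▸ h with h1 | h1
  · obtain ⟨b, -, h3⟩ := List.any_eq_true.1 h1
    obtain ⟨x, -, h4⟩ := List.any_eq_true.1 h3
    simp only [Bool.and_eq_true, decide_eq_true_eq] at h4
    refine par_spec h2 h4.2 ?_
    have h5 := h0 (Sum.inr ⟨x.1, h4.1.2⟩)
    rw [Fintype.sum_sum_type, Finset.sum_eq_zero, zero_add] at h5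
    · exact h5
    · intro i _
      rw [List.sum_eq_zero, Int.cast_zero, zero_mul]
      intro c hc
      obtain ⟨b, hb, rfl⟩ := List.mem_map.1 hc
      exact if_neg fun e => h4.1.1 (by rw [show x.1 = b from e]; exact hb)
  · obtain ⟨M, hM, h3⟩ := List.any_eq_true.1 h1
    refine par_spec h2 h3 ?_
    have h4 := Ms_lt M hM
    clear h3 hM h1
    induction M with
    | nil => simp only [gC, _root_.List.map_nil, _root_.List.sum_nil, _root_.Int.cast_zero, _root_.MulZeroClass.zero_mul, _root_.Finset.sum_const_zero]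
    | cons i M ih =>
      have h5 := h0 (Sum.inl ⟨i, h4 i List.mem_cons_self⟩)
      rw [Fintype.sum_sum_type, Finset.sum_eq_zero, zero_add] at h5
      · have h6 := ih fun j hj => h4 j (List.mem_cons_of_mem _ hj)
        rw [← add_zero (0 : K)]
        nth_rewrite 1 [← h5]
        rw [← h6, ← Finset.sum_add_distrib]
        refine Finset.sum_congr rfl fun s _ => ?_
        rw [← add_mul, ← Int.cast_add]
        rfl
      · intro j _
        rw [List.sum_eq_zero, Int.cast_zero, zero_mul]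
        intro c hc
        obtain ⟨b, hb, rfl⟩ := List.mem_map.1 hc
        rfl

theorem ok_zero (h2 : (2 : K) = 0) {B : List ℕ} (hB : Gd B) {r : Fin chevE7.nroots} (h : ok B r 126 = true)
    {y : chevE7.Idx → K} (hy : Cm (ind K B) y) : y (Sum.inr r) = 0 := by
  have h1 := ok_spec h2 hB h hy
  rwa [yy_val, yy, dif_neg (lt_irrefl _), add_zero] at h1

end

/-- point, two points, line, triangle, line and point -/
def BL : List (List ℕ) := [[125], [125, 92], [125, 92, 63], [125, 92, 87], [125, 92, 87, 63]]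

theorem BL_gd : ∀ B ∈ BL, Gd B := by
  unfold Gd
  decide

private theorem F7_tab15 : F7 = Cfsg.Agent.ChevFast.ceT 1134 Cfsg.Agent.ChevFast.E7.tT :=
  (funext fun r => funext fun s => (F7_eq r s).symm : F7 = chevE7.chainEntry).trans Cfsg.Agent.ChevFast.E7.chainEntry

/-- the parity check on the support -/
private def parL15 (g : ℕ → ℤ) (L : List ℕ) (r r' : ℕ) : Bool :=
  (r :: r' :: L).all fun s => Nat.ble 126 s || (g s - (if s = r then 1 else 0) - (if s = r' then 1 else 0)) % 2 == 0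

private theorem par_of15 {g : ℕ → ℤ} {L : List ℕ} {r r' : ℕ} (hg : ∀ s < 126, s ∉ L → g s = 0) (h : parL15 g L r r' = true) :
    par g r r' = true := by
  refine List.all_eq_true.2 fun s hs => ?_
  have hs' := List.mem_range.1 hs
  by_cases h1 : s ∈ r :: r' :: L
  · exact ((Bool.or_eq_true _ _).mp (List.all_eq_true.1 h s h1)).resolve_left fun e => absurd (Nat.le_of_ble_eq_true e) (by omega)
  · rw [List.mem_cons, List.mem_cons, not_or, not_or] at h1
    rw [hg s hs' h1.2.2, if_neg h1.1, if_neg h1.2.1]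
    rfl

private def ok15 (B : List ℕ) (r r' : ℕ) : Bool :=
  (B.any fun b => (F7 b r).any fun x => decide (x.1 ∉ B) && decide (x.1 < 126) &&
    parL15 (gR B x.1) (B.flatMap fun b => (F7 b (125 - x.1)).map fun y => 125 - y.1) r r') ||
    Ms.any fun M => parL15 (gC B M) (B.map fun b => 125 - b) r r'

private theorem ok_of15 {B : List ℕ} (hB : ∀ b ∈ B, b < 126) {r r' : ℕ} (h : ok15 B r r' = true) : ok B r r' = true := by
  refine (Bool.or_eq_true _ _).mpr (((Bool.or_eq_true _ _).mp h).imp (fun h1 => ?_) fun h1 => ?_)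
  · obtain ⟨b, hb, h2⟩ := List.any_eq_true.1 h1
    obtain ⟨x, hx, h3⟩ := List.any_eq_true.1 h2
    rw [Bool.and_eq_true, Bool.and_eq_true] at h3
    refine List.any_eq_true.2 ⟨b, hb, List.any_eq_true.2 ⟨x, hx, ?_⟩⟩
    rw [Bool.and_eq_true, Bool.and_eq_true]
    refine ⟨h3.1, par_of15 (fun s hs h4 => List.sum_eq_zero fun c hc => ?_) h3.2⟩
    obtain ⟨a, ha, rfl⟩ := List.mem_map.1 hc
    by_contra h5
    have h6 := cf_opp (hB a ha) hs (of_decide_eq_true h3.1.2)
    have h7 := cf_ne (hB a ha) (h6 ▸ neg_ne_zero.2 h5 : cf a (125 - x.1) (125 - s) ≠ 0)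
    exact h4 (List.mem_flatMap.2 ⟨a, ha, List.mem_map.2 ⟨_, h7 ▸ List.mem_singleton.2 rfl, by show 125 - (125 - s) = s; omega⟩⟩)
  · obtain ⟨M, hM, h2⟩ := List.any_eq_true.1 h1
    refine List.any_eq_true.2 ⟨M, hM, par_of15 (fun s _ h4 => List.sum_eq_zero fun c hc => ?_) h2⟩
    obtain ⟨i, -, rfl⟩ := List.mem_map.1 hc
    refine List.sum_eq_zero fun c hc => ?_
    obtain ⟨a, ha, rfl⟩ := List.mem_map.1 hc
    exact if_neg fun e => h4 (List.mem_map.2 ⟨a, ha, e.symm⟩)

theorem chk_two : (BL.all fun B => B.all fun b => lev B b == 2) = true := by (delta Cfsg.Agent.E7P.Hb.lev Cfsg.Agent.E7P.Kf.rc; rewrite [Cfsg.Agent.ChevFast.E7.cartan]; decide +kernel)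

private noncomputable def _root_.Cfsg.Agent.LsF.f0ec413_0 : {f // @Cfsg.Agent.ChevalleyStructure.RootVecTab.dig = f} := ⟨_, by first | (delta Cfsg.Agent.ChevalleyStructure.RootVecTab.dig; rewrite [Cfsg.Agent.LsF.nmul_pat]; exact rfl) | exact rfl⟩
private noncomputable def _root_.Cfsg.Agent.LsF.f0ec413_1 : {f // @Cfsg.Agent.ChevalleyStructure.RootVecTab.packTab = f} := ⟨_, by first | (delta Cfsg.Agent.ChevalleyStructure.RootVecTab.packTab; rewrite [Cfsg.Agent.LsF.instDecEq_eq, Cfsg.Agent.LsF.ite_eq]; exact rfl) | exact rfl⟩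
private noncomputable def _root_.Cfsg.Agent.LsF.f0ec413_2 : {f // @Cfsg.Agent.ChevalleyStructure.RootVecTab.code = f} := ⟨_, by first | (delta Cfsg.Agent.ChevalleyStructure.RootVecTab.code; rewrite [Cfsg.Agent.LsF.f0ec413_1.2, Cfsg.Agent.LsF.nmul_pat, Cfsg.Agent.LsF.npow_pat]; exact rfl) | exact rfl⟩
private noncomputable def _root_.Cfsg.Agent.LsF.f0ec413_3 : {f // @Cfsg.Agent.ChevalleyStructure.RootVec.rt = f} := ⟨_, by first | (delta Cfsg.Agent.ChevalleyStructure.RootVec.rt; rewrite [Cfsg.Agent.LsF.f0ec413_0.2, Cfsg.Agent.LsF.f0ec413_2.2, Cfsg.Agent.LsF.nsub_pat, Cfsg.Agent.LsF.isub_pat, Cfsg.Agent.LsF.icast_pat, Cfsg.Agent.LsF.decLt_eq, Cfsg.Agent.LsF.dAnd_eq, Cfsg.Agent.LsF.ite_eq]; exact rfl) | exact rfl⟩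
private noncomputable def _root_.Cfsg.Agent.LsF.f0ec413_4 : {f // @Cfsg.Agent.E7P.Kf.pc = f} := ⟨_, by first | (delta Cfsg.Agent.E7P.Kf.pc; rewrite [Cfsg.Agent.LsF.sumF_pat, Cfsg.Agent.LsF.f0ec413_3.2, Cfsg.Agent.LsF.iadd_pat, Cfsg.Agent.LsF.imul_pat, Cfsg.Agent.LsF.iACM_eq]; exact rfl) | exact rfl⟩
private noncomputable def _root_.Cfsg.Agent.LsF.f0ec413_5 : {f // @Cfsg.Agent.ChevFast.dz = f} := ⟨_, by first | (delta Cfsg.Agent.ChevFast.dz; rewrite [Cfsg.Agent.LsF.cond_eq]; exact rfl) | exact rfl⟩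
private noncomputable def _root_.Cfsg.Agent.LsF.f0ec413_6 : {f // @Cfsg.Agent.ChevFast.gz = f} := ⟨_, by first | (delta Cfsg.Agent.ChevFast.gz; rewrite [Cfsg.Agent.LsF.f0ec413_5.2]; exact rfl) | exact rfl⟩
private noncomputable def _root_.Cfsg.Agent.LsF.f0ec413_7 : {f // @Nat.pred = f} := ⟨_, by first | (delta Nat.pred; (try delta Nat.pow.match_1); (try delta Nat.casesOn); exact rfl) | exact rfl⟩
private noncomputable def _root_.Cfsg.Agent.LsF.f0ec413_8 : {f // @Cfsg.Agent.ChevFast.ix = f} := ⟨_, by first | (delta Cfsg.Agent.ChevFast.ix; rewrite [Cfsg.Agent.LsF.f0ec413_7.2]; exact rfl) | exact rfl⟩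
private noncomputable def _root_.Cfsg.Agent.LsF.f0ec413_9 : {f // @Cfsg.Agent.ChevFast.sg = f} := ⟨_, by first | (delta Cfsg.Agent.ChevFast.sg; rewrite [Cfsg.Agent.LsF.cond_eq]; exact rfl) | exact rfl⟩
private noncomputable def _root_.Cfsg.Agent.LsF.f0ec413_10 : {f // @Cfsg.Agent.ChevFast.dc = f} := ⟨_, by first | (delta Cfsg.Agent.ChevFast.dc; rewrite [Cfsg.Agent.LsF.f0ec413_8.2, Cfsg.Agent.LsF.f0ec413_9.2, Cfsg.Agent.LsF.cond_eq]; exact rfl) | exact rfl⟩
private noncomputable def _root_.Cfsg.Agent.LsF.f0ec413_11 : {f // @Cfsg.Agent.ChevFast.ceT = f} := ⟨_, by first | (delta Cfsg.Agent.ChevFast.ceT; rewrite [Cfsg.Agent.LsF.f0ec413_10.2]; exact rfl) | exact rfl⟩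
private noncomputable def _root_.Cfsg.Agent.LsF.f0ec413_12 : {f // @Cfsg.Agent.E7P.Hb.parL15 = f} := ⟨_, by first | (delta Cfsg.Agent.E7P.Hb.parL15; rewrite [Cfsg.Agent.LsF.isub_pat, Cfsg.Agent.LsF.imod_pat, Cfsg.Agent.LsF.ibeq_pat, Cfsg.Agent.LsF.or_eq, Cfsg.Agent.LsF.instDecEq_eq, Cfsg.Agent.LsF.all_eq, Cfsg.Agent.LsF.ite_eq]; exact rfl) | exact rfl⟩
theorem chk_low2 : (BL.all fun B => (List.range 126).all fun r => decide (-1 ≤ lev B r) || ok B r 126) = true := by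
  have h : (BL.all fun B => (List.range 126).all fun r => decide (-1 ≤ lev B r) || ok15 B r 126) = true := by
    delta ok15 Cfsg.Agent.E7P.Hb.gC Cfsg.Agent.E7P.Hb.gR Cfsg.Agent.E7P.Hb.lev Cfsg.Agent.ChevalleyStructure.Columns.cor
      Cfsg.Agent.E7P.Kf.rc Cfsg.Agent.R2.T1.cf
    rewrite [Cfsg.Agent.ChevFast.E7.cartan, F7_tab15, Cfsg.Agent.ChevFast.E7.coroot]
    ((try (rewrite [Cfsg.Agent.LsF.dMemE_pat, Cfsg.Agent.LsF.f0ec413_4.2, Cfsg.Agent.LsF.f0ec413_6.2, Cfsg.Agent.LsF.f0ec413_11.2, Cfsg.Agent.LsF.f0ec413_12.2, Cfsg.Agent.LsF.nsub_pat, Cfsg.Agent.LsF.ineg_pat, Cfsg.Agent.LsF.and_eq, Cfsg.Agent.LsF.or_eq, Cfsg.Agent.LsF.cond_eq, Cfsg.Agent.LsF.instDecEq_eq, Cfsg.Agent.LsF.decLt_eq, Cfsg.Agent.LsF.all_eq, Cfsg.Agent.LsF.any_eq, Cfsg.Agent.LsF.map_eq, Cfsg.Agent.LsF.flatMap_eq, Cfsg.Agent.LsF.range_eq, Cfsg.Agent.LsF.sum_eq, Cfsg.Agent.LsF.agetD_eq, Cfsg.Agent.LsF.instIAdd_eq, Cfsg.Agent.LsF.idecLe_eq, Cfsg.Agent.LsF.dNot_eq,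 Cfsg.Agent.LsF.ite_eq, Cfsg.Agent.LsF.decide_eq])); decide +kernel)
  simp only [List.all_eq_true, Bool.or_eq_true] at h ⊢
  exact fun B hB r hr => (h B hB r hr).imp_right (ok_of15 (BL_gd B hB).2)

theorem chk_low1 : ([[125], [125, 92]].all fun B => (List.range 126).all fun r =>
    decide (lev B r ≠ -1) || ok B r 126) = true := by
  have h : ([[125], [125, 92]].all fun B => (List.range 126).all fun r => decide (lev B r ≠ -1) || ok15 B r 126) = true := by
    delta ok15 Cfsg.Agent.E7P.Hb.gC Cfsg.Agent.E7P.Hb.gR Cfsg.Agent.E7P.Hb.lev Cfsg.Agent.ChevalleyStructure.Columns.cor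
      Cfsg.Agent.E7P.Kf.rc Cfsg.Agent.R2.T1.cf
    rewrite [Cfsg.Agent.ChevFast.E7.cartan, F7_tab15, Cfsg.Agent.ChevFast.E7.coroot]
    ((try (rewrite [Cfsg.Agent.LsF.dMemE_pat, Cfsg.Agent.LsF.f0ec413_4.2, Cfsg.Agent.LsF.f0ec413_6.2, Cfsg.Agent.LsF.f0ec413_11.2, Cfsg.Agent.LsF.f0ec413_12.2, Cfsg.Agent.LsF.nsub_pat, Cfsg.Agent.LsF.ineg_pat, Cfsg.Agent.LsF.and_eq, Cfsg.Agent.LsF.or_eq, Cfsg.Agent.LsF.cond_eq, Cfsg.Agent.LsF.instDecEq_eq, Cfsg.Agent.LsF.decLt_eq, Cfsg.Agent.LsF.all_eq, Cfsg.Agent.LsF.any_eq, Cfsg.Agent.LsF.map_eq, Cfsg.Agent.LsF.flatMap_eq, Cfsg.Agent.LsF.range_eq, Cfsg.Agent.LsF.sum_eq, Cfsg.Agent.LsF.agetD_eq, Cfsg.Agent.LsF.instIAdd_eq, Cfsg.Agent.LsF.instIDecEq_eq, Cfsg.Agent.LsF.dNot_eq, Cfsg.Agent.LsF.ite_eq, Cfsg.Agent.LsF.decide_eq])); decide +kernel)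
  have hB : ∀ B ∈ [[125], [125, 92]], ∀ b ∈ B, b < 126 := by decide
  simp only [List.all_eq_true, Bool.or_eq_true] at h ⊢
  exact fun B hb r hr => (h B hb r hr).imp_right (ok_of15 (hB B hb))

theorem chk_tri : ((List.range 126).all fun r => decide (lev [125, 92, 87] r ≠ -1) || decide (r ∈ [93, 16, 11]) ||
    decide (r ∈ [94, 22, 17]) || ok [125, 92, 87] r 126) = true := by
  have h : ((List.range 126).all fun r => decide (lev [125, 92, 87] r ≠ -1) || decide (r ∈ [93, 16, 11]) ||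
      decide (r ∈ [94, 22, 17]) || ok15 [125, 92, 87] r 126) = true := by
    delta ok15 Cfsg.Agent.E7P.Hb.gC Cfsg.Agent.E7P.Hb.gR Cfsg.Agent.E7P.Hb.lev Cfsg.Agent.ChevalleyStructure.Columns.cor
      Cfsg.Agent.E7P.Kf.rc Cfsg.Agent.R2.T1.cf
    rewrite [Cfsg.Agent.ChevFast.E7.cartan, F7_tab15, Cfsg.Agent.ChevFast.E7.coroot]
    ((try (rewrite [Cfsg.Agent.LsF.dMemE_pat, Cfsg.Agent.LsF.f0ec413_4.2, Cfsg.Agent.LsF.f0ec413_6.2, Cfsg.Agent.LsF.f0ec413_11.2, Cfsg.Agent.LsF.f0ec413_12.2, Cfsg.Agent.LsF.nsub_pat, Cfsg.Agent.LsF.ineg_pat, Cfsg.Agent.LsF.and_eq, Cfsg.Agent.LsF.or_eq, Cfsg.Agent.LsF.cond_eq, Cfsg.Agent.LsF.instDecEq_eq, Cfsg.Agent.LsF.decLt_eq, Cfsg.Agent.LsF.all_eq, Cfsg.Agent.LsF.any_eq, Cfsg.Agent.LsF.map_eq, Cfsg.Agent.LsF.flatMap_eq, Cfsg.Agent.LsF.range_eq, Cfsg.Agent.LsF.sum_eq, Cfsg.Agent.LsF.agetD_eq, Cfsg.Agent.LsF.instIAdd_eq, Cfsg.Agent.LsF.instIDecEq_eq, Cfsg.Agent.LsF.dNot_eq, Cfsg.Agent.LsF.ite_eq, Cfsg.Agent.LsF.decide_eq]));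 decide +kernel)
  simp only [List.all_eq_true, Bool.or_eq_true] at h ⊢
  exact fun r hr => (h r hr).imp_right (ok_of15 (by decide))

private noncomputable def _root_.Cfsg.Agent.LsF.f0ec413_13 : {f // @Cfsg.Agent.ChevalleyStructure.Columns.look = f} := ⟨_, by first | (delta Cfsg.Agent.ChevalleyStructure.Columns.look List.brecOn List.brecOn.go Cfsg.Agent.ChevalleyStructure.Columns.look._f; rewrite [Cfsg.Agent.LsF.cond_eq]; (try delta Cfsg.Agent.ChevalleyStructure.Columns.look.match_1); (try delta List.casesOn); first | dsimp -zeta only | exact rfl) | exact rfl⟩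
private noncomputable def _root_.Cfsg.Agent.LsF.f0ec413_14 : {f // @Cfsg.Agent.ChevalleyStructure.Columns.row = f} := ⟨_, by first | (delta Cfsg.Agent.ChevalleyStructure.Columns.row; rewrite [Cfsg.Agent.LsF.agetD_eq]; exact rfl) | exact rfl⟩
private noncomputable def _root_.Cfsg.Agent.LsF.f0ec413_15 : {f // @Cfsg.Agent.R2.T1.F7 = f} := ⟨_, by first | (delta Cfsg.Agent.R2.T1.F7; rewrite [Cfsg.Agent.LsF.f0ec413_13.2, Cfsg.Agent.LsF.f0ec413_14.2]; exact rfl) | exact rfl⟩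
private noncomputable def _root_.Cfsg.Agent.LsF.f0ec413_16 : {f // @Cfsg.Agent.E7P.Hb.par = f} := ⟨_, by first | (delta Cfsg.Agent.E7P.Hb.par; rewrite [Cfsg.Agent.LsF.isub_pat, Cfsg.Agent.LsF.imod_pat, Cfsg.Agent.LsF.ibeq_pat, Cfsg.Agent.LsF.instDecEq_eq, Cfsg.Agent.LsF.all_eq, Cfsg.Agent.LsF.range_eq, Cfsg.Agent.LsF.ite_eq]; exact rfl) | exact rfl⟩
private noncomputable def _root_.Cfsg.Agent.LsF.f0ec413_17 : {f // @Cfsg.Agent.R2.T1.cf = f} := ⟨_, by first | (delta Cfsg.Agent.R2.T1.cf; rewrite [Cfsg.Agent.LsF.f0ec413_15.2, Cfsg.Agent.LsF.instDecEq_eq, Cfsg.Agent.LsF.ite_eq]; (try delta Cfsg.Agent.R2.T1.chkR.match_1); (try delta Cfsg.Agent.R2.T1.chkR._sparseCasesOn_1); (try delta Cfsg.Agent.R2.T1.chkR._sparseCasesOn_2); exact rfl) | exact rfl⟩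
private noncomputable def _root_.Cfsg.Agent.LsF.f0ec413_18 : {f // @Cfsg.Agent.E7P.Hb.gR = f} := ⟨_, by first | (delta Cfsg.Agent.E7P.Hb.gR; rewrite [Cfsg.Agent.LsF.f0ec413_17.2, Cfsg.Agent.LsF.map_eq, Cfsg.Agent.LsF.sum_eq, Cfsg.Agent.LsF.instIAdd_eq]; exact rfl) | exact rfl⟩
private noncomputable def _root_.Cfsg.Agent.LsF.f0ec413_19 : {f // @Cfsg.Agent.ChevalleyStructure.Columns.cor = f} := ⟨_, by first | (delta Cfsg.Agent.ChevalleyStructure.Columns.cor; rewrite [Cfsg.Agent.LsF.agetD_eq]; exact rfl) | exact rfl⟩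
private noncomputable def _root_.Cfsg.Agent.LsF.f0ec413_20 : {f // @Cfsg.Agent.E7P.Hb.gC = f} := ⟨_, by first | (delta Cfsg.Agent.E7P.Hb.gC; rewrite [Cfsg.Agent.LsF.f0ec413_19.2, Cfsg.Agent.LsF.nsub_pat, Cfsg.Agent.LsF.instDecEq_eq, Cfsg.Agent.LsF.map_eq, Cfsg.Agent.LsF.sum_eq, Cfsg.Agent.LsF.instIAdd_eq, Cfsg.Agent.LsF.ite_eq]; exact rfl) | exact rfl⟩
private noncomputable def _root_.Cfsg.Agent.LsF.f0ec413_21 : {f // @Cfsg.Agent.E7P.Hb.ok = f} := ⟨_, by first | (delta Cfsg.Agent.E7P.Hb.ok; rewrite [Cfsg.Agent.LsF.dMemE_pat, Cfsg.Agent.LsF.f0ec413_15.2, Cfsg.Agent.LsF.f0ec413_16.2, Cfsg.Agent.LsF.f0ec413_18.2, Cfsg.Agent.LsF.f0ec413_20.2, Cfsg.Agent.LsF.and_eq, Cfsg.Agent.LsF.or_eq, Cfsg.Agent.LsF.instDecEq_eq, Cfsg.Agent.LsF.decLt_eq, Cfsg.Agent.LsF.any_eq, Cfsg.Agent.LsF.dNot_eq, Cfsg.Agent.LsF.decide_eq]; exact rfl) | exact rfl⟩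
theorem chk_tri2 : ([(93, 16), (93, 11), (94, 22), (94, 17)].all fun x => ok [125, 92, 87] x.1 x.2) = true := by
  ((try (rewrite [Cfsg.Agent.LsF.f0ec413_21.2, Cfsg.Agent.LsF.all_eq])); decide +kernel)

theorem chk_tri3 : ([125, 92, 87].map fun a => ([93, 16, 11].map fun b => ([94, 22, 17].map fun c =>
    cf a b (125 - c)).sum).sum).sum % 4 = 2 := by decide +kernel

private noncomputable def _root_.Cfsg.Agent.LsF.f0ec413_22 : {f // @Cfsg.Lie.ChevalleyDatum.cartan = f} := ⟨_, by first | (delta Cfsg.Lie.ChevalleyDatum.cartan; rewrite [Cfsg.Agent.LsF.agetD_eq]; exact rfl) | exact rfl⟩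
private noncomputable def _root_.Cfsg.Agent.LsF.f0ec413_23 : {f // @Cfsg.Agent.E7P.Kf.rc = f} := ⟨_, by first | (delta Cfsg.Agent.E7P.Kf.rc; rewrite [Cfsg.Agent.LsF.f0ec413_22.2]; exact rfl) | exact rfl⟩
private noncomputable def _root_.Cfsg.Agent.LsF.f0ec413_24 : {f // @Cfsg.Agent.E7P.Hb.lev = f} := ⟨_, by first | (delta Cfsg.Agent.E7P.Hb.lev; rewrite [Cfsg.Agent.LsF.f0ec413_4.2, Cfsg.Agent.LsF.f0ec413_23.2, Cfsg.Agent.LsF.map_eq, Cfsg.Agent.LsF.sum_eq, Cfsg.Agent.LsF.instIAdd_eq]; exact rfl) | exact rfl⟩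
theorem chk_tri4 : ∀ r ∈ [93, 16, 11, 94, 22, 17], lev [125, 92, 87] r = -1 := by (refine of_decide_eq_true ?_; (try (rewrite [Cfsg.Agent.LsF.f0ec413_24.2, Cfsg.Agent.LsF.ineg_pat, Cfsg.Agent.LsF.instIDecEq_eq, Cfsg.Agent.LsF.dBAll_eq, Cfsg.Agent.LsF.decide_eq])); decide +kernel)

private noncomputable def _root_.Cfsg.Agent.LsF.f0ec413_25 : {f // @Cfsg.Agent.R2.T2.Alg.zc = f} := ⟨_, by first | (delta Cfsg.Agent.R2.T2.Alg.zc; rewrite [Cfsg.Agent.LsF.getD_eq]; exact rfl) | exact rfl⟩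
theorem chk_free : ([[125, 92, 63], [125, 92, 87, 63]].all fun B =>
    ((List.range 126).all fun m => ([0, 33, 62].map (gR B m)).sum % 2 == 0) &&
    (List.range 7).all fun i => (([0, 33, 62].map (gC B [i])).sum - R2.T2.Alg.zc i) % 2 == 0) = true := by
  ((try (rewrite [Cfsg.Agent.LsF.f0ec413_18.2, Cfsg.Agent.LsF.f0ec413_20.2, Cfsg.Agent.LsF.f0ec413_25.2, Cfsg.Agent.LsF.isub_pat, Cfsg.Agent.LsF.imod_pat, Cfsg.Agent.LsF.ibeq_pat, Cfsg.Agent.LsF.and_eq, Cfsg.Agent.LsF.all_eq, Cfsg.Agent.LsF.map_eq, Cfsg.Agent.LsF.range_eq, Cfsg.Agent.LsF.sum_eq, Cfsg.Agent.LsF.instIAdd_eq])); decide +kernel)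

section
variable {K : Type u} [Field K] {B : List ℕ} {y : chevE7.Idx → K} {a : chevE7.Idx}

theorem lev_two {R : Type*} [CommRing R] (hB : B ∈ BL) (h : ind R B a ≠ 0) : lvI B a = 2 := by
  obtain ⟨r, rfl, hr⟩ := ind_ne h
  exact beq_iff_eq.1 (List.all_eq_true.1 (List.all_eq_true.1 chk_two B hB) r hr)

theorem low2 (h2 : (2 : K) = 0) (hB : B ∈ BL) (hy : Cm (ind K B) y) (ha : y a ≠ 0) : -1 ≤ lvI B a := by
  rcases a with i | r
  · rw [lvI_inl]
    decide
  · rcases Bool.or_eq_true _ _ ▸ List.all_eq_true.1 (List.all_eq_true.1 chk_low2 B hB) r (List.mem_range.2 r.2) with h | h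
    · exact of_decide_eq_true h
    · exact absurd (ok_zero h2 (BL_gd B hB) h hy) ha

theorem low1 (h2 : (2 : K) = 0) (hB : B ∈ [[125], [125, 92]]) (hy : Cm (ind K B) y) (ha : y a ≠ 0) : 0 ≤ lvI B a := by
  have hB' : B ∈ BL := List.mem_append_left [[125, 92, 63], [125, 92, 87], [125, 92, 87, 63]] hB
  have h1 := low2 h2 hB' hy ha
  rcases a with i | r
  · rw [lvI_inl]
  · rcases Bool.or_eq_true _ _ ▸ List.all_eq_true.1 (List.all_eq_true.1 chk_low1 B hB) r (List.mem_range.2 r.2) with h | h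
    · have h3 : lvI B (Sum.inr r) ≠ -1 := of_decide_eq_true h
      omega
    · exact absurd (ok_zero h2 (BL_gd B hB') h hy) ha

theorem tri (h2 : (2 : K) = 0) (hy : Cm (ind K [125, 92, 87]) y) (ha : lvI [125, 92, 87] a < 0) :
    y a = yy y 93 * ind K [93, 16, 11] a + yy y 94 * ind K [94, 22, 17] a := by
  have hB : [125, 92, 87] ∈ BL := by decide
  have key : ∀ x ∈ [(93, 16), (93, 11), (94, 22), (94, 17)], yy y x.2 = yy y x.1 := fun x hx => by
    have h1 := ok_spec h2 (BL_gd _ hB) (List.all_eq_true.1 chk_tri2 x hx) hy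
    rw [eq_neg_of_add_eq_zero_right h1, neg_eq h2]
  rcases a with i | r
  · rw [lvI_inl] at ha
    exact absurd ha (lt_irrefl _)
  rw [ind_inr, ind_inr]
  by_cases h1 : r.val ∈ [93, 16, 11]
  · have h3 : ∀ s ∈ [93, 16, 11], s ∉ [94, 22, 17] := by decide
    rw [if_pos h1, if_neg (h3 _ h1), mul_one, mul_zero, add_zero, ← yy_val y r]
    simp only [List.mem_cons, List.not_mem_nil, or_false] at h1
    rcases h1 with h | h | h <;> rw [h]
    · exact key (93, 16) (by decide)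
    · exact key (93, 11) (by decide)
  by_cases h3 : r.val ∈ [94, 22, 17]
  · rw [if_neg h1, if_pos h3, mul_one, mul_zero, zero_add, ← yy_val y r]
    simp only [List.mem_cons, List.not_mem_nil, or_false] at h3
    rcases h3 with h | h | h <;> rw [h]
    · exact key (94, 22) (by decide)
    · exact key (94, 17) (by decide)
  rw [if_neg h1, if_neg h3, mul_zero, mul_zero, add_zero]
  by_contra h0
  have h4 := low2 h2 hB hy h0
  have h5 := List.all_eq_true.1 chk_tri r (List.mem_range.2 r.2)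
  simp only [Bool.or_eq_true, decide_eq_true_eq] at h5
  rcases h5 with ((h | h) | h) | h
  · rw [lvI_inr] at h4 ha
    omega
  · exact h1 h
  · exact h3 h
  · exact h0 (ok_zero h2 (BL_gd _ hB) h hy)

theorem free_ind (h2 : (2 : K) = 0) (hB : B ∈ [[125, 92, 63], [125, 92, 87, 63]]) :
    br K (ind K B) (ind K [0, 33, 62]) = zv K := by
  have hB' : B ∈ BL := (show ∀ B ∈ [[125, 92, 63], [125, 92, 87, 63]], B ∈ BL by decide) B hB
  have h1 := List.all_eq_true.1 chk_free B hB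
  rw [Bool.and_eq_true] at h1
  have h3 : ∀ m, br K (ind K B) (ind K [0, 33, 62]) m = ([0, 33, 62].map fun s => br K (ind K B) (ind K [s]) m).sum :=
    fun m => lin_ind ((LinearMap.proj m) ∘ₗ br K (ind K B)) (by decide)
  have h4 : ∀ (s : Fin chevE7.nroots) m, br K (ind K B) (ind K [s.val]) m =
      (((B.map fun r => EZ r m (Sum.inr s)).sum : ℤ) : K) := fun s m => by
    rw [br_ind (BL_gd B hB'), ind_one, Finset.sum_eq_single (Sum.inr s), Pi.single_eq_same, mul_one]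
    · intro b _ hb
      rw [Pi.single_eq_of_ne hb, mul_zero]
    · simp only [_root_.Finset.mem_univ, _root_.not_true_eq_false, _root_.Int.cast_list_sum, _root_.List.map_map, _root_.Pi.single_eq_same, _root_.mul_one, _root_.IsEmpty.forall_iff]
  funext m
  rw [h3]
  simp only [List.map_cons, List.map_nil, List.sum_cons, List.sum_nil]
  rw [h4 ⟨0, by decide⟩, h4 ⟨33, by decide⟩, h4 ⟨62, by decide⟩]
  rcases m with i | u
  · have h5 := cast_even h2 (beq_iff_eq.1 (List.all_eq_true.1 h1.2 i (List.mem_range.2 i.2)))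
    rw [Int.cast_sub, sub_eq_zero] at h5
    refine Eq.trans ?_ h5
    simp only [gC, List.map_cons, List.map_nil, List.sum_cons, List.sum_nil, Int.cast_add, add_zero]
    rfl
  · have h5 := cast_even h2 (beq_iff_eq.1 (List.all_eq_true.1 h1.1 u (List.mem_range.2 u.2)))
    refine Eq.trans ?_ h5
    simp only [gR, List.map_cons, List.map_nil, List.sum_cons, List.sum_nil, Int.cast_add, add_zero]
    rfl

end

/-- **the form does not vanish** in the triangle case -/
theorem Lf.om_tri {k : Type u} [Field k] {R : Type u} [CommRing R] [IsDomain R] (L : Lf k R) {y z : chevE7.Idx → k}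
    (h : Cm3 (ind k [125, 92, 87]) y z) (hy : ∀ a, lvI [125, 92, 87] a < 0 → y a = ind k [93, 16, 11] a)
    (hz : ∀ a, lvI [125, 92, 87] a < 0 → z a = ind k [94, 22, 17] a) : L.om (ind k [125, 92, 87]) y z ≠ 0 := by
  classical
  have hB : [125, 92, 87] ∈ BL := by decide
  have lift : ∀ (C : List ℕ) (y : chevE7.Idx → k), (∀ a, lvI [125, 92, 87] a < 0 → y a = ind k C a) →
      ∃ y' : chevE7.Idx → R, y = L.π ∘ (ind R C + y') ∧ ∀ a, y' a ≠ 0 → 0 ≤ lvI [125, 92, 87] a := by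
    intro C y hy
    refine ⟨fun a => if lvI [125, 92, 87] a < 0 then 0 else L.sec (y a - ind k C a), funext fun a => ?_,
      fun a ha => not_lt.1 fun h1 => ha (if_pos h1)⟩
    rw [Function.comp_apply, Pi.add_apply, map_add, show L.π (ind R C a) = ind k C a from congrFun (comp_ind L.π C) a]
    by_cases h1 : lvI [125, 92, 87] a < 0
    · rw [if_pos h1, map_zero, add_zero, hy a h1]
    · rw [if_neg h1, L.π_sec, add_sub_cancel]
  obtain ⟨y', rfl, h1⟩ := lift _ y hy
  obtain ⟨z', rfl, h2⟩ := lift _ z hz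
  have h3 : ∀ a, ind R [93, 16, 11] a ≠ 0 → lvI [125, 92, 87] a = -1 := fun a ha => by
    obtain ⟨r, rfl, hr⟩ := ind_ne ha
    exact chk_tri4 r (List.mem_append_left [94, 22, 17] hr)
  have h4 : ∀ a, ind R [94, 22, 17] a ≠ 0 → lvI [125, 92, 87] a = -1 := fun a ha => by
    obtain ⟨r, rfl, hr⟩ := ind_ne ha
    exact chk_tri4 r (List.mem_append_right [93, 16, 11] hr)
  have van : ∀ (y z : chevE7.Idx → R), (∀ b c, y b ≠ 0 → z c ≠ 0 → -1 ≤ lvI [125, 92, 87] b + lvI [125, 92, 87] c) →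
      phi R (ind R [125, 92, 87]) y z = 0 := fun y z h => phi_zero fun a b c ha hb hc e => by
    have h5 := lvI_sum (BL_gd _ hB).2 e
    have h6 := lev_two hB ha
    have h7 := h b c hb hc
    omega
  obtain ⟨q, hq⟩ : ∃ q : ℤ, ([125, 92, 87].map fun a => ([93, 16, 11].map fun b => ([94, 22, 17].map fun c =>
      cf a b (125 - c)).sum).sum).sum = 2 * (2 * q + 1) := by
    have key : ∀ n : ℤ, n % 4 = 2 → ∃ q, n = 2 * (2 * q + 1) := fun n hn => ⟨n / 4, by omega⟩
    exact key _ chk_tri3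
  rw [← comp_ind L.π] at h ⊢
  rw [L.om_eq h (d := 2 * q + 1)]
  · rw [map_add, map_mul, map_ofNat, L.two_k, zero_mul, zero_add, map_one]
    exact one_ne_zero
  · rw [map_add, map_add, LinearMap.add_apply, LinearMap.add_apply, van _ z' fun b c hb hc => by
        have := h3 b hb
        have := h2 c hc
        omega, van y' _ fun b c hb hc => by
        have := h1 b hb
        have := h4 c hc
        omega, van y' z' fun b c hb hc => by
        have := h1 b hb
        have := h2 c hc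
        omega, add_zero, add_zero, add_zero, phi_ind (BL_gd _ hB) (by unfold Gd; decide) (by unfold Gd; decide), hq]
    push_cast
    rfl

end Cfsg.Agent.E7P.Hb
end

-- part: E7P/P2/HbPen
section
/-!
# S5932, `p = 2`, Case 2b: linear algebra (helper92)

* `Hb.pencil` : commuting operators of square zero, all of them free : `2 ^ d` divides the dimension;
* `Hb.ker_big` : the common kernel of commuting operators of square zero is large;
* `Hb.sum_pos`, `Hb.exists_eig`.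
-/

set_option autoImplicit false

namespace Cfsg.Agent.E7P.Hb

open Module

universe u v

variable {k : Type u} [Field k]

/-- two commuting operators, such that all the combinations are free -/
theorem pen_step [IsAlgClosed k] {V : Type v} [AddCommGroup V] [Module k V] [FiniteDimensional k V] {x y : End k V}
    (hx : x * x = 0) (hy : y * y = 0) (hc : x * y = y * x) (hf : ∀ v, x v = 0 → ∃ u, v = x u)
    (hg : ∀ (c : k) v, (y - c • x) v = 0 → ∃ u, v = (y - c • x) u) {v : V} (h1 : x v = 0) (h2 : y v = 0) :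
    ∃ u, v = y (x u) := by
  have hx' : ∀ u, x (x u) = 0 := fun u => LinearMap.congr_fun hx u
  have hy' : ∀ u, y (y u) = 0 := fun u => LinearMap.congr_fun hy u
  have hc' : ∀ u, x (y u) = y (x u) := fun u => LinearMap.congr_fun hc u
  -- `A = {u | x y u = 0}`, `B = ker x + ker y`-like subspace
  let N : Submodule k V := LinearMap.ker x ⊓ LinearMap.ker y
  let M : Submodule k V := LinearMap.range (y * x)
  let A : Submodule k V := LinearMap.ker (y * x)
  let M' : Submodule k N := M.comap N.subtype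
  let p : A →ₗ[k] N := LinearMap.codRestrict N (x ∘ₗ A.subtype) fun u => ⟨hx' _, u.2⟩
  let q : A →ₗ[k] N := LinearMap.codRestrict N (y ∘ₗ A.subtype) fun u => ⟨(hc' _).trans u.2, hy' _⟩
  let p' : A →ₗ[k] (N ⧸ M') := M'.mkQ ∘ₗ p
  let q' : A →ₗ[k] (N ⧸ M') := M'.mkQ ∘ₗ q
  have hps : Function.Surjective p' := by
    refine M'.mkQ_surjective.comp ?_
    rintro ⟨w, hw1, hw2⟩
    obtain ⟨u, rfl⟩ := hf w hw1
    exact ⟨⟨u, hw2⟩, rfl⟩
  have hker : LinearMap.ker p' ≤ LinearMap.ker q' := by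
    intro u hu
    obtain ⟨w, hw⟩ : x u ∈ M := (Submodule.Quotient.mk_eq_zero M').1 hu
    have h3 : x (u - y w) = 0 := by rw [map_sub, hc', ← hw]; exact sub_self _
    obtain ⟨t, ht⟩ := hf _ h3
    refine (Submodule.Quotient.mk_eq_zero M').2 ⟨t, ?_⟩
    show y (x t) = y u
    rw [← ht, map_sub, hy', sub_zero]
  let φ : End k (N ⧸ M') := ((LinearMap.ker p').liftQ q' hker) ∘ₗ (p'.quotKerEquivOfSurjective hps).symm.toLinearMap
  have hφ : ∀ u, φ (p' u) = q' u := fun u => by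
    have h3 : (p'.quotKerEquivOfSurjective hps).symm (p' u) = (LinearMap.ker p').mkQ u :=
      (LinearEquiv.symm_apply_eq _).2 rfl
    show ((LinearMap.ker p').liftQ q' hker) ((p'.quotKerEquivOfSurjective hps).symm (p' u)) = _
    rw [h3]
    rfl
  by_contra hne
  have hnt : Nontrivial (N ⧸ M') := ⟨⟨M'.mkQ ⟨v, h1, h2⟩, 0, fun h => hne (by
    obtain ⟨w, hw⟩ : v ∈ M := (Submodule.Quotient.mk_eq_zero M').1 h
    exact ⟨w, hw.symm⟩)⟩⟩
  obtain ⟨c, hc0⟩ := End.exists_eigenvalue φ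
  obtain ⟨e, he⟩ := hc0.exists_hasEigenvector
  obtain ⟨u, rfl⟩ := hps e
  have h3 : M'.mkQ (q u - c • p u) = 0 := by
    rw [map_sub, map_smul]
    exact sub_eq_zero.2 ((hφ u).symm.trans he.apply_eq_smul)
  obtain ⟨w, hw⟩ : y u - c • x u ∈ M := (Submodule.Quotient.mk_eq_zero M').1 h3
  have hw' : y (x w) = y u - c • x u := hw
  obtain ⟨t, ht⟩ := hg c (u - x w) (by
    rw [map_sub, LinearMap.sub_apply, LinearMap.sub_apply, LinearMap.smul_apply, LinearMap.smul_apply, hx', smul_zero,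
      sub_zero, hw', sub_self])
  refine he.2 ((Submodule.Quotient.mk_eq_zero M').2 ⟨t, ?_⟩)
  show y (x t) = x u
  have h4 := congrArg x ht
  rw [map_sub, hx', sub_zero, LinearMap.sub_apply, LinearMap.smul_apply, map_sub, map_smul, hx', smul_zero, sub_zero,
    hc'] at h4
  exact h4.symm

/-- **the pencil lemma** -/
theorem pencil [IsAlgClosed k] (d : ℕ) : ∀ {V : Type v} [AddCommGroup V] [Module k V] [FiniteDimensional k V]
    (f : (Fin d → k) →ₗ[k] End k V), (∀ a, f a * f a = 0) → (∀ a b, f a * f b = f b * f a) →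
    (∀ a, a ≠ 0 → ∀ v, f a v = 0 → ∃ u, v = f a u) → 2 ^ d ∣ finrank k V := by
  induction d with
  | zero => intros; exact one_dvd _
  | succ d ih =>
    intro V _ _ _ f h1 h2 h3
    let x := f (Pi.single 0 1)
    have hx0 : (Pi.single 0 1 : Fin (d + 1) → k) ≠ 0 := fun h => by simpa using congrFun h 0
    let N : Submodule k V := LinearMap.ker x
    have hN : LinearMap.range x = N := le_antisymm (by
      rintro _ ⟨u, rfl⟩
      exact LinearMap.congr_fun (h1 _) u) fun v hv => by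
        obtain ⟨u, hu⟩ := h3 _ hx0 v hv
        exact ⟨u, hu.symm⟩
    have hdim : finrank k V = finrank k N * 2 := by
      have h4 := LinearMap.finrank_range_add_finrank_ker x
      rw [hN] at h4
      rw [← h4, mul_two]
    let j : (Fin d → k) →ₗ[k] (Fin (d + 1) → k) := LinearMap.pi fun i => Fin.cases 0 (fun i => LinearMap.proj i) i
    have hst : ∀ a, ∀ v ∈ N, f a v ∈ N := fun a v hv => by
      have h4 : x (f a v) = f a (x v) := LinearMap.congr_fun (h2 _ a) v
      show x (f a v) = 0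
      rw [h4, show x v = 0 from hv, map_zero]
    let g : (Fin d → k) →ₗ[k] End k N :=
      { toFun := fun a => (f (j a)).restrict (hst _)
        map_add' := fun a b => LinearMap.ext fun v => Subtype.ext (by
          show f (j (a + b)) v = f (j a) v + f (j b) v
          rw [map_add, map_add, LinearMap.add_apply])
        map_smul' := fun c a => LinearMap.ext fun v => Subtype.ext (by
          show f (j (c • a)) v = c • f (j a) v
          rw [map_smul, map_smul, LinearMap.smul_apply]) }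
    rw [hdim, pow_succ]
    refine Nat.mul_dvd_mul_right (ih g (fun a => LinearMap.ext fun v => Subtype.ext (LinearMap.congr_fun (h1 (j a)) v))
      (fun a b => LinearMap.ext fun v => Subtype.ext (LinearMap.congr_fun (h2 (j a) (j b)) v)) fun a ha v hv => ?_) 2
    obtain ⟨u, hu⟩ := pen_step (x := x) (y := f (j a)) (h1 _) (h1 _) (h2 _ _) (h3 _ hx0) (fun c w hw => by
      have h4 : f (j a) - c • x = f (j a - c • Pi.single 0 1) := by rw [map_sub, map_smul]
      rw [h4] at hw ⊢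
      refine h3 _ (fun h => ha (funext fun i => ?_)) w hw
      have h5 := congrFun h i.succ
      rw [Pi.sub_apply, Pi.smul_apply, Pi.single_eq_of_ne (Fin.succ_ne_zero i), smul_zero, sub_zero] at h5
      exact h5) v.2 (congrArg Subtype.val hv)
    exact ⟨⟨x u, LinearMap.congr_fun (h1 _) u⟩, Subtype.ext hu⟩

/-- the pencil lemma for a subspace -/
theorem pencil' [IsAlgClosed k] {V : Type v} [AddCommGroup V] [Module k V] [FiniteDimensional k V] {U : Type*}
    [AddCommGroup U] [Module k U] [FiniteDimensional k U] (f : U →ₗ[k] End k V) (h1 : ∀ a, f a * f a = 0)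
    (h2 : ∀ a b, f a * f b = f b * f a) (h3 : ∀ a, a ≠ 0 → ∀ v, f a v = 0 → ∃ u, v = f a u) :
    2 ^ finrank k U ∣ finrank k V := by
  let e := (Module.finBasis k U).equivFun.symm
  exact pencil _ (f ∘ₗ e.toLinearMap) (fun a => h1 _) (fun a b => h2 _ _) fun a ha => h3 _ (e.map_ne_zero_iff.2 ha)

theorem finrank_inf_ker {V : Type v} [AddCommGroup V] [Module k V] [FiniteDimensional k V] {V' : Type*}
    [AddCommGroup V'] [Module k V'] (f : V →ₗ[k] V') (A : Submodule k V) :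
    finrank k (A.map f) + finrank k ↥(A ⊓ LinearMap.ker f) = finrank k A := by
  have h1 := LinearMap.finrank_range_add_finrank_ker (f ∘ₗ A.subtype)
  rw [LinearMap.range_comp, Submodule.range_subtype, LinearMap.ker_comp] at h1
  rw [← h1, ← Submodule.finrank_map_subtype_eq A ((LinearMap.ker f).comap A.subtype), Submodule.map_comap_subtype]

/-- the common kernel of a list of linear maps -/
def kers {V : Type v} [AddCommGroup V] [Module k V] {V' : Type*} [AddCommGroup V'] [Module k V'] (A : Submodule k V)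
    (l : List (V →ₗ[k] V')) : Submodule k V where
  carrier := {v | v ∈ A ∧ ∀ f ∈ l, f v = 0}
  zero_mem' := ⟨zero_mem _, fun _ _ => map_zero _⟩
  add_mem' := fun h h' => ⟨add_mem h.1 h'.1, fun f hf => by rw [map_add, h.2 f hf, h'.2 f hf, add_zero]⟩
  smul_mem' := fun c _ h => ⟨A.smul_mem c h.1, fun f hf => by rw [map_smul, h.2 f hf, smul_zero]⟩

section
variable {V : Type v} [AddCommGroup V] [Module k V] {V' : Type*} [AddCommGroup V'] [Module k V'] (A : Submodule k V)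

theorem kers_nil : kers A ([] : List (V →ₗ[k] V')) = A := Submodule.ext fun _ => ⟨fun h => h.1, fun h => ⟨h, by simp⟩⟩

theorem kers_cons (f : V →ₗ[k] V') (l : List (V →ₗ[k] V')) : kers A (f :: l) = kers A l ⊓ LinearMap.ker f :=
  Submodule.ext fun _ => ⟨fun h => ⟨⟨h.1, fun g hg => h.2 g (List.mem_cons_of_mem _ hg)⟩, h.2 f List.mem_cons_self⟩,
    fun h => ⟨h.1.1, fun g hg => (List.mem_cons.1 hg).elim (fun e => e ▸ h.2) (h.1.2 g)⟩⟩

/-- maps with values in a line -/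
theorem ker_line [FiniteDimensional k V] [FiniteDimensional k V'] {Z : Submodule k V'} (hZ : finrank k Z = 1)
    (l : List (V →ₗ[k] V')) (h : ∀ f ∈ l, ∀ v ∈ A, f v ∈ Z) : finrank k A ≤ finrank k (kers A l) + l.length := by
  induction l with
  | nil => rw [kers_nil]; exact le_rfl
  | cons f l ih =>
    have h1 := ih fun g hg => h g (List.mem_cons_of_mem _ hg)
    have h2 := finrank_inf_ker f (kers A l)
    have h3 : (kers A l).map f ≤ Z := by
      rintro _ ⟨v, hv, rfl⟩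
      exact h f List.mem_cons_self v hv.1
    have h4 := Submodule.finrank_mono h3
    rw [kers_cons, List.length_cons]
    omega

/-- commuting operators of square zero -/
theorem ker_big [FiniteDimensional k V] (l : List (End k V)) (h1 : ∀ f ∈ l, ∀ v, f (f v) = 0)
    (h2 : ∀ f ∈ l, ∀ g ∈ l, ∀ v, f (g v) = g (f v)) : finrank k V ≤ 2 ^ l.length * finrank k (kers ⊤ l) := by
  induction l with
  | nil => rw [kers_nil, finrank_top]; simp
  | cons f l ih =>
    have h3 := ih (fun g hg => h1 g (List.mem_cons_of_mem _ hg))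
      fun g hg g' hg' => h2 g (List.mem_cons_of_mem _ hg) g' (List.mem_cons_of_mem _ hg')
    have h4 := finrank_inf_ker f (kers ⊤ l)
    have h5 : (kers ⊤ l).map f ≤ kers ⊤ l ⊓ LinearMap.ker f := by
      rintro _ ⟨v, hv, rfl⟩
      refine ⟨⟨trivial, fun g hg => ?_⟩, h1 f List.mem_cons_self v⟩
      rw [h2 g (List.mem_cons_of_mem _ hg) f List.mem_cons_self, hv.2 g hg, map_zero]
    have h6 := Submodule.finrank_mono h5
    rw [kers_cons, List.length_cons, pow_succ, mul_assoc]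
    exact h3.trans (Nat.mul_le_mul_left _ (by omega))

end

/-- positive sums -/
theorem sum_pos {ι : Type*} [Fintype ι] (f : ι → ℤ) {t0 : ι} (h0 : f t0 = 2) (h1 : ∀ t, -1 ≤ f t)
    (h2 : ∀ t t', f t < 0 → f t' < 0 → t = t') : 0 < ∑ t, f t := by
  classical
  by_cases h : ∃ t, f t < 0
  · obtain ⟨t, ht⟩ := h
    have hne : t ≠ t0 := fun e => by rw [e] at ht; omega
    rw [← Finset.add_sum_erase _ _ (Finset.mem_univ t0),
      ← Finset.add_sum_erase _ _ (Finset.mem_erase.2 ⟨hne, Finset.mem_univ t⟩)]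
    have h3 : 0 ≤ ∑ s ∈ (Finset.univ.erase t0).erase t, f s := Finset.sum_nonneg fun s hs => by
      by_contra h4
      exact (Finset.mem_erase.1 hs).1 (h2 s t (not_le.1 h4) ht)
    have := h1 t
    omega
  · push Not at h
    have h3 := Finset.single_le_sum (f := f) (fun t _ => h t) (Finset.mem_univ t0)
    omega

/-- an operator of odd order which acts non-trivially has an eigenvalue `≠ 1` -/
theorem exists_eig [IsAlgClosed k] {V : Type v} [AddCommGroup V] [Module k V] [FiniteDimensional k V] (f : End k V)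
    {n : ℕ} (hn : (n : k) ≠ 0) (hf : f ^ n = 1) (W : Submodule k V) (hW : ∀ v ∈ W, f v ∈ W) {w : V} (hw : w ∈ W)
    (hne : f w ≠ w) : ∃ v ∈ W, v ≠ 0 ∧ ∃ c : k, c ≠ 1 ∧ c ^ n = 1 ∧ f v = c • v := by
  let M : Submodule k V := W.map (f - 1)
  have hM : ∀ v ∈ M, f v ∈ M := by
    rintro _ ⟨u, hu, rfl⟩
    exact ⟨f u, hW u hu, by simp only [_root_.LinearMap.sub_apply, _root_.Module.End.one_apply, _root_.map_sub]⟩
  have hnt : Nontrivial M := ⟨⟨⟨_, w, hw, rfl⟩, 0, fun h => hne (sub_eq_zero.1 (congrArg Subtype.val h))⟩⟩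
  obtain ⟨c, hc⟩ := End.exists_eigenvalue (f.restrict hM)
  obtain ⟨⟨v, u, hu, rfl⟩, he⟩ := hc.exists_hasEigenvector
  have h0 : (f - 1) u ≠ 0 := fun h => he.2 (Subtype.ext h)
  have h1 : f ((f - 1) u) = c • (f - 1) u := congrArg Subtype.val he.apply_eq_smul
  refine ⟨_, sub_mem (hW u hu) hu, h0, c, ?_, ?_, h1⟩
  · rintro rfl
    rw [one_smul] at h1
    have h2 : ∀ m : ℕ, (f ^ m) u = u + (m : k) • (f - 1) u := by
      intro m
      induction m with
      | zero => simp only [_root_.pow_zero, _root_.Module.End.one_apply, _root_.Nat.cast_zero, _root_.LinearMap.sub_apply, _root_.zero_smul, _root_.add_zero]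
      | succ m ih =>
        rw [pow_succ', End.mul_apply, ih, map_add, map_smul, h1, Nat.cast_succ, add_smul, one_smul]
        simp only [LinearMap.sub_apply, End.one_apply]
        abel
    have h3 := h2 n
    rw [hf, End.one_apply, left_eq_add, smul_eq_zero] at h3
    exact h3.elim hn h0
  · have h2 : ∀ m : ℕ, (f ^ m) ((f - 1) u) = c ^ m • (f - 1) u := by
      intro m
      induction m with
      | zero => simp
      | succ m ih => rw [pow_succ', End.mul_apply, ih, map_smul, h1, smul_smul, pow_succ]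
    have h3 := h2 n
    rw [hf, End.one_apply] at h3
    exact smul_left_injective k h0 (by
      show c ^ n • (f - 1) u = (1 : k) • (f - 1) u
      rw [one_smul, ← h3])

end Cfsg.Agent.E7P.Hb
end

-- part: E7P/P2/CaG
section
/-!
# S5932, `p = 2` : the top space of `ω₂` in the 56-dimensional module (helper98)

* `Ca.Sp K n` : the span of the first `n` vectors of the chain `ω₇, ω₇ - α₇, …` (the top spaces of `ω₇, ω₆, ω₅, ω₄, ω₂` for
  `n = 1, 2, 3, 4, 7`);
* `Ca.real` : every invertible matrix on `Sp K 7` is induced by an element of the group;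
* `Ca.gauss` : the stabiliser of a subspace of dimension 2 or 4 of `Sp K 7` is conjugate into `P_{ω₆}` or `P_{ω₄}`.
-/

set_option autoImplicit false
set_option maxRecDepth 100000

namespace Cfsg.Agent.E7P.Ca

open Cfsg Cfsg.Lie Matrix Module
open Cfsg.Agent.ChevalleyStructure.RootVec
open Cfsg.Agent.H943.E7V.Block (D1 rho)
open Cfsg.Agent.R2.T1 Cfsg.Agent.E7P.Kf
open Cfsg.Agent.R2.PX (mmn)

universe u

variable {K : Type u} [Field K]

/-- the chain of weights -/
def tl : List ℕ := [238, 237, 236, 235, 234, 233, 225]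

theorem tl_ok : ∀ i : Fin 7, tl.getD i 0 < chevE8.nroots ∧ rt chevE8 (tl.getD i 0) 7 = 1 := by decide +kernel

/-- the chain of weights -/
def tw (i : Fin 7) : D1 := ⟨⟨tl.getD i 0, (tl_ok i).1⟩, (tl_ok i).2⟩

theorem tw_inj {i j : Fin 7} (h : tw i = tw j) : i = j :=
  (by decide : ∀ i j : Fin 7, tl.getD i 0 = tl.getD j 0 → i = j) i j (congrArg nn h)

/-- the roots `tw i - tw j` -/
def RR (i j : Fin 7) : ℕ := ([[0, 63, 65, 68, 72, 77, 98], [62, 0, 64, 67, 71, 76, 97], [60, 61, 0, 66, 70, 75, 96],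
  [57, 58, 59, 0, 69, 74, 95], [53, 54, 55, 56, 0, 73, 94], [48, 49, 50, 51, 52, 0, 93],
  [27, 28, 29, 30, 31, 32, 0]].getD i []).getD j 0

private noncomputable def _root_.Cfsg.Agent.LsF.f0ec413_26 : {f // @Cfsg.Agent.E7P.Ca.RR = f} := ⟨_, by first | (delta Cfsg.Agent.E7P.Ca.RR; rewrite [Cfsg.Agent.LsF.getD_eq]; exact rfl) | exact rfl⟩
private noncomputable def _root_.Cfsg.Agent.LsF.f0ec413_27 : {f // @Cfsg.Agent.R2.T1.F56 = f} := ⟨_, by first | (delta Cfsg.Agent.R2.T1.F56; rewrite [Cfsg.Agent.LsF.map_eq, Cfsg.Agent.LsF.filter_eq, Cfsg.Agent.LsF.getD_eq]; exact rfl) | exact rfl⟩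
private noncomputable def _root_.Cfsg.Agent.LsF.f0ec413_28 : {f // @Cfsg.Agent.R2.T1.mv = f} := ⟨_, by first | (delta Cfsg.Agent.R2.T1.mv List.head?; rewrite [Cfsg.Agent.LsF.f0ec413_27.2]; (try delta List.getLast?.match_1); (try delta List.casesOn); exact rfl) | exact rfl⟩
theorem chk_RR : ∀ i j : Fin 7, i ≠ j → RR i j < 126 ∧ ∀ l : Fin 7,
    mv (RR i j) (tl.getD l 0) = if l = j then some (tl.getD i 0, 1) else none := by (refine of_decide_eq_true ?_; (try (rewrite [Cfsg.Agent.LsF.f0ec413_26.2, Cfsg.Agent.LsF.f0ec413_28.2, Cfsg.Agent.LsF.dProdEq_eq, Cfsg.Agent.LsF.instDecEq_eq, Cfsg.Agent.LsF.decLt_eq, Cfsg.Agent.LsF.getD_eq, Cfsg.Agent.LsF.instIDecEq_eq, Cfsg.Agent.LsF.dAnd_eq, Cfsg.Agent.LsF.dNot_eq, Cfsg.Agent.LsF.dFinEq_eq, Cfsg.Agent.LsF.dForallFin_eq, Cfsg.Agent.LsF.dAllP_eq, Cfsg.Agent.LsF.dOptEq_eq, Cfsg.Agent.LsF.ite_eq, Cfsg.Agent.LsF.decide_eq])); decide +kernel)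

theorem chk_wc : ∀ l : Fin 7, wc (tw l) = ![![0, 0, 0, 0, 0, 0, 1], ![0, 0, 0, 0, 0, 1, -1], ![0, 0, 0, 0, 1, -1, 0],
    ![0, 0, 0, 1, -1, 0, 0], ![0, 1, 1, -1, 0, 0, 0], ![1, 1, -1, 0, 0, 0, 0], ![-1, 1, 0, 0, 0, 0, 0]] l := by
  (delta Cfsg.Agent.E7P.Kf.wc; rewrite [Cfsg.Agent.ChevFast.E8.cartan]; decide +kernel)

variable (K) in
/-- the embedding -/
def Em : Matrix D1 (Fin 7) K := of fun s i => if s = tw i then 1 else 0

theorem mul_Em (A : Matrix D1 D1 K) (s : D1) (l : Fin 7) : (A * Em K) s l = A s (tw l) := by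
  simp only [mul_apply, Em, _root_.Matrix.of_apply, _root_.mul_ite, _root_.mul_one, _root_.MulZeroClass.mul_zero, _root_.Finset.sum_ite_eq', _root_.Finset.mem_univ, ↓ _root_.reduceIte]

theorem Em_tw (c : Fin 7 → K) (i : Fin 7) : (Em K *ᵥ c) (tw i) = c i := by
  rw [mulVec, dotProduct, Finset.sum_eq_single i (fun j _ hj => by
    rw [Em, of_apply, if_neg fun e => hj (tw_inj e).symm, zero_mul]) fun h => absurd (Finset.mem_univ _) h,
    Em, of_apply, if_pos rfl, one_mul]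

theorem Em_ne {c : Fin 7 → K} {s : D1} (h : (Em K *ᵥ c) s ≠ 0) : ∃ i, s = tw i ∧ c i ≠ 0 := by
  obtain ⟨i, -, hi⟩ := Finset.exists_ne_zero_of_sum_ne_zero (show ∑ i, Em K s i * c i ≠ 0 from h)
  refine ⟨i, ?_, right_ne_zero_of_mul hi⟩
  by_contra e
  rw [Em, of_apply, if_neg e, zero_mul] at hi
  exact hi rfl

/-- **`GL₇` in the Levi subgroup** -/
theorem real [IsAlgClosed K] (M : Matrix (Fin 7) (Fin 7) K) (hM : det M ≠ 0) : ∃ h, rho K h * Em K = Em K * M := by
  refine diagonal_transvection_induction_of_det_ne_zero (fun M => ∃ h, rho K h * Em K = Em K * M) M hM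
    (fun D hD => ?_) (fun t => ?_) ?_
  · rw [det_diagonal, Finset.prod_ne_zero_iff] at hD
    have h1 : ∀ i, D i ≠ 0 := fun i => hD i (Finset.mem_univ i)
    obtain ⟨ρ, hρ⟩ := IsAlgClosed.exists_pow_nat_eq (D 0 * D 1 * D 2 * D 3 * D 4 * D 5 * D 6) (n := 3) (by norm_num)
    have h2 : ρ ≠ 0 := by
      rintro rfl
      simp only [h1, _root_.ne_eq, _root_.OfNat.ofNat_ne_zero, _root_.not_false_eq_true, _root_.zero_pow, _root_.Fin.isValue, _root_.zero_eq_mul, _root_.mul_eq_zero, _root_.or_self] at hρ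
    let a : Fin 7 → K := ![ρ / D 6, ρ, D 0 * D 1 * D 2 * D 3 * D 4 / ρ, D 0 * D 1 * D 2 * D 3, D 0 * D 1 * D 2, D 0 * D 1, D 0]
    have h3 : ∀ i, a i ≠ 0 := fun i => by (revert i; simp only [a, h1, h2, _root_.Fin.forall_fin_succ, Fin.isValue, _root_.ne_eq, _root_.Matrix.cons_val_zero, _root_.div_eq_zero_iff, _root_.or_self, _root_.not_false_eq_true, _root_.Matrix.cons_val_succ, _root_.mul_eq_zero, _root_.Matrix.cons_val_fin_one, _root_.implies_true, _root_.and_self])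
    let a' : Fin chevE7.rank → Kˣ := fun i : Fin 7 => Units.mk0 _ (h3 i)
    have h4 : ∀ l, ((ch (wc (tw l)) a' : Kˣ) : K) = D l := fun l => by
      have h5 : ((ch (wc (tw l)) a' : Kˣ) : K) = ∏ i : Fin 7, a i ^ wc (tw l) i := by
        rw [ch, Units.coe_prod]
        exact Finset.prod_congr rfl fun i _ => Units.val_zpow_eq_zpow_val _ _
      rw [h5, Fin.prod_univ_seven, chk_wc]
      have h6 : D 5 = ρ ^ 3 / (D 0 * D 1 * D 2 * D 3 * D 4 * D 6) := by rw [hρ]; field_simp [h1]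
      fin_cases l <;> simp only [a, h6, _root_.Fin.isValue, _root_.Matrix.cons_val_zero, _root_.Nat.succ_eq_add_one, _root_.Nat.reduceAdd, _root_.Int.reduceNeg, _root_.Fin.zero_eta, _root_.Matrix.cons_val', _root_.Matrix.cons_val_fin_one, _root_.zpow_ofNat, _root_.pow_zero, _root_.Matrix.cons_val_one, _root_.mul_one, _root_.Matrix.cons_val, _root_.pow_one, _root_.one_mul, _root_.Fin.mk_one, _root_.zpow_neg, _root_.Fin.reduceFinMk, _root_.mul_inv_rev, _root_.inv_div] <;> field_simp [h1]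
    refine ⟨Phi K a', ?_⟩
    ext s l
    rw [wrep_V.tor, diagonal_mul, mul_diagonal, Em, of_apply]
    split_ifs with e
    · rw [e, h4, mul_one, one_mul]
    · rw [mul_zero, zero_mul]
  · obtain ⟨h1, h2⟩ := chk_RR t.i t.j t.hij
    refine ⟨xs K (RR t.i t.j) t.c, ?_⟩
    ext s l
    rw [rho_xs' h1, Matrix.add_mul, Matrix.one_mul, TransvectionStruct.toMatrix, transvection, Matrix.mul_add,
      Matrix.mul_one, Matrix.add_apply, Matrix.add_apply, mul_Em, Matrix.smul_apply, NM, of_apply]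
    congr 1
    have h3 := h2 l
    split_ifs at h3 with e
    · rw [nz_some (b := tw l) (a' := tw t.i) h3, e, mul_single_apply_same, Em, of_apply]
      split_ifs <;> simp
    · rw [nz_none (b := tw l) h3, mul_single_apply_of_ne _ _ _ _ _ e, Int.cast_zero, smul_zero]
  · rintro A B - - ⟨g, hg⟩ ⟨h, hh⟩
    exact ⟨g * h, by rw [map_mul, Matrix.mul_assoc, hh, ← Matrix.mul_assoc, hg, Matrix.mul_assoc]⟩

variable (K) in
/-- the initial segments -/
def Sp (n : ℕ) : Submodule K (D1 → K) where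
  carrier := {x | ∀ s, x s ≠ 0 → ∃ i : Fin 7, i.val < n ∧ s = tw i}
  zero_mem' := fun _ h => absurd rfl h
  add_mem' := by
    intro x y hx hy i hi
    by_cases h : x i = 0
    · rw [Pi.add_apply, h, zero_add] at hi
      exact hy i hi
    · exact hx i h
  smul_mem' := fun _ _ hx i hi => hx i (right_ne_zero_of_mul hi)

theorem Sp_le (n : ℕ) : Sp K n ≤ Sp K 7 := fun _ hx s hs => (hx s hs).imp fun i hi => ⟨i.2, hi.2⟩

theorem eq_Em {n : ℕ} {x : D1 → K} (hx : x ∈ Sp K n) : x = Em K *ᵥ fun i => x (tw i) := by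
  funext s
  by_cases h : ∃ i, s = tw i
  · obtain ⟨i, rfl⟩ := h
    rw [Em_tw]
  · rw [of_not_not fun e : ¬ x s = 0 => h ((hx s e).imp fun _ e' => e'.2),
      of_not_not fun e : ¬ (Em K *ᵥ fun i => x (tw i)) s = 0 => h ((Em_ne e).imp fun _ e' => e'.1)]

/-- the fundamental weights -/
abbrev om (j : Fin 7) : E := cv (Pi.single j 1)

theorem dom_om (j : Fin 7) : Dom (om j) := fun i => by
  show (0 : ℝ) ≤ (((Pi.single j 1 : Fin 7 → ℤ) i : ℤ) : ℝ)
  rw [Pi.single_apply]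
  split_ifs <;> simp

theorem bf_om (j : Fin 7) (s : D1) : bf (om j) (wv s) = (mmn (nn s) j : ℝ) / 2 := by
  rw [bf_symm, bf_def, ← nt_chk_mmn _ (nn_lt s) (rt_nn s) j j.2, sum7]
  push_cast
  rw [Finset.sum_div]
  refine Finset.sum_congr rfl fun i _ => ?_
  rw [Finset.sum_eq_single j (fun l _ hl => by simp [cv, hl]) fun h => absurd (Finset.mem_univ _) h]
  simp only [cv, wv, wc, Pi.single_eq_same, Int.cast_one]
  ring

theorem chk_top : ∀ q ∈ [((6 : Fin 7), (3 : ℤ), 1), (5, 4, 2), (4, 5, 3), (3, 6, 4), (1, 3, 7)], ∀ s < 240,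
    rt chevE8 s 7 = 1 → (q.2.1 ≤ mmn s q.1 ↔ ∃ i : Fin 7, i.val < q.2.2 ∧ s = tl.getD i 0) := by (open scoped Cfsg.Agent.ChevFast.Lin in decide +kernel)

theorem Ge_eq {j : Fin 7} {d : ℤ} {n : ℕ}
    (h : (j, d, n) ∈ [((6 : Fin 7), (3 : ℤ), 1), (5, 4, 2), (4, 5, 3), (3, 6, 4), (1, 3, 7)]) :
    Ge K wc (om j) (d / 2) = Sp K n := by
  ext x
  refine forall_congr' fun s => imp_congr_right fun _ => ?_
  have h1 := chk_top _ h _ (nn_lt s) (rt_nn s)
  rw [show cv (wc s) = wv s from rfl, bf_om, div_le_div_iff_of_pos_right two_pos, Int.cast_le, h1]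
  exact exists_congr fun i => and_congr_right fun _ => ⟨fun e => nn_inj e, fun e => congrArg nn e⟩

/-- the stabiliser of a top space -/
theorem mem_Pl_of_top [Infinite K] {β : E} (hβ : Dom β) {d : ℝ} (A : Finset D1) (h1 : β = ∑ a ∈ A, wv a)
    (h2 : ∀ a ∈ A, bf β (wv a) = d) {y : Gh K} (h : ∀ x ∈ Ge K wc β d, rho K y *ᵥ x ∈ Ge K wc β d) : y ∈ Pl K β := by
  obtain ⟨b, b', l, hb, hb', e⟩ := bruhat y
  have h3 : ∀ a ∈ A, d ≤ bf β (wL l (wv a)) := fun a ha => by
    obtain ⟨i, hi⟩ := _root_.Cfsg.Agent.E7P.Kf.exists_ne (rho K) (nL K l) a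
    have h4 : rho K (nL K l) *ᵥ Pi.single a 1 ∈ Ge K wc β d := by
      rw [show nL K l = b⁻¹ * (y * b'⁻¹) by rw [e]; group, mulVec_mul, mulVec_mul]
      refine wrep_V.Ge_stab (inv_mem (hb β hβ)) (h _ (wrep_V.Ge_stab (inv_mem (hb' β hβ)) fun s hs => ?_))
      rw [of_not_not fun e : ¬ s = a => hs (Pi.single_eq_of_ne e _)]
      exact (h2 a ha).ge
    rw [← show wv i = wL l (wv a) from wrep_V.mon_nL l i a hi]
    exact h4 i (by rwa [mulVec_single_one])
  have h4 : β = wL l β := bf_pd.eq_of_le (by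
    conv_lhs => rw [show bf β β = bf β (∑ a ∈ A, wv a) by rw [← h1]]
    conv_rhs => rw [show wL l β = wL l (∑ a ∈ A, wv a) by rw [← h1]]
    rw [map_sum, map_sum, map_sum]
    exact Finset.sum_le_sum fun a ha => (h2 a ha).trans_le (h3 a ha)) (wL_iso l β β).le
  rw [e]
  exact mul_mem (mul_mem (hb β hβ) (nL_mem hβ _ l le_rfl h4.symm)) (hb' β hβ)

theorem mem_Pl_two [Infinite K] {y : Gh K} (h : ∀ x ∈ Sp K 2, rho K y *ᵥ x ∈ Sp K 2) : y ∈ Pl K (om 5) := by
  rw [← Ge_eq (j := 5) (d := 4) (by simp)] at h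
  refine mem_Pl_of_top (dom_om 5) {tw 0, tw 1} ?_ ?_ h
  · rw [Finset.sum_pair fun e => absurd (tw_inj e) (by decide), wv, wv, ← cv_add]
    exact congrArg cv (by (delta Cfsg.Agent.E7P.Kf.wc; rewrite [Cfsg.Agent.ChevFast.E8.cartan]; decide +kernel))
  · simp only [Finset.mem_insert, Finset.mem_singleton]
    rintro _ (rfl | rfl) <;> rw [bf_om] <;> rfl

theorem mem_Pl_four [Infinite K] {y : Gh K} (h : ∀ x ∈ Sp K 4, rho K y *ᵥ x ∈ Sp K 4) : y ∈ Pl K (om 3) := by
  rw [← Ge_eq (j := 3) (d := 6) (by simp)] at h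
  refine mem_Pl_of_top (dom_om 3) (({0, 1, 2, 3} : Finset (Fin 7)).map ⟨tw, fun _ _ => tw_inj⟩) ?_ ?_ h
  · rw [Finset.sum_map]
    simp only [wv, ← cv_sum]
    exact congrArg cv (by (delta Cfsg.Agent.E7P.Kf.wc; rewrite [Cfsg.Agent.ChevFast.E8.cartan]; decide +kernel))
  · simp only [Finset.mem_map, Finset.mem_insert, Finset.mem_singleton]
    rintro _ ⟨_, rfl | rfl | rfl | rfl, rfl⟩ <;> rw [bf_om] <;> rfl

/-- **Gauss** -/
theorem gauss [IsAlgClosed K] {Y : Submodule K (D1 → K)} (hY : Y ≤ Sp K 7) {n : ℕ} (hn : finrank K Y = n)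
    (h7 : Fintype.card {i : Fin 7 | i.val < n} = n) : ∃ h : Gh K, ∀ y, (∀ x ∈ Y, rho K y *ᵥ x ∈ Y) →
      ∀ x ∈ Sp K n, rho K (h * y * h⁻¹) *ᵥ x ∈ Sp K n := by
  let En : Submodule K (Fin 7 → K) := ⨅ i ∈ {i : Fin 7 | n ≤ i.val}, LinearMap.ker (LinearMap.proj i)
  have hE : ∀ c, c ∈ En ↔ ∀ i : Fin 7, n ≤ i.val → c i = 0 := fun c => by simp only [En, _root_.Set.mem_ofPred_eq, _root_.Submodule.mem_iInf, _root_.LinearMap.mem_ker, _root_.LinearMap.coe_proj, _root_.Function.eval]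
  have h1 : finrank K En = n := by
    rw [(LinearMap.iInfKerProjEquiv K (fun _ : Fin 7 => K) (I := {i : Fin 7 | i.val < n})
      (J := {i : Fin 7 | n ≤ i.val}) (Set.disjoint_left.2 fun i h h' => (not_lt.2 (show n ≤ i.val from h')) h)
      fun i _ => (lt_or_ge i.val n :)).finrank_eq,
      finrank_fintype_fun_eq_card, h7]
  have h2 : Function.Injective (toLin' (Em K)) := fun c c' e => funext fun i => by
    rw [← Em_tw c i, ← Em_tw c' i]
    exact congrFun e _
  have h3 : (Y.comap (toLin' (Em K))).map (toLin' (Em K)) = Y :=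
    Submodule.map_comap_eq_self fun x hx => ⟨fun i => x (tw i), (eq_Em (hY hx)).symm⟩
  have h4 : finrank K (Y.comap (toLin' (Em K))) = finrank K En := by
    rw [(Submodule.equivMapOfInjective _ h2 _).finrank_eq, h3, hn, h1]
  let f := LinearEquiv.ofFinrankEq _ _ h4
  obtain ⟨g, hg⟩ := Submodule.exists_linearEquiv_restrict_eq f
  obtain ⟨h, hh⟩ := real (LinearMap.toMatrix' (g : (Fin 7 → K) →ₗ[K] (Fin 7 → K)))
    (by rw [LinearMap.det_toMatrix']; exact g.isUnit_det'.ne_zero)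
  have h5 : ∀ c, rho K h *ᵥ (Em K *ᵥ c) = Em K *ᵥ g c := fun c => by
    rw [mulVec_mulVec, hh, ← mulVec_mulVec, LinearMap.toMatrix'_mulVec]
    rfl
  refine ⟨h, fun y hy x hx => ?_⟩
  obtain ⟨c, hc⟩ := f.surjective ⟨fun i => x (tw i), (hE _).2 fun i hi => of_not_not fun e => by
    obtain ⟨j, hj, e'⟩ := hx _ e
    rw [tw_inj e'] at hi
    omega⟩
  have h6 : x = rho K h *ᵥ (Em K *ᵥ c) := by
    rw [h5, ← hg, hc]
    exact eq_Em hx
  obtain ⟨c', hc', e⟩ := h3.ge (hy _ c.2)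
  rw [h6, mulVec_mul, mulVec_inv, mulVec_mul, show rho K y *ᵥ (Em K *ᵥ c) = Em K *ᵥ c' from e.symm, h5,
    ← hg ⟨c', hc'⟩]
  intro s hs
  obtain ⟨i, e1, e2⟩ := Em_ne hs
  exact ⟨i, lt_of_not_ge fun e3 => e2 ((hE _).1 (f ⟨c', hc'⟩).2 i e3), e1⟩

end Cfsg.Agent.E7P.Ca
end

-- part: E7P/P2/CaV
section
/-!
# S5932, `p = 2` : no fixed vectors on the 56-dimensional module (helper98)

* `Sit.ca_func` : if `g ^ A` is central, an invariant functional on `g` which vanishes on the centre is zero;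
* `Sit.ca_white` : there is no stable subspace `W ≠ 0` of singular vectors (every `p`);
* `Sit.ca_nofixV` : if `g ^ A` is central then `V ^ A = 0`.
-/

set_option autoImplicit false
set_option maxRecDepth 100000

namespace Cfsg.Agent.E7P

open Cfsg Cfsg.Lie Matrix Module
open Cfsg.Agent.H943.E7V.Block (D1 rho)
open Cfsg.Agent.R2.T1 Cfsg.Agent.E7P.Kf Cfsg.Agent.R2.T1.Mu2
open Cfsg.Agent.R2.T1.N6D (Zc zv kf_rad Zc_eq del_zv L_of_mem zv_mem)
open Cfsg.Agent.R2.PX (del p2)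

universe u v

/-- the solutions of a rational system are spanned by the rational solutions -/
theorem Ca.span_fix {F : Type u} {k : Type v} [Field F] [Field k] (f : F →+* k) {I Λ : Type*} [Fintype I]
    (A : Λ → Matrix I I F) {y : I → k} (hy : ∀ l, (A l).map f *ᵥ y = y) :
    y ∈ Submodule.span k {v | ∃ x : I → F, (∀ l, A l *ᵥ x = x) ∧ v = fun i => f (x i)} := by
  classical
  let _ := f.toAlgebra
  let B := Basis.ofVectorSpace F k
  have h1 : y = ∑ j ∈ Finset.univ.biUnion fun i => (B.repr (y i)).support, B j • fun i => f (B.repr (y i) j) := by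
    funext i
    rw [Finset.sum_apply]
    conv_lhs => rw [← B.linearCombination_repr (y i), Finsupp.linearCombination_apply,
      Finsupp.sum_of_support_subset _ (Finset.subset_biUnion_of_mem (fun i => (B.repr (y i)).support)
        (Finset.mem_univ i)) (fun j c => c • B j) fun _ _ => zero_smul _ _]
    exact Finset.sum_congr rfl fun j _ => mul_comm _ _
  rw [h1]
  refine Submodule.sum_mem _ fun j _ => Submodule.smul_mem _ _ (Submodule.subset_span ⟨_, fun l => funext fun i => ?_, rfl⟩)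
  conv_rhs => rw [← hy l]
  show _ = B.coord j (∑ t, A l i t • y t)
  rw [map_sum]
  exact Finset.sum_congr rfl fun t _ => (map_smul (B.coord j) _ _).symm

namespace Sit

variable {p a b : ℕ} {F : Type u} {K : Type v} {k : Type u} [Field F] [Fintype F] [Field K] [Fintype K] [Field k]
  (S : Sit p a b F K k)

include S in
theorem ca_two (hp : p = 2) : (2 : k) = 0 := by
  have := S.chark
  exact_mod_cast (CharP.cast_eq_zero_iff k p 2).2 hp.dvd

theorem ca_card : 4 * Nat.card S.H < Nat.card F ^ 76 := by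
  have := S.charK
  have : Fact p.Prime := ⟨S.prime⟩
  have h1 := S.max.card_le
  rw [ClassicalGeometry.AutPSL.Main.card_two p, Lib.FieldAutCard.card_ringAut S.ha S.cardK] at h1
  have h2 : Nat.card (ProjGenLinGroup (Fin 2) K) ≤ (p ^ a) ^ 4 := by
    refine (Nat.card_le_card_of_surjective _ ProjGenLinGroup.mk_surjective).trans
      ((Nat.card_le_card_of_injective _ Units.val_injective).trans_eq ?_)
    rw [show Nat.card (Matrix (Fin 2) (Fin 2) K) = Nat.card (Fin 2 → Fin 2 → K) from rfl, Nat.card_fun, Nat.card_fun,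
      Nat.card_eq_fintype_card, S.cardK, Nat.card_eq_fintype_card, Fintype.card_fin, ← pow_mul]
  have h3 : a ≤ b * 9 := by
    obtain ⟨d, hd, h⟩ := S.bound
    have h4 : 0 < d ∧ d ≤ 9 := by
      simp only [List.mem_cons, List.not_mem_nil, or_false] at hd
      omega
    exact (Nat.le_of_dvd (Nat.mul_pos S.hb h4.1) h).trans (Nat.mul_le_mul_left b h4.2)
  have h4 : p ^ a ≤ Nat.card F ^ 9 := by
    rw [Nat.card_eq_fintype_card, S.cardF, ← pow_mul]
    exact Nat.pow_le_pow_right S.prime.pos h3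
  have h5 : 1 < Nat.card F := Finite.one_lt_card
  calc 4 * Nat.card S.H ≤ Nat.card F ^ 2 * ((Nat.card F ^ 9) ^ 4 * Nat.card F ^ 9) :=
        Nat.mul_le_mul (Nat.pow_le_pow_left h5 2) (h1.trans (Nat.mul_le_mul (h2.trans (Nat.pow_le_pow_left h4 4))
          ((Nat.lt_pow_self S.prime.one_lt).le.trans h4)))
    _ = Nat.card F ^ 47 := by ring
    _ < _ := Nat.pow_lt_pow_right h5 (by norm_num)

/-- vectors which are fixed modulo the centre are fixed -/
theorem ca_fix {y : chevE7.Idx → k} (h : ∀ x, L k (S.ψ x) y - y ∈ Zc k) (x : _root_.Matrix.SpecialLinearGroup (Fin 2) K) :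
    L k (S.ψ x) y = y := by
  let d : _root_.Matrix.SpecialLinearGroup (Fin 2) K →* Multiplicative (chevE7.Idx → k) :=
    MonoidHom.mk' (fun x => Multiplicative.ofAdd (L k (S.ψ x) y - y)) fun x x' => by
      rw [← ofAdd_add, ← L_of_mem (h x') (S.ψ x), map_mul, map_mul, End.mul_apply, map_sub (L k (S.ψ x))]
      congr 1
      abel
  have h1 : x ∈ d.ker := S.nt_all (fun x y => by
    rw [MonoidHom.mem_ker, map_mul, map_mul, map_mul, map_inv, map_inv, mul_inv_cancel_comm, mul_inv_cancel]) x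
  exact sub_eq_zero.1 (ofAdd_eq_one.1 h1)

/-- invariant functionals -/
theorem ca_func (hp : p = 2) (hz : ∀ y, (∀ x, adM k (S.ψ x) *ᵥ y = y) → y ∈ Zc k) {c : (chevE7.Idx → k) →ₗ[k] k}
    (hc : ∀ x z, c (L k (S.ψ x) z) = c z) (h0 : c (zv k) = 0) : c = 0 := by
  have h2 := S.ca_two hp
  have h1 : c ∈ LinearMap.range (kf k).flip := by
    rw [← LinearMap.dualAnnihilator_ker_eq_range_flip, Submodule.mem_dualAnnihilator]
    intro w hw
    have h3 : w ∈ Zc k := (kf_rad h2).1 fun x => by rw [kf_comm, show kf k w = 0 from hw, LinearMap.zero_apply]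
    rw [Zc_eq h2, Submodule.mem_span_singleton] at h3
    obtain ⟨t, rfl⟩ := h3
    rw [map_smul, h0, smul_zero]
  obtain ⟨y, rfl⟩ := h1
  have h3 := S.ca_fix (y := y) fun x => (kf_rad h2).1 fun z => by
    have h4 : kf k (L k (S.ψ x⁻¹) z) y = kf k z y := hc x⁻¹ z
    rw [map_sub, ← h4, ← kf_L (S.ψ x) _ y, ← End.mul_apply, ← map_mul, ← map_mul, mul_inv_cancel, map_one, map_one,
      End.one_apply, sub_self]
  exact LinearMap.ext ((kf_rad h2).2 (hz y fun x => (L_mulVec _ _).symm.trans (h3 x)))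

/-- **WHITE**, every characteristic -/
theorem ca_white {W : Submodule k (D1 → k)} (hW : S.Stb (rho k) W) (hs : ∀ x ∈ W, Sing x) : W = ⊥ := by
  by_contra h0
  obtain ⟨x, hx, hx0⟩ := Submodule.exists_mem_ne_zero_of_ne_bot h0
  obtain ⟨m, hm⟩ := Function.ne_iff.1 hx0
  obtain ⟨g, e, -⟩ := nf (hs x hx) hm
  refine S.kill_unst wrep_V (X := W) ⟨⟨x, hx, hx0⟩, g, wv m, fun y hy i hi => ?_⟩ hW.1 hW.2
  have h1 : bs k m ∈ W.map (V k g⁻¹) := ⟨(x m)⁻¹ • x, W.smul_mem _ hx, by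
    nth_rewrite 2 [e]
    rw [inv_smul_smul₀ hm, ← End.mul_apply, ← map_mul, inv_mul_cancel, map_one, End.one_apply]⟩
  obtain ⟨h3, h4⟩ := orth_bs (polar_zero (W := W.map (V k g⁻¹)) (by
    rintro _ ⟨z, hz, rfl⟩
    exact (hs z hz).V _) h1 ⟨y, hy, rfl⟩)
  have h5 := nt_bf_wv m i
  have h6 : 0 < p2 m i := by
    rcases R2.PX.p2_cases m i with h | h | h | h
    · omega
    · omega
    · exact absurd (h3 i (by rw [R2.PX.p2_comm]; exact h)) hi
    · rw [R2.PX.p2_eq_neg_three.1 h] at hi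
      exact absurd h4 hi
  have h7 : (0 : ℝ) < p2 m i := by exact_mod_cast h6
  show 0 < bf (wv m) (wv i)
  linarith

/-- **NoFixV** for `p = 2` -/
theorem ca_nofixV (hp : p = 2) (hz : ∀ y, (∀ x, adM k (S.ψ x) *ᵥ y = y) → y ∈ Zc k) : S.NoFixV := by
  have h2 := S.ca_two hp
  have hW := S.nt_stb_fix wrep_V
  have h1 : ∀ v ∈ S.nt_fix (rho k), ∀ x z, Mu k v (L k (S.ψ x) z) = Mu k v z := fun v hv x z => by
    rw [← Mu_V (S.ψ x) v z, V_apply, hv x]
  have h3 : ∀ v ∈ S.nt_fix (rho k), ∀ m ∈ S.M, Mu k (V k m v) = Mu k v := fun v hv m hm =>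
    sub_eq_zero.1 (S.ca_func hp hz (fun x z => by
      rw [LinearMap.sub_apply, LinearMap.sub_apply, h1 v hv, h1 (V k m v) (hW.1 m hm v hv)]) (by
      rw [LinearMap.sub_apply, ← Mu_V m v, L_of_mem (zv_mem h2), sub_self]))
  let G : Set (D1 → k) := {v | ∃ x : D1 → F, (∀ l, rho F (S.ψ0 l) *ᵥ x = x) ∧ v = fun i => S.f (x i)}
  have h4 : ∀ v ∈ G, Mu k v (zv k) = 0 := by
    rintro _ ⟨x, hx, rfl⟩
    have h5 : (fun i => S.f (x i)) ∈ S.nt_fix (rho k) := fun l =>
      (V_emb S.f (S.ψ0 l) x).trans (by rw [V_apply, hx l])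
    have h6 : Mu F x = 0 := func_zero S.max.coatom S.ca_card fun g hg => LinearMap.ext fun z => S.f.injective (by
      rw [← Mu_map, ← Mu_map, ← V_emb, h3 _ h5 _ ⟨g, hg, rfl⟩])
    rw [show zv k = fun j => S.f (zv F j) from funext fun j => by
      rcases j with j | j
      · exact (map_intCast S.f _).symm
      · exact (map_zero S.f).symm, Mu_map, h6, LinearMap.zero_apply, map_zero]
  have h5 : ∀ x y, Mu k (x + y) (zv k) = Mu k x (zv k) + Mu k y (zv k) + sf k y x := fun x y => by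
    rw [Mu_add, del_zv h2, one_mulVec]
  have h6 : ∀ v ∈ G, Submodule.span k G ≤ LinearMap.ker (sf k v) := fun v hv => Submodule.span_le.2 fun v' hv' => by
    have h7 := h5 v' v
    rw [h4 v hv, h4 v' hv', h4, zero_add, zero_add] at h7
    · exact h7.symm
    · obtain ⟨x, hx, rfl⟩ := hv
      obtain ⟨x', hx', rfl⟩ := hv'
      exact ⟨x' + x, fun l => by rw [mulVec_add, hx, hx'], funext fun i => (map_add S.f _ _).symm⟩
  have h7 : ∀ y ∈ Submodule.span k G, Mu k y (zv k) = 0 := fun y hy => by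
    induction hy using Submodule.span_induction with
    | mem x hx => exact h4 x hx
    | zero => rw [Mu_zero, LinearMap.zero_apply]
    | add x y hx hy e1 e2 =>
      rw [h5, e1, e2, zero_add, zero_add]
      exact (Submodule.span_le.2 fun v hv => h6 v hv hx : Submodule.span k G ≤ LinearMap.ker ((sf k).flip x)) hy
    | smul c x _ e => rw [Mu_smul, LinearMap.smul_apply, e, smul_zero]
  exact (Submodule.eq_bot_iff _).1 (S.ca_white hW fun y hy => S.ca_func hp hz (h1 y hy)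
    (h7 y (Ca.span_fix S.f _ fun l => by rw [← rho_emb]; exact hy l)))

end Sit

end Cfsg.Agent.E7P
end

-- part: E7P/P2/CaI
section
/-!
# S5932, `p = 2` : irreducibility (helper98)

* `Sit.ca_sub` : a stable subspace `T ≠ 0` contains a stable subspace whose dimension is a power of 2;
* `Sit.ca_irr` : if `g ^ A` is central then `A` lies in no proper parabolic subgroup.
-/

set_option autoImplicit false
set_option maxRecDepth 100000

namespace Cfsg.Agent.E7P

open Cfsg Cfsg.Lie Matrix Module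
open Cfsg.Agent.H943.E7V.Block (D1 rho)
open Cfsg.Agent.R2.T1 Cfsg.Agent.E7P.Kf Cfsg.Agent.E7P.Ca Cfsg.Agent.H943.RepAdd
open Cfsg.Agent.R2.T1.N6D (Zc zv Zc_eq L_of_mem zv_mem cast_even)

universe u v

/-- the differentials of `ω₁, ω₃, ω₄, ω₆` modulo the centre -/
theorem Ca.chk_tor : ∀ q ∈ [((0 : Fin 7), (1 : Fin 7), (![0, 1, 1, 0, 0, 0, 0] : Fin 7 → ℤ)), (2, 0, ![1, 0, 0, 0, 0, 0, 0]),
    (3, 1, ![0, 1, 0, 0, 0, 0, 0]), (5, 1, ![0, 1, 0, 0, 1, 0, 0])], q.2.2 6 = 0 ∧ q.2.2 q.2.1 = 1 ∧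
      ∀ r < 126, pc r (Pi.single q.1 1) = 0 → (∑ i : Fin 7, chevE7.cartan i r * q.2.2 i) % 2 = 0 := by (rewrite [Cfsg.Agent.ChevFast.E7.cartan]; (refine of_decide_eq_true ?_; (try (delta Function.update Pi.single; rewrite [Cfsg.Agent.LsF.sumF_pat, Cfsg.Agent.LsF.f0ec413_4.2, Cfsg.Agent.LsF.f0ec413_6.2, Cfsg.Agent.LsF.iadd_pat, Cfsg.Agent.LsF.imul_pat, Cfsg.Agent.LsF.imod_pat, Cfsg.Agent.LsF.vecCons_eq, Cfsg.Agent.LsF.iACM_eq, Cfsg.Agent.LsF.instIDecEq_eq, Cfsg.Agent.LsF.dAnd_eq, Cfsg.Agent.LsF.dFinEq_eq, Cfsg.Agent.LsF.dBAll_eq, Cfsg.Agent.LsF.dBallLT_eq, Cfsg.Agent.LsF.dAllP_eq, Cfsg.Agent.LsF.dite_eq, Cfsg.Agent.LsF.decide_eq])); decide +kernel))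

namespace Sit

variable {p a b : ℕ} {F : Type u} {K : Type v} {k : Type u} [Field F] [Fintype F] [Field K] [Fintype K] [Field k]
  (S : Sit p a b F K k)

theorem ca_tor (hp : p = 2) (hz : ∀ y, (∀ x, adM k (S.ψ x) *ᵥ y = y) → y ∈ Zc k) {j : Fin 7}
    (hj : j = 0 ∨ j = 2 ∨ j = 3 ∨ j = 5) {g : Gh k} (hg : ∀ x, g⁻¹ * S.ψ x * g ∈ Pl k (om j)) : False := by
  classical
  have h2 := S.ca_two hp
  obtain ⟨i, c, h3, h4, h5⟩ : ∃ (i : Fin 7) (c : Fin 7 → ℤ), c 6 = 0 ∧ c i = 1 ∧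
      ∀ r < 126, pc r (Pi.single j 1) = 0 → (∑ i : Fin 7, chevE7.cartan i r * c i) % 2 = 0 := by
    rcases hj with rfl | rfl | rfl | rfl
    · exact ⟨_, _, (chk_tor _ (.head _) :)⟩
    · exact ⟨_, _, (chk_tor _ (.tail _ (.head _)) :)⟩
    · exact ⟨_, _, (chk_tor _ (.tail _ (.tail _ (.head _))) :)⟩
    · exact ⟨_, _, (chk_tor _ (.tail _ (.tail _ (.tail _ (.head _)))) :)⟩
  have h6 : ∀ t : k, (t • zv k) (Sum.inl (6 : Fin 7)) = t := fun t =>
    (congrArg (t * ·) (Int.cast_one : zv k (Sum.inl (6 : Fin 7)) = 1)).trans (mul_one t)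
  refine S.irr_tor (fun i => i = Sum.inl (6 : Fin 7)) (by rintro _ rfl; rfl) (Zc k)
    (fun y w hw => (L_mulVec y w).symm.trans (L_of_mem hw y)) hz
    (fun w => ⟨w (Sum.inl (6 : Fin 7)) • zv k, Submodule.smul_mem _ _ (zv_mem h2), ?_⟩) (fun n hn h => ?_)
    (l := fun i => (c i : k)) (fun r hr h => ?_) ?_ (fun h => ?_) hg
  · rintro _ rfl
    exact (h6 _).symm
  · rw [Zc_eq h2, Submodule.mem_span_singleton] at hn
    obtain ⟨t, rfl⟩ := hn
    rw [(h6 t).symm.trans (h _ rfl), zero_smul]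
  · have h7 := cast_even h2 (h5 r hr h)
    push_cast at h7
    exact h7
  · rintro _ rfl
    show ((c 6 : ℤ) : k) = 0
    rw [h3, Int.cast_zero]
  · have h7 : ((c i : ℤ) : k) = 0 := congrFun h i
    rw [h4, Int.cast_one] at h7
    exact one_ne_zero h7

include S in
/-- minimal stable subspaces -/
theorem ca_sub (hp : p = 2) {V : Type*} [AddCommGroup V] [Module k V] [FiniteDimensional k V]
    (ρ : Representation k (_root_.Matrix.SpecialLinearGroup (Fin 2) K) V) {T : Submodule k V} (hT : ∀ g, ∀ x ∈ T, ρ g x ∈ T)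
    (h0 : T ≠ ⊥) : ∃ Y ≤ T, (∀ g, ∀ x ∈ Y, ρ g x ∈ Y) ∧ ∃ n, finrank k Y = 2 ^ n := by
  classical
  subst hp
  have := S.chark
  have := S.charK
  have := S.closed
  obtain ⟨Y, ⟨h1, h2, h3⟩, hmin⟩ := (wellFounded_lt (α := Submodule k V)).has_min
    {W | W ≠ ⊥ ∧ W ≤ T ∧ ∀ g, ∀ x ∈ W, ρ g x ∈ W} ⟨T, h0, le_rfl, hT⟩
  refine ⟨Y, h2, h3, (R2.H6P2.altZ_irr.{u, 0} S.ι (ρ := subRep ρ Y h3)
    ⟨Submodule.nontrivial_iff_ne_bot.2 h1, fun W hW => ?_⟩).2⟩
  refine or_iff_not_imp_left.2 fun h4 => Submodule.map_injective_of_injective Y.subtype_injective ?_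
  rw [Submodule.map_subtype_top]
  refine (Y.map_subtype_le W).eq_of_not_lt (hmin _ ⟨fun e => h4 ?_, (Y.map_subtype_le W).trans h2, ?_⟩)
  · exact Submodule.map_injective_of_injective Y.subtype_injective (by rw [e, Submodule.map_bot])
  · rintro g _ ⟨x, hx, rfl⟩
    exact ⟨_, hW g x hx, rfl⟩

include S in
/-- stable lines are fixed -/
theorem ca_line {V : Type*} [AddCommGroup V] [Module k V] (ρ : Representation k (_root_.Matrix.SpecialLinearGroup (Fin 2) K) V)
    {Y : Submodule k V} (hY : ∀ g, ∀ x ∈ Y, ρ g x ∈ Y) (h1 : finrank k Y = 1) : ∃ y ∈ Y, y ≠ 0 ∧ ∀ g, ρ g y = y := by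
  obtain ⟨y, h0, h2⟩ := finrank_eq_one_iff'.1 h1
  have h3 : ∀ g, ∃ c : k, ∀ x ∈ Y, ρ g x = c • x := fun g => by
    obtain ⟨c, hc⟩ := h2 ⟨_, hY g y y.2⟩
    refine ⟨c, fun x hx => ?_⟩
    obtain ⟨d, hd⟩ := h2 ⟨x, hx⟩
    rw [show x = d • (y : V) from (congrArg Subtype.val hd).symm, map_smul, smul_comm]
    exact congrArg (d • ·) (congrArg Subtype.val hc).symm
  let T : Subgroup (_root_.Matrix.SpecialLinearGroup (Fin 2) K) :=
    { carrier := {g | ρ g y = y}
      one_mem' := by simp only [_root_.Set.mem_ofPred_eq, _root_.map_one, _root_.Module.End.one_apply]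
      mul_mem' := fun {g g'} e e' => by
        show ρ (g * g') y = y
        rw [map_mul, End.mul_apply, e', e]
      inv_mem' := fun {g} e => by
        show ρ g⁻¹ y = y
        nth_rewrite 1 [← e]
        rw [← End.mul_apply, ← map_mul, inv_mul_cancel, map_one, End.one_apply] }
  refine ⟨y, y.2, fun e => h0 (Subtype.ext e), S.nt_all (T := T) fun g g' => ?_⟩
  obtain ⟨c, hc⟩ := h3 g'
  show ρ (g * g' * g⁻¹ * g'⁻¹) y = y
  have h4 := hY g'⁻¹ y y.2
  rw [map_mul, map_mul, map_mul, End.mul_apply, End.mul_apply, End.mul_apply, hc _ (hY _ _ h4), map_smul,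
    ← End.mul_apply, ← map_mul, mul_inv_cancel, map_one, End.one_apply, ← hc _ h4, ← End.mul_apply, ← map_mul,
    mul_inv_cancel, map_one, End.one_apply]

theorem ca_top (hp : p = 2) (hz : ∀ y, (∀ x, adM k (S.ψ x) *ᵥ y = y) → y ∈ Zc k) {n : ℕ} (hn : 0 < n) {g : Gh k}
    (hg : ∀ x, ∀ v ∈ Sp k n, rho k (g⁻¹ * S.ψ x * g) *ᵥ v ∈ Sp k n) : False := by
  have := S.closed
  have hg' : ∀ x, ∀ v, V k (MulAut.conj g⁻¹ (S.ψ x)) v = rho k (g⁻¹ * S.ψ x * g) *ᵥ v := fun x v => by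
    rw [MulAut.conj_apply, inv_inv, V_apply]
  obtain ⟨Y, h1, h2, e, h3⟩ := S.ca_sub hp (MonoidHom.comp (V k) ((MulAut.conj g⁻¹).toMonoidHom.comp S.ψ))
    (T := Sp k n) (fun x v hv => (hg' x v).symm ▸ hg x v hv) fun e => by
      have h1 : Pi.single (tw 0) 1 ∈ Sp k n := fun s hs =>
        ⟨0, hn, of_not_not fun e : ¬ s = tw 0 => hs (Pi.single_eq_of_ne e _)⟩
      rw [e, Submodule.mem_bot] at h1
      exact one_ne_zero (Pi.single_eq_zero_iff.1 h1)
  have h4 := h1.trans (Sp_le n)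
  have h5 : finrank k Y ≤ 7 := by
    refine (Submodule.finrank_mono (t := LinearMap.range (toLin' (Em k))) fun x hx =>
      ⟨fun i => x (tw i), (eq_Em (h4 hx)).symm⟩).trans ((LinearMap.finrank_range_le _).trans_eq ?_)
    rw [finrank_fintype_fun_eq_card, Fintype.card_fin]
  have h6 : ∀ x, ∀ v ∈ Y, rho k (g⁻¹ * S.ψ x * g) *ᵥ v ∈ Y := fun x v hv => hg' x v ▸ h2 x v hv
  have h7 : ∀ h x, (g * h⁻¹)⁻¹ * S.ψ x * (g * h⁻¹) = h * (g⁻¹ * S.ψ x * g) * h⁻¹ := fun h x => by group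
  have h8 : e < 3 := (Nat.pow_lt_pow_iff_right one_lt_two).1 (by omega)
  interval_cases e
  · obtain ⟨y, -, h9, h10⟩ := S.ca_line _ h2 h3
    refine h9 ?_
    rw [← mulVec_inv (rho k) g y, S.ca_nofixV hp hz (rho k g *ᵥ y) fun x => ?_, mulVec_zero]
    nth_rewrite 2 [← (hg' x y).symm.trans (h10 x)]
    rw [← mulVec_mul, ← mulVec_mul, show g * (g⁻¹ * S.ψ x * g) = S.ψ x * g by group]
  · obtain ⟨h, hh⟩ := gauss h4 h3 (by decide)
    exact S.ca_tor hp hz (j := 5) (by decide) (g := g * h⁻¹) fun x => h7 h x ▸ mem_Pl_two (hh _ (h6 x))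
  · obtain ⟨h, hh⟩ := gauss h4 h3 (by decide)
    exact S.ca_tor hp hz (j := 3) (by decide) (g := g * h⁻¹) fun x => h7 h x ▸ mem_Pl_four (hh _ (h6 x))

/-- **irreducibility** for `p = 2` -/
theorem ca_irr (hp : p = 2) (hz : ∀ y, (∀ x, adM k (S.ψ x) *ᵥ y = y) → y ∈ Zc k) {g : Gh k} {β : E} (h0 : β ≠ 0)
    (hg : ∀ x, g⁻¹ * S.ψ x * g ∈ Pl k β) : False := by
  obtain ⟨l, hl⟩ := exists_dom β
  obtain ⟨j, hj⟩ := Function.ne_iff.1 (wL_ne (l := l) h0)
  have h1 : ∀ x, (g * (nL k l)⁻¹)⁻¹ * S.ψ x * (g * (nL k l)⁻¹) ∈ Pl k (om j) := fun x => by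
    rw [show (g * (nL k l)⁻¹)⁻¹ * S.ψ x * (g * (nL k l)⁻¹) = nL k l * (g⁻¹ * S.ψ x * g) * (nL k l)⁻¹ by group]
    refine Pl_le_of_supp hl (dom_om j) (fun i hi => ?_) (nL_conj_Pl l (hg x))
    show (((Pi.single j 1 : Fin 7 → ℤ) i : ℤ) : ℝ) = 0
    rw [Pi.single_eq_of_ne fun e : i = j => hj (e ▸ hi), Int.cast_zero]
  rcases (by decide : ∀ j : Fin 7, (j = 0 ∨ j = 2 ∨ j = 3 ∨ j = 5) ∨ j = 1 ∨ j = 4 ∨ j = 6) j with h | rfl | rfl | rfl
  · exact S.ca_tor hp hz h h1
  · refine S.ca_top hp hz (n := 7) (by norm_num) (g := g * (nL k l)⁻¹) fun x v => ?_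
    rw [← Ge_eq (j := 1) (d := 3) (by simp)]
    exact wrep_V.Ge_stab (h1 x)
  · refine S.ca_top hp hz (n := 3) (by norm_num) (g := g * (nL k l)⁻¹) fun x v => ?_
    rw [← Ge_eq (j := 4) (d := 5) (by simp)]
    exact wrep_V.Ge_stab (h1 x)
  · refine S.ca_top hp hz (n := 1) (by norm_num) (g := g * (nL k l)⁻¹) fun x v => ?_
    rw [← Ge_eq (j := 6) (d := 3) (by simp)]
    exact wrep_V.Ge_stab (h1 x)

end Sit

end Cfsg.Agent.E7P
end

-- part: E7P/P2/HbNil
section
/-!
# S5932, `p = 2`, Case 2b: no stable subspace consists of elements of square zero (helper92)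

* `Hb.PEEL` : the classes of elements of square zero;
* `Sit.hb_om` : the form `om` vanishes on irreducible submodules; `Sit.hb_nil`.
-/

set_option autoImplicit false
set_option maxRecDepth 100000

namespace Cfsg.Agent.E7P

open Cfsg Cfsg.Lie Matrix Module
open Cfsg.Agent.H943.E7V.Block (D1 rho)
open Cfsg.Agent.H943.RepAdd (subRep quotRep quotRep_mk)
open Cfsg.Agent.R2.H28.SL2 (Irrd irr_of_min)
open Cfsg.Agent.R2.H6P2 (NS AltZ altZ_irr)
open Cfsg.Agent.R2.T1 Cfsg.Agent.E7P.Kf Cfsg.Agent.E7P.Br Cfsg.Agent.E7P.P2 Cfsg.Agent.E7P.Hb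
open Cfsg.Agent.R2.PX (del)
open Cfsg.Agent.R2.T1.N6D (Zc mem_Zc zv del_zv Zc_eq)

universe u v w

namespace Hb

/-- **PEEL** -/
def PEEL (K : Type u) [Field K] : Prop := ∀ x : chevE7.Idx → K, x ≠ 0 → del K x * del K x = 0 →
  ∃ g, ∃ B ∈ BL, adM K g *ᵥ x = ind K B

theorem ns_dual {k : Type u} [Field k] {G : Type*} [Group G] {V : Type w} [AddCommGroup V] [Module k V]
    [FiniteDimensional k V] {ρ : Representation k G V} (h : Irrd ρ) : NS ρ.dual (finrank k V) := by
  intro U hU hlt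
  have h1 := Subspace.finrank_add_finrank_dualCoannihilator_eq U
  rcases h.2 U.dualCoannihilator (fun g x hx => by
    rw [Submodule.mem_dualCoannihilator] at hx ⊢
    intro f hf
    have h2 := hx _ (hU g⁻¹ f hf)
    rw [Representation.dual_apply, inv_inv] at h2
    exact h2) with h2 | h2
  · rw [h2, finrank_bot] at h1
    omega
  · rw [h2, finrank_top] at h1
    exact Submodule.finrank_eq_zero.1 (by omega)

variable {K : Type u} [Field K]

theorem cm_of_sq (h2 : (2 : K) = 0) {W : Submodule K (chevE7.Idx → K)} (h : ∀ x ∈ W, del K x * del K x = 0)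
    {x y : chevE7.Idx → K} (hx : x ∈ W) (hy : y ∈ W) : Cm x y := by
  have h1 := sq_add h2 x y
  rw [(sq_eq_zero h2).2 (h _ (add_mem hx hy)), (sq_eq_zero h2).2 (h x hx), (sq_eq_zero h2).2 (h y hy), zero_add,
    zero_add] at h1
  exact br_eq_zero.1 h1.symm

/-- elements which act freely -/
theorem free_of_br (h2 : (2 : K) = 0) {x f : chevE7.Idx → K} {c : K} (hc : c ≠ 0) (h : br K x f = c • zv K)
    {v : D1 → K} (hv : del K x *ᵥ v = 0) : ∃ u, v = del K x *ᵥ u := by
  have h1 := congrArg (fun A => A *ᵥ v) (del_br x f)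
  simp only [h, map_smul, del_zv h2, smul_mulVec, one_mulVec, sub_mulVec, ← mulVec_mulVec, hv, mulVec_zero, sub_zero] at h1
  exact ⟨c⁻¹ • (del K f *ᵥ v), by rw [mulVec_smul, ← h1, smul_smul, inv_mul_cancel₀ hc, one_smul]⟩

/-- a subspace of elements of square zero all of which act freely has dimension at most 3 -/
theorem le_three [IsAlgClosed K] (h2 : (2 : K) = 0) {W : Submodule K (chevE7.Idx → K)}
    (h : ∀ x ∈ W, del K x * del K x = 0) (hf : ∀ x ∈ W, x ≠ 0 → ∀ v, del K x *ᵥ v = 0 → ∃ u, v = del K x *ᵥ u) :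
    finrank K W ≤ 3 := by
  have h1 := pencil' (V := D1 → K) (toLin'.toLinearMap ∘ₗ del K ∘ₗ W.subtype)
    (fun a => LinearMap.ext fun v => by
      show del K a *ᵥ (del K a *ᵥ v) = 0
      rw [mulVec_mulVec, h a a.2, zero_mulVec])
    (fun a b => LinearMap.ext fun v => by
      show del K a *ᵥ (del K b *ᵥ v) = del K b *ᵥ (del K a *ᵥ v)
      rw [mulVec_mulVec, mulVec_mulVec, cm_of_sq h2 h a.2 b.2])
    fun a ha => (hf a a.2 fun e => ha (Subtype.ext e) :)
  rw [finrank_fintype_fun_eq_card, H943.E7V.Block.card_D1] at h1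
  by_contra h3
  have h4 := (pow_dvd_pow 2 (show 4 ≤ finrank K W by omega)).trans h1
  omega

end Hb

namespace Sit

variable {p a b : ℕ} {F : Type u} {K : Type v} {k : Type u} [Field F] [Fintype F] [Field K] [Fintype K] [Field k]
  (S : Sit p a b F K k)

theorem hb_RL (g : _root_.Matrix.SpecialLinearGroup (Fin 2) K) (y : chevE7.Idx → k) : S.RL g y = adM k (S.ψ g) *ᵥ y := L_mulVec _ _

include S in
theorem hb_alt (hp : p = 2) {V : Type*} [AddCommGroup V] [Module k V] [FiniteDimensional k V]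
    {ρ : Representation k (_root_.Matrix.SpecialLinearGroup (Fin 2) K) V} (h : Irrd ρ) :
    AltZ.{u, w} ρ (finrank k V) ∧ ∃ n, finrank k V = 2 ^ n := by
  classical
  subst hp
  have := S.chark
  have := S.charK
  have := S.closed
  exact altZ_irr S.ι h

section
variable {W : Submodule k (chevE7.Idx → k)} (hW : ∀ g, ∀ y ∈ W, S.RL g y ∈ W)

/-- the form vanishes on irreducible submodules -/
theorem hb_om (hp : p = 2) {R : Type u} [CommRing R] [IsDomain R] (L : Lf k R) (hI : Irrd (subRep S.RL W hW))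
    (hc : ∀ x ∈ W, ∀ y ∈ W, Cm x y) {x y z : chevE7.Idx → k} (hx : x ∈ W) (hy : y ∈ W) (hz : z ∈ W) :
    L.om x y z = 0 := by
  have c3 : ∀ x y z : W, Cm3 x.1 y.1 z.1 := fun x y z => ⟨hc _ x.2 _ y.2, hc _ y.2 _ z.2, hc _ z.2 _ x.2⟩
  have cyc : ∀ x y z : W, L.om x y z = L.om y z x := fun x y z => L.om_cyc (c3 x y z)
  have add : ∀ x x' y z : W, L.om (x + x' : W) y z = L.om x y z + L.om x' y z := fun x x' y z =>
    L.om_add (c3 x y z) (c3 x' y z) (c3 (x + x') y z)
  have smul : ∀ (c : k) (x y z : W), L.om (c • x : W) y z = c * L.om x y z := fun c x y z =>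
    L.om_smul c (c3 x y z) (c3 (c • x) y z)
  let γ : W → W → Dual k W := fun x y =>
    { toFun := fun z => (L.om x y z :)
      map_add' := fun z z' => by rw [← cyc, add, cyc z, cyc z']
      map_smul' := fun c z => by rw [← cyc, smul, cyc z]; rfl }
  let β : W →ₗ[k] W →ₗ[k] Dual k W := LinearMap.mk₂ k γ (fun x x' y => LinearMap.ext fun z => add x x' y z)
    (fun c x y => LinearMap.ext fun z => smul c x y z)
    (fun x y y' => LinearMap.ext fun z => by
      show L.om x (y + y' : W) z = L.om x y z + L.om x y' z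
      rw [cyc, add, cyc x, cyc x])
    (fun c x y => LinearMap.ext fun z => by
      show L.om x (c • y : W) z = c * L.om x y z
      rw [cyc, smul, cyc x])
  have h1 := (S.hb_alt hp hI).1 (Dual k W) _ (ns_dual hI) β (fun r => LinearMap.ext fun z => L.om_self (c3 r r z))
    (fun g r r' => LinearMap.ext fun z => by
      show L.om ((S.RL g r :)) (S.RL g r') z = L.om r r' (S.RL g⁻¹ z)
      have h2 := L.om_adM (S.ψ g) (c3 r r' ⟨_, hW g⁻¹ z z.2⟩)
      simp only [hb_RL, map_inv, mulVec_inv'] at h2 ⊢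
      exact h2) ⟨x, hx⟩ ⟨y, hy⟩
  exact LinearMap.congr_fun h1 ⟨z, hz⟩

include hW in
/-- destabilisation -/
theorem hb_unst (hp : p = 2) (hZ : S.FixZ) (hc : ∀ x ∈ W, ∀ y ∈ W, Cm x y) {x : chevE7.Idx → k} (hx : x ∈ W)
    (h0 : x ≠ 0) {g : Gh k} {B : List ℕ} (hB : B ∈ BL) (hg : adM k g *ᵥ x = ind k B)
    (h : finrank k W = 2 ∨ ∀ y ∈ W, ∀ z ∈ W, ∀ a a', lvI B a < 0 → lvI B a' < 0 → (adM k g *ᵥ y) a = 1 →
      (adM k g *ᵥ y) a' = 0 → (adM k g *ᵥ z) a = 0 → (adM k g *ᵥ z) a' = 1 → False) : False := by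
  have := S.closed
  have hX := unst_sub (c := ac) (R := adM k) W g⁻¹ (tau B) (by
    intro i h1 h2
    rw [inv_inv] at h1 h2
    have h3 : ∑ t, bf (tau B) (cv (ac (i t))) = ((∑ t, lvI B (i t) : ℤ) : ℝ) := by
      rw [Int.cast_sum]
      exact Finset.sum_congr rfl fun t _ => bf_tau (BL_gd B hB).2 _
    rw [h3, Int.cast_pos]
    obtain ⟨t0, ht0⟩ : ∃ t, (adM k g *ᵥ x) (i t) ≠ 0 := not_forall.1 fun h4 => h0 (h1 x hx h4)
    rw [hg] at ht0
    have h4 := lev_two hB ht0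
    refine sum_pos (fun t => lvI B (i t)) h4 (fun t => ?_) fun t t' ht ht' => ?_
    · obtain ⟨w, hw, h5⟩ := h2 t
      refine low2 (S.two hp) hB (y := adM k g *ᵥ w) (hg ▸ eqv2.cm g (hc x hx w hw)) ?_
      rw [h5, if_pos rfl]
      exact one_ne_zero
    · by_contra hne
      rcases h with h | h
      · have h5 : t.val ≠ t0.val := fun e => by rw [Fin.ext e] at ht; omega
        have h6 : t'.val ≠ t0.val := fun e => by rw [Fin.ext e] at ht'; omega
        have h7 := t.2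
        have h8 := t'.2
        have h9 := t0.2
        exact hne (Fin.ext (by omega))
      · obtain ⟨y, hy, h5⟩ := h2 t
        obtain ⟨z, hz, h6⟩ := h2 t'
        exact h y hy z hz _ _ ht ht' (by rw [h5, if_pos rfl]) (by rw [h5, if_neg (Ne.symm hne)])
          (by rw [h6, if_neg hne]) (by rw [h6, if_pos rfl]))
  obtain ⟨g', β, h1, -, -, h2, -⟩ := (wrep_L.pow _).kempf hX
  refine S.ca_irr hp hZ h1 fun y => h2 _ (SX_stab fun w hw => ?_)
  rw [← map_inv, ← hb_RL]
  exact hW _ w hw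

include hW in
/-- **no stable subspace consists of elements of square zero** -/
theorem hb_nil (hp : p = 2) (hZ : S.FixZ) (hP : PEEL k) (hW0 : W ≠ ⊥)
    (hmin : ∀ W' ≤ W, (∀ g, ∀ y ∈ W', S.RL g y ∈ W') → W' = ⊥ ∨ W' = W) (hsq : ∀ x ∈ W, del k x * del k x = 0) :
    False := by
  classical
  have := S.closed
  have h2 := S.two hp
  have hI : Irrd (subRep S.RL W hW) := irr_of_min _ hW hW0 hmin
  have hc : ∀ x ∈ W, ∀ y ∈ W, Cm x y := fun x hx y hy => cm_of_sq h2 hsq hx hy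
  obtain ⟨n, hn⟩ := (S.hb_alt.{u, v, u} hp hI).2
  rcases n with _ | _ | n
  · obtain ⟨y, hy, h0, h1⟩ := S.ca_line S.RL hW hn
    exact h0 (eq_zero_of_Zc (hZ y fun x => by rw [← hb_RL, h1]) ⟨2, by rw [pow_two, hsq y hy]⟩)
  · obtain ⟨x, hx, h0⟩ := Submodule.exists_mem_ne_zero_of_ne_bot hW0
    obtain ⟨g, B, hB, hg⟩ := hP x h0 (hsq x hx)
    exact S.hb_unst hW hp hZ hc hx h0 hB hg (Or.inl hn)
  have h3 : ¬ finrank k W ≤ 3 := by
    rw [hn, pow_succ, pow_succ]
    have := Nat.one_le_two_pow (n := n)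
    omega
  refine h3 (le_three h2 hsq fun x hx h0 v hv => ?_)
  obtain ⟨g, B, hB, hg⟩ := hP x h0 (hsq x hx)
  have hcm : ∀ y ∈ W, Cm (ind k B) (adM k g *ᵥ y) := fun y hy => hg ▸ eqv2.cm g (hc x hx y hy)
  have h4 : ∀ B ∈ BL, B ∈ [[125], [125, 92]] ∨ B = [125, 92, 87] ∨ B ∈ [[125, 92, 63], [125, 92, 87, 63]] := by decide
  rcases h4 B hB with h | rfl | h
  · refine (S.hb_unst hW hp hZ hc hx h0 hB hg (Or.inr fun y hy z _ a a' ha _ h5 _ _ _ => ?_)).elim
    have := low1 h2 h (hcm y hy) (a := a) (by rw [h5]; exact one_ne_zero)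
    omega
  · refine (S.hb_unst hW hp hZ hc hx h0 hB hg (Or.inr fun y hy z hz a a' ha ha' e1 e2 e3 e4 => ?_)).elim
    have := S.chark
    subst hp
    obtain ⟨R, _, _, ⟨L⟩⟩ := exists_lf k
    rw [tri h2 (hcm y hy) ha] at e1
    rw [tri h2 (hcm y hy) ha'] at e2
    rw [tri h2 (hcm z hz) ha] at e3
    rw [tri h2 (hcm z hz) ha'] at e4
    obtain ⟨D, hD⟩ : ∃ D, D = yy (adM k g *ᵥ y) 93 * yy (adM k g *ᵥ z) 94 - yy (adM k g *ᵥ y) 94 * yy (adM k g *ᵥ z) 93 :=
      ⟨_, rfl⟩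
    have hD0 : D ≠ 0 := fun e => one_ne_zero (α := k) (by
      linear_combination (ind k [93, 16, 11] a * ind k [94, 22, 17] a' - ind k [94, 22, 17] a * ind k [93, 16, 11] a') *
        (e - hD) - (yy (adM k g *ᵥ z) 93 * ind k [93, 16, 11] a' + yy (adM k g *ᵥ z) 94 * ind k [94, 22, 17] a') * e1 - e4 +
        (yy (adM k g *ᵥ y) 93 * ind k [93, 16, 11] a' + yy (adM k g *ᵥ y) 94 * ind k [94, 22, 17] a') * e3)
    have comb : ∀ s t : k, ∀ c, lvI [125, 92, 87] c < 0 → (adM k g *ᵥ (s • y + t • z)) c =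
        (s * yy (adM k g *ᵥ y) 93 + t * yy (adM k g *ᵥ z) 93) * ind k [93, 16, 11] c +
        (s * yy (adM k g *ᵥ y) 94 + t * yy (adM k g *ᵥ z) 94) * ind k [94, 22, 17] c := fun s t c hc => by
      rw [mulVec_add, mulVec_smul, mulVec_smul, Pi.add_apply, Pi.smul_apply, Pi.smul_apply, tri h2 (hcm y hy) hc,
        tri h2 (hcm z hz) hc, smul_eq_mul, smul_eq_mul]
      ring
    have mem : ∀ s t : k, s • y + t • z ∈ W := fun s t => add_mem (W.smul_mem s hy) (W.smul_mem t hz)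
    have h5 := mem (D⁻¹ * yy (adM k g *ᵥ z) 94) (-(D⁻¹ * yy (adM k g *ᵥ y) 94))
    have h6 := mem (-(D⁻¹ * yy (adM k g *ᵥ z) 93)) (D⁻¹ * yy (adM k g *ᵥ y) 93)
    have h7 := L.om_adM g ⟨hc _ hx _ h5, hc _ h5 _ h6, hc _ h6 _ hx⟩
    rw [S.hb_om hW rfl L hI hc hx h5 h6, hg] at h7
    have h8 := inv_mul_cancel₀ hD0
    refine L.om_tri ⟨hcm _ h5, eqv2.cm g (hc _ h5 _ h6), (hcm _ h6).symm⟩ (fun c hc => ?_) (fun c hc => ?_) h7
    · rw [comb _ _ c hc]
      linear_combination ind k [93, 16, 11] c * h8 - D⁻¹ * ind k [93, 16, 11] c * hD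
    · rw [comb _ _ c hc]
      linear_combination ind k [94, 22, 17] c * h8 - D⁻¹ * ind k [94, 22, 17] c * hD
  · refine free_of_br h2 (f := adM k g⁻¹ *ᵥ ind k [0, 33, 62]) one_ne_zero ?_ hv
    rw [← mulVec_inv (adM k) g x, ← adM_br', hg, free_ind h2 h, adM_Zc (R2.T1.N6D.zv_mem h2), one_smul]

end

end Sit

end Cfsg.Agent.E7P
end

-- part: E7P/P2/HbInd
section
/-!
# S5932, `p = 2`, Case 2b: the induction on Heisenberg subalgebras (helper92)

* `Hb.nilp_of_eig`, `Sit.hb_exists_nil` : stable subspaces contain nilpotent elements;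
* `Sit.Heis`, `Sit.Mn`; `Sit.hb_case2` : Case 2 is impossible.
-/

set_option autoImplicit false
set_option maxRecDepth 100000

namespace Cfsg.Agent.E7P

open Cfsg Cfsg.Lie Matrix Module
open Cfsg.Agent.H943.E7V.Block (D1 rho)
open Cfsg.Agent.H943.RepAdd (subRep quotRep quotRep_mk)
open Cfsg.Agent.R2.H28.SL2 (Irrd irr_of_min)
open Cfsg.Agent.R2.H6P2 (NS AltZ)
open Cfsg.Agent.R2.H9.E6 (pq pq_eq_one psl_simple exists_prim prime_dvd_psl)
open Cfsg.Agent.R2.T1 Cfsg.Agent.E7P.Kf Cfsg.Agent.E7P.Br Cfsg.Agent.E7P.P2 Cfsg.Agent.E7P.Hb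
open Cfsg.Agent.R2.PX (del)
open Cfsg.Agent.R2.T1.N6D (Zc mem_Zc zv del_zv Zc_eq zv_mem finrank_Zc)

universe u v

namespace Hb

variable {K : Type u} [Field K]

variable (K) in
/-- `tv` as a linear map -/
def tvL : (Fin 7 → K) →ₗ[K] (chevE7.Idx → K) where
  toFun := tv
  map_add' l l' := funext fun a => by
    rcases a with i | r
    · rfl
    · exact (add_zero _).symm
  map_smul' c l := funext fun a => by
    rcases a with i | r
    · rfl
    · exact (mul_zero _).symm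

/-- eigenvectors whose eigenvalue has at least 8 conjugates are nilpotent -/
theorem nilp_of_eig [IsAlgClosed K] (h2 : (2 : K) = 0) {g : Gh K} {x : chevE7.Idx → K} {c : K}
    (hx : adM K g *ᵥ x = c • x) (hc : Function.Injective fun j : Fin 8 => c ^ 2 ^ j.val) : IsNilpotent (del K x) := by
  obtain ⟨s, z, h⟩ := La.jord eqv2 x
  obtain ⟨g0, l, z0, h0, h1, h3⟩ := h.std
  have h4 : adM K g *ᵥ s = c • s := by
    have h5 := h.map eqv2 g
    rw [hx] at h5
    refine (h5.unique ⟨by rw [h.sum, smul_add], ?_, g0, c • l, c • z0, Submodule.smul_mem _ c h0, ?_, ?_⟩ eqv2).1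
    · rw [← br_eq_zero, map_smul, map_smul, LinearMap.smul_apply, br_eq_zero.2 h.cm, smul_zero, smul_zero]
    · rw [h1, ← mulVec_smul]
      exact congrArg _ ((tvL K).map_smul c l).symm
    · rw [h3, mulVec_smul]
  by_cases hs : s = 0
  · rw [h.sum, hs, zero_add]
    exact h.nilp eqv2
  exfalso
  have h5 : ∀ j, adM K g *ᵥ (_root_.Cfsg.Agent.E7P.P2.sq K)^[j] s = c ^ 2 ^ j • (sq K)^[j] s := fun j => by
    induction j with
    | zero => rw [pow_zero, pow_one]; exact h4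
    | succ j ih => rw [Function.iterate_succ_apply', adM_sq h2, ih, sq_smul h2, ← pow_mul, ← pow_succ]
  have h6 : ∀ j, ∃ l', (sq K)^[j] s = adM K g0 *ᵥ tv l' := fun j => by
    induction j with
    | zero => exact ⟨l, h1⟩
    | succ j ih =>
      obtain ⟨l', hl'⟩ := ih
      refine ⟨_, by
        rw [Function.iterate_succ_apply', hl', ← adM_sq h2]
        refine congrArg _ (La.eq_tv_of_diag fun a b hab => ?_)
        rw [del_sq h2, La.del_tv, diagonal_mul_diagonal, diagonal_apply_ne _ hab]⟩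
  have h7 : ∀ j, (sq K)^[j] s ≠ 0 := fun j e => hs (La.Jd.of_nilp (x := s) (z := 0)
    ⟨(add_zero _).symm, by rw [← br_eq_zero, map_zero], g0, l, 0, zero_mem _, h1, (mulVec_zero _).symm⟩ eqv2
    ⟨2 ^ j, by rw [← del_sq_iter h2, e, map_zero]⟩)
  choose l' hl' using h6
  have h8 := End.eigenvectors_linearIndependent' (toLin' (adM K g)) _ hc (fun j => (sq K)^[j.val] s)
    fun j => ⟨End.mem_eigenspace_iff.2 (h5 j), h7 j⟩
  have h9 : LinearIndependent K fun j : Fin 8 => l' j := LinearIndependent.of_comp (toLin' (adM K g0) ∘ₗ tvL K) (by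
    have e : (fun j : Fin 8 => (sq K)^[j.val] s) = (toLin' (adM K g0) ∘ₗ tvL K) ∘ fun j : Fin 8 => l' j :=
      funext fun j => hl' j
    rwa [e] at h8)
  have h10 := h9.fintype_card_le_finrank
  rw [finrank_fintype_fun_eq_card, Fintype.card_fin, Fintype.card_fin] at h10
  omega

theorem exists_list {V : Type*} [AddCommGroup V] [Module K V] [FiniteDimensional K V] (U : Submodule K V) :
    ∃ l : List V, l.length = finrank K U ∧ (∀ u ∈ l, u ∈ U) ∧
      ∀ {M : Type u} [AddCommGroup M] [Module K M] (f : V →ₗ[K] M), (∀ u ∈ l, f u = 0) → ∀ u ∈ U, f u = 0 := by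
  let e := Module.finBasis K U
  refine ⟨List.ofFn fun i => (e i : V), List.length_ofFn, fun u hu => ?_, fun f hf u hu => ?_⟩
  · obtain ⟨i, rfl⟩ := List.mem_ofFn.1 hu
    exact (e i).2
  · have h1 : f ∘ₗ U.subtype = 0 := e.ext fun i => hf _ (List.mem_ofFn.2 ⟨i, rfl⟩)
    exact LinearMap.congr_fun h1 ⟨u, hu⟩

theorem br_Zc {z : chevE7.Idx → K} (hz : z ∈ Zc K) (x : chevE7.Idx → K) : br K z x = 0 := br_eq_zero.2 (cm_Zc hz x)

theorem br_Zc' {z : chevE7.Idx → K} (hz : z ∈ Zc K) (x : chevE7.Idx → K) : br K x z = 0 := br_eq_zero.2 (cm_Zc hz x).symm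

theorem sq_Zc (h2 : (2 : K) = 0) {z : chevE7.Idx → K} (hz : z ∈ Zc K) : _root_.Cfsg.Agent.E7P.P2.sq K z ∈ Zc K := by
  obtain ⟨c, hc⟩ := mem_Zc.1 hz
  exact mem_Zc.2 ⟨c * c, by rw [del_sq h2, ← hc, smul_mul_smul_comm, mul_one]⟩

theorem exists_sq0 [IsAlgClosed K] (h2 : (2 : K) = 0) {y : chevE7.Idx → K} (hy : _root_.Cfsg.Agent.E7P.P2.sq K y ∈ Zc K) :
    ∃ z ∈ Zc K, sq K (y + z) = 0 := by
  obtain ⟨c, hc⟩ := mem_Zc.1 hy
  obtain ⟨d, rfl⟩ := IsAlgClosed.exists_eq_mul_self c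
  have h1 := (Zc K).smul_mem d (zv_mem h2)
  refine ⟨_, h1, Mu.del_inj ?_⟩
  rw [sq_add h2, br_Zc' h1, add_zero, map_add, ← hc, del_sq h2, map_smul, del_zv h2, smul_mul_smul_comm, mul_one,
    ← two_smul K, h2, zero_smul]

theorem br_mem_of_sq (h2 : (2 : K) = 0) {E Y : Submodule K (chevE7.Idx → K)} (h : ∀ x ∈ E, _root_.Cfsg.Agent.E7P.P2.sq K x ∈ Y)
    {x y : chevE7.Idx → K} (hx : x ∈ E) (hy : y ∈ E) : br K x y ∈ Y := by
  have h1 := sub_mem (h _ (add_mem hx hy)) (add_mem (h x hx) (h y hy))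
  rwa [sq_add h2, add_sub_cancel_left] at h1

/-- the centraliser -/
def Cz (E : Submodule K (chevE7.Idx → K)) : Submodule K (chevE7.Idx → K) where
  carrier := {y | ∀ x ∈ E, br K x y = 0}
  zero_mem' := fun _ _ => map_zero _
  add_mem' := fun h h' x hx => by rw [map_add, h x hx, h' x hx, add_zero]
  smul_mem' := fun c _ h x hx => by rw [map_smul, h x hx, smul_zero]

/-- the elements whose square lies in `Y` -/
def Pre (h2 : (2 : K) = 0) {W Y : Submodule K (chevE7.Idx → K)} (h : ∀ x ∈ W, ∀ y ∈ W, br K x y ∈ Y) :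
    Submodule K (chevE7.Idx → K) where
  carrier := {x | x ∈ W ∧ _root_.Cfsg.Agent.E7P.P2.sq K x ∈ Y}
  zero_mem' := ⟨zero_mem _, by rw [sq_zero h2]; exact zero_mem _⟩
  add_mem' := fun hx hy => ⟨add_mem hx.1 hy.1, by
    rw [sq_add h2]
    exact add_mem (add_mem hx.2 hy.2) (h _ hx.1 _ hy.1)⟩
  smul_mem' := fun c _ hx => ⟨W.smul_mem c hx.1, by
    rw [sq_smul h2]
    exact Y.smul_mem _ hx.2⟩

/-- the squares -/
def Sq [IsAlgClosed K] (h2 : (2 : K) = 0) {W : Submodule K (chevE7.Idx → K)} (h : ∀ x ∈ W, ∀ y ∈ W, br K x y ∈ Zc K) :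
    Submodule K (chevE7.Idx → K) where
  carrier := {y | ∃ x ∈ W, y - _root_.Cfsg.Agent.E7P.P2.sq K x ∈ Zc K}
  zero_mem' := ⟨0, zero_mem _, by rw [sq_zero h2, sub_zero]; exact zero_mem _⟩
  add_mem' := by
    rintro y y' ⟨x, hx, e⟩ ⟨x', hx', e'⟩
    refine ⟨x + x', add_mem hx hx', ?_⟩
    rw [sq_add h2, show y + y' - (sq K x + sq K x' + br K x x') = (y - sq K x) + (y' - sq K x') - br K x x' by abel]
    exact sub_mem (add_mem e e') (h x hx x' hx')
  smul_mem' := by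
    rintro c y ⟨x, hx, e⟩
    obtain ⟨d, rfl⟩ := IsAlgClosed.exists_eq_mul_self c
    refine ⟨d • x, W.smul_mem d hx, ?_⟩
    rw [sq_smul h2, pow_two, ← smul_sub]
    exact Submodule.smul_mem _ _ e

section
variable [IsAlgClosed K] (h2 : (2 : K) = 0) {E : Submodule K (chevE7.Idx → K)} (hz : Zc K ≤ E)
  (hsq : ∀ x ∈ E, _root_.Cfsg.Agent.E7P.P2.sq K x ∈ Zc K)

include h2 hz hsq

theorem exists_iso (h8 : 8 ≤ finrank K E) (d : ℕ) (hd : d ≤ 4) :
    ∃ U ≤ E, (∀ x ∈ U, _root_.Cfsg.Agent.E7P.P2.sq K x = 0) ∧ finrank K U = d := by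
  induction d with
  | zero => exact ⟨⊥, bot_le, fun x hx => by rw [(Submodule.mem_bot K).1 hx, sq_zero h2], finrank_bot _ _⟩
  | succ d ih =>
    obtain ⟨U, h1, h3, h4⟩ := ih (by omega)
    obtain ⟨l, h5, h6, h7⟩ := exists_list U
    have h9 := ker_line E (finrank_Zc h2) (l.map (br K)) (by
      intro f hf v hv
      obtain ⟨u, hu, rfl⟩ := List.mem_map.1 hf
      exact br_mem_of_sq h2 hsq (h1 (h6 u hu)) hv)
    rw [List.length_map, h5, h4] at h9
    obtain ⟨y, hy, hy'⟩ : ∃ y ∈ kers E (l.map (br K)), y ∉ U ⊔ Zc K := by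
      by_contra hc
      push Not at hc
      have h10 := Submodule.finrank_mono (show kers E (l.map (br K)) ≤ U ⊔ Zc K from hc)
      have h11 := Submodule.finrank_add_le_finrank_add_finrank U (Zc K)
      rw [finrank_Zc h2] at h11
      omega
    obtain ⟨z, hz', h10⟩ := exists_sq0 h2 (hsq y hy.1)
    have h11 : y + z ∉ U := fun h => hy' (by
      have h12 := sub_mem (Submodule.mem_sup_left h) (Submodule.mem_sup_right hz' : z ∈ U ⊔ Zc K)
      rwa [add_sub_cancel_right] at h12)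
    refine ⟨U ⊔ Submodule.span K {y + z}, sup_le h1 ((Submodule.span_singleton_le_iff_mem _ _).2
      (add_mem hy.1 (hz hz'))), fun x hx => ?_, ?_⟩
    · obtain ⟨u, hu, w, hw, rfl⟩ := Submodule.mem_sup.1 hx
      obtain ⟨t, rfl⟩ := Submodule.mem_span_singleton.1 hw
      have h12 : br K u y = 0 := h7 ((br K).flip y) (fun u hu => hy.2 _ (List.mem_map_of_mem hu)) u hu
      rw [sq_add h2, h3 u hu, sq_smul h2, h10, map_smul, map_add, h12, br_Zc' hz']
      simp
    · have h12 := Submodule.finrank_add_le_finrank_add_finrank U (Submodule.span K {y + z})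
      rw [finrank_span_singleton fun e => h11 (by rw [e]; exact zero_mem _)] at h12
      have h13 := Submodule.finrank_lt_finrank_of_lt (show U < U ⊔ Submodule.span K {y + z} from
        lt_of_le_of_ne le_sup_left fun e => h11 (by
          rw [e]
          exact Submodule.mem_sup_right (Submodule.mem_span_singleton_self _)))
      omega

/-- Heisenberg subalgebras are small -/
theorem heis_le (hnd : ∀ x ∈ E, x ∈ Cz E → x ∈ Zc K) : finrank K E ≤ 7 := by
  by_contra h8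
  obtain ⟨U, h1, h3, h4⟩ := exists_iso h2 hz hsq (by omega) 4 le_rfl
  have h5 := le_three h2 (W := U) (fun x hx => (sq_eq_zero h2).1 (h3 x hx)) fun x hx h0 v hv => by
    obtain ⟨y, hy, h6⟩ : ∃ y ∈ E, br K y x ≠ 0 := by
      by_contra hc
      push Not at hc
      exact h0 (eq_zero_of_Zc (hnd x (h1 hx) hc) ⟨2, by rw [pow_two, (sq_eq_zero h2).1 (h3 x hx)]⟩)
    have h7 := br_mem_of_sq h2 hsq (h1 hx) hy
    rw [Zc_eq h2, Submodule.mem_span_singleton] at h7
    obtain ⟨c, hc⟩ := h7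
    refine free_of_br h2 (fun e => h6 ?_) hc.symm hv
    rw [br_anti, ← hc, e, zero_smul, neg_zero]
  omega

omit hz [IsAlgClosed K] in
/-- their centralisers are large -/
theorem cz_big (h7 : finrank K E ≤ 7) : ¬ Cz E ≤ Zc K := by
  intro h
  obtain ⟨l, h5, h6, h8⟩ := exists_list E
  have h1 := ker_big (l.map (br K)) (by
    intro f hf v
    obtain ⟨u, hu, rfl⟩ := List.mem_map.1 hf
    rw [← br_sq h2, br_Zc (hsq u (h6 u hu))]) (by
    intro f hf g hg v
    obtain ⟨u, hu, rfl⟩ := List.mem_map.1 hf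
    obtain ⟨w, hw, rfl⟩ := List.mem_map.1 hg
    rw [br_jacobi, br_Zc (br_mem_of_sq h2 hsq (h6 u hu) (h6 w hw)), zero_add])
  have h3 := Submodule.finrank_mono (show kers ⊤ (l.map (br K)) ≤ Zc K from fun y hy =>
    h (h8 ((br K).flip y) fun u hu => hy.2 _ (List.mem_map_of_mem hu)))
  rw [finrank_Zc h2] at h3
  rw [finrank_L, List.length_map, h5] at h1
  have h4 := Nat.mul_le_mul (Nat.pow_le_pow_right two_pos h7) h3
  omega

end

end Hb

namespace Sit

variable {p a b : ℕ} {F : Type u} {K : Type v} {k : Type u} [Field F] [Fintype F] [Field K] [Fintype K] [Field k]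
  (S : Sit p a b F K k)

/-- stable subspaces -/
def HbSt (W : Submodule k (chevE7.Idx → k)) : Prop := ∀ g, ∀ y ∈ W, S.RL g y ∈ W

theorem hb_Zc {z : chevE7.Idx → k} (hz : z ∈ Zc k) (g : _root_.Matrix.SpecialLinearGroup (Fin 2) K) : S.RL g z = z := by
  rw [hb_RL, adM_Zc hz]

theorem hb_br (g : _root_.Matrix.SpecialLinearGroup (Fin 2) K) (x y : chevE7.Idx → k) :
    S.RL g (br k x y) = br k (S.RL g x) (S.RL g y) := by rw [hb_RL, hb_RL, hb_RL, adM_br']

theorem hb_sq (hp : p = 2) (g : _root_.Matrix.SpecialLinearGroup (Fin 2) K) (x : chevE7.Idx → k) : S.RL g (_root_.Cfsg.Agent.E7P.P2.sq k x) = sq k (S.RL g x) := by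
  rw [hb_RL, hb_RL, adM_sq (S.two hp)]

theorem hbSt_Zc : S.HbSt (Zc k) := fun g z hz => by rwa [S.hb_Zc hz]

theorem HbSt.cz {E : Submodule k (chevE7.Idx → k)} (h : S.HbSt E) : S.HbSt (Cz E) := fun g y hy x hx => by
  have h1 := S.hb_br g (S.RL g⁻¹ x) y
  rw [hy _ (h _ x hx), map_zero, ← End.mul_apply (S.RL g), ← map_mul, mul_inv_cancel, map_one, End.one_apply] at h1
  exact h1.symm

theorem HbSt.pre (hp : p = 2) {W Y : Submodule k (chevE7.Idx → k)} (h : ∀ x ∈ W, ∀ y ∈ W, br k x y ∈ Y) (hW : S.HbSt W)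
    (hY : S.HbSt Y) : S.HbSt (Pre (S.two hp) h) := fun g x hx => ⟨hW g x hx.1, by
  rw [← S.hb_sq hp]
  exact hY g _ hx.2⟩

/-- stable subspaces contain nilpotent elements -/
theorem hb_exists_nil (hp : p = 2) (hZ : S.FixZ) {W : Submodule k (chevE7.Idx → k)} (hW : S.HbSt W) (hne : ¬ W ≤ Zc k) :
    ∃ x ∈ W, x ∉ Zc k ∧ IsNilpotent (del k x) := by
  have := S.closed
  have h2 := S.two hp
  have h4 := S.four_le hp
  obtain ⟨r, hr, hr2, -, hra, -, hrc⟩ := exists_prim p a S.prime S.ha (by omega) (by omega)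
  have : Fact r.Prime := ⟨hr⟩
  obtain ⟨g, hg⟩ := exists_prime_orderOf_dvd_card' r ((prime_dvd_psl S.cardK hr hr2 hra).trans
    (Subgroup.card_quotient_dvd_card _))
  obtain ⟨w, hw, h1⟩ : ∃ w ∈ W, S.RL g w ≠ w := by
    by_contra hc
    push Not at hc
    have h3 : g ∈ (subRep S.RL W hW).ker := LinearMap.ext fun w => Subtype.ext ((hc w w.2 :))
    have hs := psl_simple S.k_four
    rcases ((subRep S.RL W hW).normal_ker.map pq R2.H9.E6.pq_surjective).eq_bot_or_eq_top with h5 | h5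
    · have h6 : pq g = 1 := by
        rw [← Subgroup.mem_bot, ← h5]
        exact ⟨g, h3, rfl⟩
      have h7 : g ^ 2 = 1 := by
        rcases pq_eq_one.1 h6 with h | h <;> rw [h] <;> simp only [_root_.one_pow, _root_.even_two, _root_.Even.neg_pow]
      have h8 := orderOf_dvd_of_pow_eq_one h7
      rw [hg] at h8
      exact hr2 ((Nat.prime_dvd_prime_iff_eq hr Nat.prime_two).1 h8)
    · refine hne fun y hy => hZ y fun x => ?_
      obtain ⟨n, hn, e⟩ : pq x ∈ (subRep S.RL W hW).ker.map pq := h5 ▸ Subgroup.mem_top _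
      have h6 : S.ψ (x * n⁻¹) = 1 := eq_one_of_center h2 (S.ψ_mem_center.2 (pq_eq_one.1 (by
        rw [map_mul, map_inv, e, mul_inv_cancel])))
      rw [map_mul, map_inv, mul_inv_eq_one] at h6
      rw [h6, ← hb_RL]
      exact congrArg Subtype.val (LinearMap.congr_fun hn ⟨y, hy⟩)
  have h3 : (r : k) ≠ 0 := by
    have := S.chark
    subst hp
    rw [Ne, CharP.cast_eq_zero_iff k 2, Nat.prime_dvd_prime_iff_eq Nat.prime_two hr]
    exact Ne.symm hr2
  obtain ⟨v, hv, h0, c, hc1, hc, e⟩ := exists_eig (S.RL g) h3 (by rw [← map_pow, ← hg, pow_orderOf_eq_one, map_one])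
    W (hW g) hw h1
  refine ⟨v, hv, fun h => hc1 (smul_left_injective k h0 ?_), nilp_of_eig h2 ((S.hb_RL g v).symm.trans e) ?_⟩
  · show c • v = (1 : k) • v
    rw [← e, S.hb_Zc h, one_smul]
  · have h5 : orderOf c = r := orderOf_eq_prime hc hc1
    have h6 : IsOfFinOrder c := isOfFinOrder_iff_pow_eq_one.2 ⟨r, hr.pos, hc⟩
    have key : ∀ i j : Fin 8, i.val < j.val → c ^ 2 ^ i.val ≠ c ^ 2 ^ j.val := by
      intro i j hij h7
      rw [h6.pow_eq_pow_iff_modEq, h5, Nat.modEq_iff_dvd' (Nat.pow_le_pow_right two_pos hij.le),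
        show j.val = i.val + (j.val - i.val) by omega, pow_add, ← Nat.mul_sub_one, hr.dvd_mul] at h7
      rcases h7 with h7 | h7
      · exact hr2 ((Nat.prime_dvd_prime_iff_eq hr Nat.prime_two).1 (hr.dvd_of_dvd_pow h7))
      · subst hp
        exact hrc _ (by omega) (by omega) h7
    intro i j hij
    rcases lt_trichotomy i.val j.val with h | h | h
    · exact absurd hij (key i j h)
    · exact Fin.ext h
    · exact absurd hij.symm (key j i h)

/-- Heisenberg subalgebras -/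
structure Heis (E : Submodule k (chevE7.Idx → k)) : Prop where
  z : Zc k ≤ E
  st : S.HbSt E
  sq : ∀ x ∈ E, _root_.Cfsg.Agent.E7P.P2.sq k x ∈ Zc k
  nd : ∀ x ∈ E, x ∈ Cz E → x ∈ Zc k

/-- minimal submodules of the centraliser -/
structure Mn (E W : Submodule k (chevE7.Idx → k)) : Prop where
  z : Zc k ≤ W
  ne : ¬ W ≤ Zc k
  le : W ≤ Cz E
  st : S.HbSt W
  smp : ∀ Y, S.HbSt Y → Zc k ≤ Y → Y ≤ W → Y ≤ Zc k ∨ W ≤ Y
  ab : ∀ x ∈ W, ∀ y ∈ W, br k x y ∈ Zc k

theorem hb_exists_mn (hp : p = 2) {E : Submodule k (chevE7.Idx → k)} (hE : S.HbSt E) (hne : ¬ Cz E ≤ Zc k) :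
    ∃ W, S.Mn E W := by
  classical
  have := S.closed
  let ρ := quotRep S.RL (Zc k) S.hbSt_Zc
  let C := (Cz E).map (Zc k).mkQ
  have hmap : ∀ Y, S.HbSt Y → ∀ g, ∀ y ∈ Y.map (Zc k).mkQ, ρ g y ∈ Y.map (Zc k).mkQ := by
    rintro Y hY g _ ⟨y, hy, rfl⟩
    exact ⟨_, hY g y hy, rfl⟩
  have hbot : ∀ Y : Submodule k (chevE7.Idx → k), Y.map (Zc k).mkQ = ⊥ → Y ≤ Zc k := fun Y h y hy => by
    have h1 : (Zc k).mkQ y ∈ Y.map (Zc k).mkQ := ⟨y, hy, rfl⟩
    rw [h] at h1
    exact (Submodule.Quotient.mk_eq_zero _).1 h1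
  have hzc : Zc k ≤ Cz E := fun z hz x _ => br_Zc' hz x
  obtain ⟨U, ⟨h1, h2, h3⟩, hmin⟩ := (measure fun U : Submodule k (_ ⧸ Zc k) => finrank k U).wf.has_min
    {U | U ≠ ⊥ ∧ U ≤ C ∧ ∀ g, ∀ y ∈ U, ρ g y ∈ U} ⟨C, fun h => hne (hbot _ h), le_rfl, hmap _ hE.cz⟩
  have hmin' : ∀ U' ≤ U, (∀ g, ∀ y ∈ U', ρ g y ∈ U') → U' = ⊥ ∨ U' = U := fun U' h4 h5 =>
    or_iff_not_imp_left.2 fun h6 => Submodule.eq_of_le_of_finrank_le h4 (not_lt.1 (hmin U' ⟨h6, h4.trans h2, h5⟩))
  have hle : U.comap (Zc k).mkQ ≤ Cz E := fun y hy => by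
    obtain ⟨y', hy', e⟩ := h2 hy
    have h4 := add_mem hy' (hzc ((Submodule.Quotient.eq _).1 e.symm))
    rwa [add_sub_cancel] at h4
  refine ⟨U.comap (Zc k).mkQ, fun z hz => ?_, fun h => h1 (eq_bot_iff.2 fun y hy => ?_), hle, fun g y hy => h3 g _ hy,
    fun Y hY h4 h5 => ?_, fun x hx y hy => ?_⟩
  · show (Zc k).mkQ z ∈ U
    rw [show (Zc k).mkQ z = 0 from (Submodule.Quotient.mk_eq_zero _).2 hz]
    exact zero_mem _
  · obtain ⟨y, rfl⟩ := (Zc k).mkQ_surjective y
    exact (Submodule.Quotient.mk_eq_zero _).2 (h hy)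
  · refine (hmin' _ (Submodule.map_le_iff_le_comap.2 h5) (hmap Y hY)).imp (hbot Y) fun h6 y hy => ?_
    obtain ⟨y', hy', e⟩ : (Zc k).mkQ y ∈ Y.map (Zc k).mkQ := h6 ▸ hy
    have h7 := add_mem hy' (h4 ((Submodule.Quotient.eq _).1 e.symm))
    rwa [add_sub_cancel] at h7
  · let β0 := ((br k).compr₂ (Zc k).mkQ).liftQ₂ (Zc k) (Zc k)
      (fun z hz => LinearMap.ext fun x => by
        show (Zc k).mkQ (br k z x) = 0
        rw [br_Zc hz, map_zero])
      (fun z hz => LinearMap.ext fun x => by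
        show (Zc k).mkQ (br k x z) = 0
        rw [br_Zc' hz, map_zero])
    have hβ : ∀ x y : U, β0 x y ∈ C := by
      rintro ⟨x, hx⟩ ⟨y, hy⟩
      obtain ⟨x, rfl⟩ := (Zc k).mkQ_surjective x
      obtain ⟨y, rfl⟩ := (Zc k).mkQ_surjective y
      refine ⟨br k x y, fun e he => ?_, rfl⟩
      rw [br_jacobi, hle hx e he, hle hy e he, map_zero, map_zero, LinearMap.zero_apply, add_zero]
    let β : U →ₗ[k] U →ₗ[k] C := LinearMap.mk₂ k (fun x y => ⟨β0 x y, hβ x y⟩)
      (fun x x' y => Subtype.ext (LinearMap.congr_fun (map_add β0 x.1 x'.1) y.1))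
      (fun c x y => Subtype.ext (LinearMap.congr_fun (map_smul β0 c x.1) y.1))
      (fun x y y' => Subtype.ext (map_add (β0 x) y.1 y'.1)) (fun c x y => Subtype.ext (map_smul (β0 x) c y.1))
    have h4 := (S.hb_alt hp (irr_of_min ρ h3 h1 hmin')).1 C (subRep ρ C (hmap _ hE.cz)) (fun T hT hlt => by
      by_contra h5
      refine hmin (T.map C.subtype) ⟨fun e => h5 ?_, C.map_subtype_le T, ?_⟩ ?_
      · exact Submodule.map_injective_of_injective C.subtype_injective (by rw [e, Submodule.map_bot])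
      · rintro g _ ⟨x, hx, rfl⟩
        exact ⟨_, hT g x hx, rfl⟩
      · show finrank k (T.map C.subtype) < _
        rwa [Submodule.finrank_map_subtype_eq]) β (by
      rintro ⟨x, hx⟩
      obtain ⟨x, rfl⟩ := (Zc k).mkQ_surjective x
      refine Subtype.ext ?_
      show (Zc k).mkQ (br k x x) = 0
      rw [br_self, map_zero]) (by
      rintro g ⟨x, hx⟩ ⟨y, hy⟩
      obtain ⟨x, rfl⟩ := (Zc k).mkQ_surjective x
      obtain ⟨y, rfl⟩ := (Zc k).mkQ_surjective y
      refine Subtype.ext ?_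
      show (Zc k).mkQ (br k (S.RL g x) (S.RL g y)) = (Zc k).mkQ (S.RL g (br k x y))
      rw [hb_br]) ⟨_, hx⟩ ⟨_, hy⟩
    exact (Submodule.Quotient.mk_eq_zero _).1 (congrArg Subtype.val h4)

variable {S}

theorem Mn.step (hp : p = 2) {E W : Submodule k (chevE7.Idx → k)} (h : S.Mn E W) :
    (∀ x ∈ W, _root_.Cfsg.Agent.E7P.P2.sq k x ∈ Zc k) ∨ ∃ W', S.Mn E W' ∧ ∀ x ∈ W, x ∉ Zc k → sq k x ∈ W' ∧ sq k x ∉ Zc k := by
  have := S.closed
  have h2 := S.two hp
  have key : ∀ Y, S.HbSt Y → Zc k ≤ Y → (∀ x ∈ W, _root_.Cfsg.Agent.E7P.P2.sq k x ∈ Y → x ∈ Zc k) ∨ ∀ x ∈ W, sq k x ∈ Y := fun Y hY h1 =>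
    (h.smp _ (HbSt.pre S hp (fun x hx y hy => h1 (h.ab x hx y hy)) h.st hY)
      (fun z hz => ⟨h.z hz, h1 (sq_Zc h2 hz)⟩) fun _ hx => hx.1).imp (fun h3 x hx hx' => h3 ⟨hx, hx'⟩)
      fun h3 x hx => (h3 hx).2
  refine (key _ S.hbSt_Zc le_rfl).symm.imp id fun h1 => ?_
  have hm : ∀ x ∈ W, sq k x ∈ Sq h2 h.ab := fun x hx => ⟨x, hx, by rw [sub_self]; exact zero_mem _⟩
  have hb : ∀ y ∈ Sq h2 h.ab, ∃ x ∈ W, ∀ w, br k y w = br k x (br k x w) := by
    rintro y ⟨x, hx, e⟩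
    refine ⟨x, hx, fun w => ?_⟩
    have h3 := br_Zc e w
    rwa [map_sub, LinearMap.sub_apply, sub_eq_zero, br_sq h2] at h3
  refine ⟨Sq h2 h.ab, ⟨fun z hz => ⟨0, zero_mem _, by rwa [sq_zero h2, sub_zero]⟩,
    fun h3 => h.ne fun x hx => h1 x hx (h3 (hm x hx)), fun y hy e he => ?_, ?_, fun Y hY h3 h4 => ?_,
    fun y hy y' hy' => ?_⟩, fun x hx h3 => ⟨hm x hx, fun h4 => h3 (h1 x hx h4)⟩⟩
  · obtain ⟨x, hx, h3⟩ := hb y hy
    rw [br_anti, h3, br_anti x e, h.le hx e he, neg_zero, map_zero, neg_zero]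
  · rintro g y ⟨x, hx, e⟩
    refine ⟨_, h.st g x hx, ?_⟩
    rw [← S.hb_sq hp, ← map_sub]
    exact S.hbSt_Zc g _ e
  · refine (key Y hY h3).imp (fun h5 y hy => ?_) ?_
    · obtain ⟨x, hx, e⟩ := h4 hy
      have h6 := sub_mem hy (h3 e)
      rw [sub_sub_cancel] at h6
      have h7 := add_mem e (sq_Zc h2 (h5 x hx h6))
      rwa [sub_add_cancel] at h7
    · rintro h5 y ⟨x, hx, e⟩
      have h6 := add_mem (h3 e) (h5 x hx)
      rwa [sub_add_cancel] at h6
  · obtain ⟨x, hx, h3⟩ := hb y hy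
    obtain ⟨x', hx', h4⟩ := hb y' hy'
    rw [h3, br_anti x y', h4, br_Zc' (h.ab x' hx' x hx), neg_zero, map_zero]
    exact zero_mem _

theorem Mn.good (hp : p = 2) {E : Submodule k (chevE7.Idx → k)} (n : ℕ) : ∀ {W}, S.Mn E W → ∀ x ∈ W, x ∉ Zc k →
    del k x ^ 2 ^ n = 0 → ∃ W', S.Mn E W' ∧ ∀ x ∈ W', _root_.Cfsg.Agent.E7P.P2.sq k x ∈ Zc k := by
  induction n with
  | zero =>
    intro W _ x _ h1 h2
    rw [pow_zero, pow_one] at h2
    exact absurd (Mu.del_inj h2 ▸ zero_mem _) h1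
  | succ n ih =>
    intro W h x hx h1 h2
    rcases h.step hp with h3 | ⟨W', h3, h4⟩
    · exact ⟨W, h, h3⟩
    · exact ih h3 _ (h4 x hx h1).1 (h4 x hx h1).2 (by rw [del_sq (S.two hp), ← pow_two, ← pow_mul, ← pow_succ', h2])

theorem Heis.step (hp : p = 2) (hZ : S.FixZ) (hP : PEEL k) {E : Submodule k (chevE7.Idx → k)} (h : S.Heis E) :
    ∃ E', S.Heis E' ∧ E < E' := by
  have := S.closed
  have h2 := S.two hp
  obtain ⟨W0, h0⟩ := S.hb_exists_mn hp h.st (cz_big h2 h.sq (heis_le h2 h.z h.sq h.nd))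
  obtain ⟨x, hx, h1, n, hn⟩ := S.hb_exists_nil hp hZ h0.st h0.ne
  obtain ⟨W, hW, h3⟩ := Mn.good hp n h0 x hx h1 (pow_eq_zero_of_le Nat.lt_two_pow_self.le hn)
  rcases hW.smp (W ⊓ Cz W) (fun g y hy => ⟨hW.st g y hy.1, hW.st.cz S g y hy.2⟩)
    (fun z hz => ⟨hW.z hz, fun x _ => br_Zc' hz x⟩) inf_le_left with h4 | h4
  · refine ⟨E ⊔ W, ⟨h.z.trans le_sup_left, fun g y hy => ?_, fun y hy => ?_, fun y hy h5 => ?_⟩,
      lt_of_le_of_ne le_sup_left fun e => hW.ne fun y hy => h.nd y (e ▸ Submodule.mem_sup_right hy) (hW.le hy)⟩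
    · obtain ⟨e, he, w, hw, rfl⟩ := Submodule.mem_sup.1 hy
      rw [map_add]
      exact Submodule.add_mem_sup (h.st g e he) (hW.st g w hw)
    · obtain ⟨e, he, w, hw, rfl⟩ := Submodule.mem_sup.1 hy
      rw [sq_add h2, hW.le hw e he, add_zero]
      exact add_mem (h.sq e he) (h3 w hw)
    · obtain ⟨e, he, w, hw, rfl⟩ := Submodule.mem_sup.1 hy
      refine add_mem (h.nd e he fun y hy => ?_) (h4 ⟨hw, fun y hy => ?_⟩)
      · have h6 := h5 y (Submodule.mem_sup_left hy)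
        rwa [map_add, hW.le hw y hy, add_zero] at h6
      · have h6 := h5 y (Submodule.mem_sup_right hy)
        rwa [map_add, br_anti, hW.le hy e he, neg_zero, zero_add] at h6
  · exfalso
    have h5 : ∀ x ∈ W, ∀ y ∈ W, br k x y ∈ (⊥ : Submodule k (chevE7.Idx → k)) := fun x hx y hy => (h4 hy).2 x hx
    have h6 : ∀ x ∈ Pre h2 h5, x ∈ Zc k → x = 0 := fun x hx hz =>
      eq_zero_of_Zc hz ⟨2, by rw [pow_two, (sq_eq_zero h2).1 hx.2]⟩
    refine S.hb_nil (W := Pre h2 h5) (HbSt.pre S hp h5 hW.st fun g y hy => ?_) hp hZ hP (fun e => hW.ne fun y hy => ?_)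
      (fun U hU hU' => ?_) fun x hx => (sq_eq_zero h2).1 hx.2
    · rw [(Submodule.mem_bot k).1 hy, map_zero]
      exact zero_mem _
    · obtain ⟨z, hz, h7⟩ := exists_sq0 h2 (h3 y hy)
      have h8 : y + z ∈ Pre h2 h5 := ⟨add_mem hy (hW.z hz), h7⟩
      rw [e, Submodule.mem_bot, add_eq_zero_iff_eq_neg] at h8
      rw [h8]
      exact neg_mem hz
    · refine (hW.smp (U ⊔ Zc k) (fun g y hy => ?_) le_sup_right (sup_le (fun y hy => (hU hy).1) hW.z)).imp
        (fun h7 => eq_bot_iff.2 fun y hy => h6 y (hU hy) (h7 (Submodule.mem_sup_left hy)))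
        fun h7 => le_antisymm hU fun y hy => ?_
      · obtain ⟨e, he, w, hw, rfl⟩ := Submodule.mem_sup.1 hy
        rw [map_add]
        exact Submodule.add_mem_sup (hU' g e he) (S.hbSt_Zc g w hw)
      · obtain ⟨e, he, w, hw, rfl⟩ := Submodule.mem_sup.1 (h7 hy.1)
        have h8 := sub_mem hy (hU he)
        rw [add_sub_cancel_left] at h8
        rwa [h6 w h8 hw, add_zero]

variable (S)

/-- **Case 2 is impossible** -/
theorem hb_case2 (hp : p = 2) (hP : PEEL k) (hZ : S.FixZ) : False := by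
  have key : ∀ n, ∃ E, S.Heis E ∧ n ≤ finrank k E := fun n => by
    induction n with
    | zero => exact ⟨Zc k, ⟨le_rfl, S.hbSt_Zc, fun x hx => sq_Zc (S.two hp) hx, fun x hx _ => hx⟩, Nat.zero_le _⟩
    | succ n ih =>
      obtain ⟨E, h1, h2⟩ := ih
      obtain ⟨E', h3, h4⟩ := h1.step hp hZ hP
      exact ⟨E', h3, h2.trans_lt (Submodule.finrank_lt_finrank_of_lt h4)⟩
  obtain ⟨E, -, h⟩ := key 134
  have h1 := Submodule.finrank_le E
  rw [finrank_L] at h1
  omega

end Sit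

end Cfsg.Agent.E7P
end

private theorem dce_ed687aa8e607 : _root_.True := by
  try have : _root_.True := by simp only [_root_.Cfsg.Agent.E7P.Hb.Lf.om.eq_1]
  try have : _root_.True := by simp only [_root_.Cfsg.Agent.R2.T1.NM.eq_1]
  try have : _root_.True := by simp only [_root_.Cfsg.Agent.E7P.Kf.Cm.eq_1]
  try have : _root_.True := by simp only [_root_.Cfsg.Agent.E7P.Ca.Em.eq_1]
  try have : _root_.True := by simp only [_root_.Cfsg.Agent.E7P.Hb.yy.eq_1]
  try have : _root_.True := by simp only [_root_.Cfsg.Agent.E7P.Kf.ch.eq_1]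
  try have : _root_.True := by simp only [_root_.Cfsg.Agent.E7P.Hb.tau.eq_1]
  try have : _root_.True := by simp only [_root_.Cfsg.Agent.E7P.Hb.gR.eq_1]
  try have : _root_.True := by simp only [_root_.Cfsg.Agent.E7P.Hb.gC.eq_1]
  try have : _root_.True := by simp only [_root_.Cfsg.Agent.E7P.Kf.wc.eq_1]
  try have : _root_.True := by simp only [_root_.Cfsg.Agent.E7P.P2.sq.eq_1]
  exact _root_.True.intro
end

-- part: E7P/En2/Chk
section
prune_inst 0xf5604f6025c002000000851af20026246e00059000230400eea00f420fc1ef268902a760af80160900ceb2881835400811100070428000002a3c34100003012098ee1a04257cea1d4e009f81108c410000008040000000000000000000010004000000000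
set_option linter.all false
open scoped Cfsg.Agent.FastGrp

/-!
# S5932, END2: the finite checks (helper61)

* `zf` : an isolated weight; `rk` : a cocharacter which kills the supports; `leaf` : the test for a pair;
* `srch` : the search for the second cocharacter, `srch_spec`; `chk_all`, `chk_three`, `chk_four` : the results.
-/

set_option autoImplicit false
set_option maxRecDepth 100000
set_option maxHeartbeats 400000

namespace Cfsg.Agent.E7P.En2

open Cfsg.Agent.E7P.Kf Cfsg.Agent.E7P.Rsl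

/-- the scalar product -/
noncomputable def dot (a : List ℤ) : List ℤ → ℤ :=
  List.rec (fun _ => Int.ofNat 0) (fun x _ ih b => List.rec (Int.ofNat 0) (fun y b _ => Int.add (Int.mul x y) (ih b)) b) a

/-- small powers of two -/
def pw (x : ℤ) : Bool := Nat.testBit 65814 x.natAbs

/-- the code of a pair -/
def cd (x y : ℤ) : ℕ := (Int.add (Int.add x (Int.mul (Int.ofNat 64) y)) (Int.ofNat 8192)).toNat

/-- the set of the codes -/
noncomputable def bits (P : List (ℤ × ℤ)) : ℕ := List.rec 0 (fun x _ B => Nat.lor (Nat.shiftLeft 1 (cd x.1 x.2)) B) P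

/-- an isolated pair -/
noncomputable def zp (P : List (ℤ × ℤ)) : Bool :=
  P.any fun x => pw x.1 && (!(bits P).testBit (cd (x.1 + 2) x.2) && !(bits P).testBit (cd (x.1 - 2) x.2))

/-- an isolated weight -/
noncomputable def zf (T : List (List ℤ)) (b c : List ℤ) : Bool := zp (T.map fun w => (dot w b, dot w c))

/-- some cocharacters -/
def NU : List (List ℤ) := [[8, 12, 16, 24, 18, 12, 6], [2, 2, 3, 4, 3, 2, 1], [2, 3, 4, 6, 5, 4, 3], [2, 3, 4, 6, 3, 2, 1],
  [1, 1, 2, 3, 3, 2, 1], [4, 7, 10, 14, 11, 8, 4], [2, 3, 2, 4, 3, 2, 1], [2, 1, 4, 4, 3, 2, 1], [0, 1, 0, 1, 1, 0, 0],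
  [0, 1, 0, 2, 3, 2, 1]]

/-- a cocharacter which kills the supports -/
noncomputable def rk (b c : List ℤ) : Bool := NU.any fun ν => CT.all fun w =>
  dot w ν == 0 || !((dot w b == 2 && dot w c == 0) || (dot w b == 0 && (dot w c == 2 || dot w c == 0)))

/-- twice the highest coroot -/
def t1 : List ℤ := [4, 4, 6, 8, 6, 4, 2]

/-- twice the highest coroot of `D₆` -/
def t2 : List ℤ := [0, 2, 2, 4, 4, 4, 2]

/-- the test for a pair -/
noncomputable def leaf (b c : List ℤ) : Bool := zf WT c b || (zf WT b c || (rk b c || (zf GT b c || (b == t1 && c == t2))))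

/-- the loop over `c ± u, c ± (u + 2), ...` -/
noncomputable def two (f : ℕ → ℕ → Bool) (c rem n : ℕ) : ℕ → Bool :=
  Nat.rec (fun _ => false) (fun _ ih u => cond (Nat.ble (Nat.mul u u) rem)
    (f (Nat.add c u) (Nat.sub rem (Nat.mul u u)) &&
      (cond (Nat.ble u c) (Nat.beq u 0 || f (Nat.sub c u) (Nat.sub rem (Nat.mul u u))) true && ih (Nat.add u 2))) true) n

/-- a loop, or a single value -/
noncomputable def lp (z : Bool) (c rem par : ℕ) (f : ℕ → ℕ → Bool) : Bool :=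
  cond z (cond (Nat.ble (Nat.mul c c) rem) (Nat.beq (Nat.mod (Nat.add c par) 2) 1 || f 0 (Nat.sub rem (Nat.mul c c))) true)
    (two f c rem 40 par)

/-- the loop over `c + u, c + (u + 1), ...` -/
noncomputable def one (f : ℕ → ℕ → Bool) (c rem n : ℕ) : ℕ → Bool :=
  Nat.rec (fun _ => false) (fun _ ih u => cond (Nat.ble (Nat.mul 2 (Nat.mul u u)) rem)
    (f (Nat.add c u) (Nat.sub rem (Nat.mul 2 (Nat.mul u u))) && ih (Nat.add u 1)) true) n

/-- a loop, or a single value -/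
noncomputable def lq (z : Bool) (c rem : ℕ) (f : ℕ → ℕ → Bool) : Bool :=
  cond z (cond (Nat.ble (Nat.mul 2 (Nat.mul c c)) rem) (f 0 (Nat.sub rem (Nat.mul 2 (Nat.mul c c)))) true)
    (one f c rem 40 0)

/-- dominance -/
def dm (z : Bool) (x y : ℕ) (b : Bool) : Bool := cond z b (cond (Nat.ble x y) b true)

/-- the search -/
noncomputable def srch (a0 a1 a2 a3 a4 a5 a6 : Bool) (Q : ℕ) (lf : ℕ → ℕ → ℕ → ℕ → ℕ → ℕ → ℕ → Bool) : Bool :=
  lq a0 0 Q fun t r0 => [0, 1].all fun par =>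
  lp a6 t r0 par fun l6 r1 =>
  lp a5 (Nat.add l6 t) r1 par fun l5 r2 => dm a6 l5 (Nat.mul 2 l6) <|
  lp a4 (Nat.add l5 t) r2 par fun l4 r3 => dm a5 (Nat.add l4 l6) (Nat.mul 2 l5) <|
  lp a3 (Nat.add l4 t) r3 par fun l3 r4 => dm a4 (Nat.add l3 l5) (Nat.mul 2 l4) <|
  lq a1 (Nat.div l3 2) r4 fun l1 r5 => Nat.beq (Nat.mod (Nat.add l1 l6) 2) 1 ||
  lq a2 (Nat.add (Nat.div l3 2) t) r5 fun l2 r6 => cond (Nat.beq r6 0) (Nat.beq (Nat.mod l2 2) 1 ||
    (dm a3 (Nat.add l1 (Nat.add l2 l4)) (Nat.mul 2 l3) <| dm a0 l2 (Nat.mul 4 t) <| lf (Nat.mul 2 t) l1 l2 l3 l4 l5 l6)) true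

/-- twice the inverse Cartan matrix -/
def IC : List (List ℤ) := [[4, 4, 6, 8, 6, 4, 2], [4, 7, 8, 12, 9, 6, 3], [6, 8, 12, 16, 12, 8, 4], [8, 12, 16, 24, 18, 12, 6],
  [6, 9, 12, 18, 15, 10, 5], [4, 6, 8, 12, 10, 8, 4], [2, 3, 4, 6, 5, 4, 3]]

/-- the cocharacter with given labels -/
noncomputable def cwl (a : List ℤ) : List ℤ := IC.map fun r => dot r a

/-- the check for given labels -/
noncomputable def chk (a0 a1 a2 a3 a4 a5 a6 : Bool) : Bool :=
  !(a0 || a1 || a2 || a3 || a4 || a5 || a6) ||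
  srch a0 a1 a2 a3 a4 a5 a6
    (2 * dot (cwl [a0.toInt, a1.toInt, a2.toInt, a3.toInt, a4.toInt, a5.toInt, a6.toInt])
      [a0.toInt, a1.toInt, a2.toInt, a3.toInt, a4.toInt, a5.toInt, a6.toInt]).toNat
    fun l0 l1 l2 l3 l4 l5 l6 => leaf (cwl [a0.toInt, a1.toInt, a2.toInt, a3.toInt, a4.toInt, a5.toInt, a6.toInt])
      [Int.ofNat l0, Int.ofNat l1, Int.ofNat l2, Int.ofNat l3, Int.ofNat l4, Int.ofNat l5, Int.ofNat l6]

/-- `b + k c` -/
private noncomputable def zv (k : ℤ) (b : List ℤ) : List ℤ → List ℤ :=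
  List.rec (fun c => c.map (Int.mul k)) (fun x t ih c => List.rec (x :: t) (fun y c _ => Int.add x (Int.mul k y) :: ih c) c) b

private theorem dot_nil (w : List ℤ) : dot w [] = 0 := by cases w <;> rfl

private theorem dot_zv (k : ℤ) (w : List ℤ) : ∀ b c, dot w (zv k b c) = dot w b + k * dot w c := by
  induction w with
  | nil => exact fun _ _ => ((Int.zero_add _).trans (Int.mul_zero k)).symm
  | cons a w ih =>
    intro b c
    rcases b with _ | ⟨x, b⟩ <;> rcases c with _ | ⟨y, c⟩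
    · exact ((Int.zero_add _).trans (Int.mul_zero k)).symm
    · show a * (k * y) + dot w (zv k [] c) = 0 + k * (a * y + dot w c)
      rw [ih, dot_nil]
      ring
    · exact ((congrArg _ (Int.mul_zero k)).trans (Int.add_zero _)).symm
    · show a * (x + k * y) + dot w (zv k b c) = a * x + dot w b + k * (a * y + dot w c)
      rw [ih]
      ring

private theorem dot_comm (a : List ℤ) : ∀ b, dot a b = dot b a := by
  induction a with
  | nil => exact fun b => (dot_nil b).symm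
  | cons x a ih =>
    intro b
    cases b with
    | nil => rfl
    | cons y b => exact congrArg₂ (· + ·) (Int.mul_comm x y) (ih b)

/-- the sum of the absolute values -/
private noncomputable def nr (b : List ℤ) : ℕ := List.rec 0 (fun x _ ih => Nat.add x.natAbs ih) b

private theorem dot_le (w : List ℤ) : (∀ x ∈ w, x.natAbs ≤ 1) → ∀ b, (dot w b).natAbs ≤ nr b := by
  induction w with
  | nil => exact fun _ _ => Nat.zero_le _
  | cons x w ih =>
    intro h b
    cases b with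
    | nil => exact Nat.zero_le _
    | cons y b =>
      refine (Int.natAbs_add_le (x * y) (dot w b)).trans (Nat.add_le_add ?_ (ih (fun z hz => h z (List.mem_cons_of_mem _ hz)) b))
      rw [Int.natAbs_mul]
      exact (Nat.mul_le_mul_right _ (h x List.mem_cons_self)).trans (Nat.one_mul _).le

/-- the columns -/
private noncomputable def cs (T : List (List ℤ)) : List ℤ := List.rec [0] (fun w _ ih => zv 2147483659 (1 :: w) ih) T

/-- the union of the sets -/
private noncomputable def un (g : ℕ → ℕ) (T : List (List ℤ)) : ℕ → ℕ :=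
  List.rec (fun _ => 0) (fun _ _ ih D => Nat.lor (g (Nat.mod D 2147483659)) (ih (Nat.div D 2147483659))) T

private theorem un_spec (g : ℕ → ℕ) (o : ℤ) (v : List ℤ) (T : List (List ℤ)) (h : ∀ w ∈ T, 0 ≤ o + dot w v ∧ o + dot w v < 2147483659) :
    0 ≤ dot (o :: v) (cs T) ∧ ∀ j, (un g T (dot (o :: v) (cs T)).toNat).testBit j = T.any fun w => (g (o + dot w v).toNat).testBit j := by
  induction T with
  | nil => exact ⟨(show o * 0 + dot v [] = 0 by rw [dot_nil, Int.mul_zero, Int.add_zero]).ge, fun j => Nat.zero_testBit j⟩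
  | cons w T ih =>
    obtain ⟨h1, h2⟩ := ih fun x hx => h x (List.mem_cons_of_mem _ hx)
    obtain ⟨h3, h4⟩ := h w List.mem_cons_self
    have h5 : dot (o :: v) (cs (w :: T)) = o + dot w v + 2147483659 * dot (o :: v) (cs T) :=
      (dot_zv 2147483659 (o :: v) (1 :: w) (cs T)).trans (congrArg (fun z => z + 2147483659 * dot (o :: v) (cs T))
        (congrArg₂ (· + ·) (Int.mul_one o) (dot_comm v w)))
    rw [h5]
    refine ⟨by omega, fun j => ?_⟩
    show (g (_ % 2147483659) ||| un g T (_ / 2147483659)).testBit j = _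
    rw [Nat.testBit_or, List.any_cons, ← h2]
    congr 3 <;> omega

/-- the bits of a weight -/
private def gb (z : ℕ) : ℕ :=
  Nat.shiftLeft (Nat.succ (Nat.mul 2 (Nat.mod (Nat.shiftRight (nat_lit 0x10116d1010000000000000000000000000000000000000000000000000000000000000000000000000000000000000000000000000000000000000000000000000000) (Nat.mod z 1024)) 2)))
    (Nat.mul 2 (Nat.sub (Nat.div z 1024) 1040384))

private theorem gb_spec {x y : ℤ} (hx : x.natAbs < 512) (hy : y.natAbs < 8192) :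
    (gb (1073742336 + (x + 1024 * (x + 64 * y))).toNat).testBit (2 * cd x y) = true ∧
    ∀ j, (gb (1073742336 + (x + 1024 * (x + 64 * y))).toNat).testBit (2 * j + 1) = true → cd x y = j ∧ pw x = true := by
  have h0 : ∀ u < 1024, (nat_lit 0x10116d1010000000000000000000000000000000000000000000000000000000000000000000000000000000000000000000000000000000000000000000000000000 >>> u) % 2 = 1 → pw ((u : ℤ) - 512) = true := by decide +kernel
  have h1 : (1073742336 + (x + 1024 * (x + 64 * y))).toNat % 1024 = (x + 512).toNat := by omega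
  have h2 : (1073742336 + (x + 1024 * (x + 64 * y))).toNat / 1024 - 1040384 = cd x y := by
    show _ = (x + 64 * y + 8192).toNat
    omega
  have h3 := h0 (x + 512).toNat (by omega)
  rw [show (((x + 512).toNat : ℕ) : ℤ) - 512 = x by omega] at h3
  have h4 : gb (1073742336 + (x + 1024 * (x + 64 * y))).toNat =
      (2 * ((nat_lit 0x10116d1010000000000000000000000000000000000000000000000000000000000000000000000000000000000000000000000000000000000000000000000000000 >>> (x + 512).toNat) % 2) + 1) <<< (2 * cd x y) := by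
    rw [← h1, ← h2]
    rfl
  rw [h4]
  generalize cd x y = c
  rcases Nat.mod_two_eq_zero_or_one (nat_lit 0x10116d1010000000000000000000000000000000000000000000000000000000000000000000000000000000000000000000000000000000000000000000000000000 >>> (x + 512).toNat) with h5 | h5 <;> rw [h5] <;>
    refine ⟨by rw [Nat.testBit_shiftLeft, Nat.sub_self, decide_eq_true (Nat.le_refl _)]; rfl, fun j hj => ?_⟩ <;>
    rw [Nat.testBit_shiftLeft, Bool.and_eq_true, decide_eq_true_eq] at hj <;>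
    have h6 := (Nat.pow_lt_pow_iff_right (a := 2) (m := 2) (by decide)).1 ((Nat.ge_two_pow_of_testBit hj.2).trans_lt (by decide))
  · have h7 : 2 * j + 1 - 2 * c = 1 := by omega
    rw [h7] at hj
    exact Bool.noConfusion hj.2
  · exact ⟨by omega, h3 h5⟩

/-- the test -/
private def iso (E A : ℕ) : Bool :=
  not (Nat.beq (Nat.land (Nat.land (Nat.shiftRight A 5) E) (Nat.lor A (Nat.shiftRight A 8))) (Nat.land (Nat.shiftRight A 5) E))

private noncomputable def fr (x : ℕ) (f : ℕ → ℕ) : ℕ := Nat.rec (f 0) (fun n _ => f (Nat.succ n)) x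

/-- `zf` -/
private noncomputable def zq (n : ℕ) (b c : List ℤ) : Bool :=
  cond (Nat.blt (nr b) 512) (cond (Nat.blt (nr c) 8192) (iso ((4 ^ n - 1) / 3)
    (fr (dot (1073742336 :: zv 1024 b (zv 64 b c)) (cs WT)).toNat (un gb WT))) false) false

private theorem ev_bit (n i : ℕ) (h : ((4 ^ n - 1) / 3).testBit i = true) : ∃ j, i = 2 * j := by
  induction n generalizing i with
  | zero => exact absurd ((Nat.zero_testBit i).symm.trans h) Bool.false_ne_true
  | succ n ih =>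
    have h1 : 4 ^ n % 3 = 1 := by rw [Nat.pow_mod, show 4 % 3 = 1 from rfl, Nat.one_pow]
    rw [show (4 ^ (n + 1) - 1) / 3 = 2 ^ 2 * ((4 ^ n - 1) / 3) + 1 by rw [Nat.pow_succ]; generalize 4 ^ n = x at h1; omega, Nat.testBit_two_pow_mul_add _ (by decide)] at h
    split_ifs at h with h2
    · rcases i with _ | _ | _
      · exact ⟨0, rfl⟩
      · exact Bool.noConfusion h
      · omega
    · obtain ⟨j, hj⟩ := ih _ h
      exact ⟨j + 1, by omega⟩

private theorem zf_of {n : ℕ} {b c : List ℤ} (h3 : zq n b c = true) : zf WT b c = true := by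
  have e : ∀ (x : ℕ) (f : ℕ → ℕ), fr x f = f x := fun x f => by cases x <;> rfl
  rw [zq, e] at h3
  cases h1 : Nat.blt (nr b) 512 <;> rw [h1] at h3
  · exact Bool.noConfusion h3
  cases h2 : Nat.blt (nr c) 8192 <;> rw [h2] at h3
  · exact Bool.noConfusion h3
  rw [cond_true, cond_true] at h3
  have h4 : ∀ w ∈ WT, ∀ x ∈ w, x.natAbs ≤ 1 := by decide +kernel
  have hb := fun w hw => (dot_le w (h4 w hw) b).trans_lt (Nat.blt_eq.mp h1)
  have hc := fun w hw => (dot_le w (h4 w hw) c).trans_lt (Nat.blt_eq.mp h2)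
  have h5 := (un_spec gb 1073742336 (zv 1024 b (zv 64 b c)) WT fun w hw => by
    have := hb w hw
    have := hc w hw
    rw [dot_zv, dot_zv]
    omega).2
  simp only [dot_zv] at h5
  generalize un gb WT _ = A at h3 h5
  have h6 : (A >>> 5 &&& (4 ^ n - 1) / 3) &&& (A ||| A >>> 8) ≠ A >>> 5 &&& (4 ^ n - 1) / 3 :=
    Nat.ne_of_beq_eq_false ((Bool.not_eq_true' _).mp h3)
  obtain ⟨i, hi⟩ := not_forall.1 fun h => h6 (Nat.eq_of_testBit_eq h)
  rw [Nat.testBit_and] at hi
  have h7 : ∀ p q : Bool, ¬ (p && q) = p → p = true ∧ q = false := by decide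
  obtain ⟨h8, h9⟩ := h7 _ _ hi
  rw [Nat.testBit_and, Bool.and_eq_true, Nat.testBit_shiftRight] at h8
  rw [Nat.testBit_or, Bool.or_eq_false_iff, Nat.testBit_shiftRight] at h9
  obtain ⟨j, rfl⟩ := ev_bit n i h8.2
  obtain ⟨w, hw, h10⟩ := List.any_eq_true.1 ((h5 _).symm.trans h8.1)
  rw [show 5 + 2 * j = 2 * (j + 2) + 1 by omega] at h10
  obtain ⟨h11, h12⟩ := (gb_spec (hb w hw) (hc w hw)).2 _ h10
  have h13 : ∀ k, A.testBit (2 * k) = false → ∀ L : List (List ℤ), (∀ w ∈ L, w ∈ WT) →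
      (bits (L.map fun w => (dot w b, dot w c))).testBit k = false := fun k hk L => by
    induction L with
    | nil => exact fun _ => Nat.zero_testBit k
    | cons u L ih =>
      intro hL
      show Nat.testBit (1 <<< cd (dot u b) (dot u c) ||| bits _) k = false
      rw [Nat.testBit_or, ih fun w hw => hL w (List.mem_cons_of_mem _ hw), Bool.or_false, Nat.one_shiftLeft]
      refine Nat.testBit_two_pow_of_ne fun h => ?_
      have hu := hL u List.mem_cons_self
      rw [h5, List.any_eq_false] at hk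
      exact hk u hu (h ▸ (gb_spec (hb u hu) (hc u hu)).1)
  have h14 : (dot w b + 64 * dot w c + 8192).toNat = j + 2 := h11
  refine List.any_eq_true.2 ⟨_, List.mem_map.2 ⟨w, hw, rfl⟩, ?_⟩
  show (pw (dot w b) && (!(bits _).testBit (dot w b + 2 + 64 * dot w c + 8192).toNat &&
    !(bits _).testBit (dot w b - 2 + 64 * dot w c + 8192).toNat)) = true
  rw [h12, show (dot w b + 2 + 64 * dot w c + 8192).toNat = j + 4 by omega,
    show (dot w b - 2 + 64 * dot w c + 8192).toNat = j by omega, h13 j h9.1 WT fun _ h => h,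
    h13 (j + 4) (by rw [show 2 * (j + 4) = 8 + 2 * j by omega]; exact h9.2) WT fun _ h => h]
  rfl

private theorem leaf_eq (n : ℕ) : leaf = fun b c => cond (zq n c b) true (cond (zq n b c) true (cond (rk b c) true (leaf b c))) := by
  funext b c
  cases h1 : zq n c b
  · cases h2 : zq n b c
    · cases h3 : rk b c
      · rfl
      · delta leaf
        rw [h3, Bool.true_or, Bool.or_true, Bool.or_true]
        rfl
    · delta leaf
      rw [zf_of h2, Bool.true_or, Bool.or_true]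
      rfl
  · delta leaf
    rw [zf_of h1, Bool.true_or]
    rfl

private noncomputable def lp' (z : Bool) (c rem par : ℕ) (f : ℕ → ℕ → Bool) : Bool :=
  Bool.rec (Nat.rec (motive := fun _ => ℕ → Bool) (fun _ => false) (fun _ ih u => Bool.rec true
      (Bool.rec false (Bool.rec false (ih (Nat.add u 2))
        (Bool.rec true (Bool.rec (f (Nat.sub c u) (Nat.sub rem (Nat.mul u u))) true (Nat.beq u 0)) (Nat.ble u c)))
        (f (Nat.add c u) (Nat.sub rem (Nat.mul u u)))) (Nat.ble (Nat.mul u u) rem)) 40 par)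
    (Bool.rec true (Bool.rec (f 0 (Nat.sub rem (Nat.mul c c))) true (Nat.beq (Nat.mod (Nat.add c par) 2) 1))
      (Nat.ble (Nat.mul c c) rem)) z

private noncomputable def lq' (z : Bool) (c rem : ℕ) (f : ℕ → ℕ → Bool) : Bool :=
  Bool.rec (Nat.rec (motive := fun _ => ℕ → Bool) (fun _ => false) (fun _ ih u => Bool.rec true
      (Bool.rec false (ih (Nat.add u 1)) (f (Nat.add c u) (Nat.sub rem (Nat.mul 2 (Nat.mul u u)))))
      (Nat.ble (Nat.mul 2 (Nat.mul u u)) rem)) 40 0)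
    (Bool.rec true (f 0 (Nat.sub rem (Nat.mul 2 (Nat.mul c c)))) (Nat.ble (Nat.mul 2 (Nat.mul c c)) rem)) z

private noncomputable def dm' (z : Bool) (x y : ℕ) (b : Bool) : Bool := Bool.rec (Bool.rec true b (Nat.ble x y)) b z

private noncomputable def srch' (a0 a1 a2 a3 a4 a5 a6 : Bool) (Q : ℕ) (lf : ℕ → ℕ → ℕ → ℕ → ℕ → ℕ → ℕ → Bool) : Bool :=
  lq' a0 0 Q fun t r0 => [0, 1].all fun par =>
  lp' a6 t r0 par fun l6 r1 =>
  lp' a5 (Nat.add l6 t) r1 par fun l5 r2 => dm' a6 l5 (Nat.mul 2 l6) <|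
  lp' a4 (Nat.add l5 t) r2 par fun l4 r3 => dm' a5 (Nat.add l4 l6) (Nat.mul 2 l5) <|
  lp' a3 (Nat.add l4 t) r3 par fun l3 r4 => dm' a4 (Nat.add l3 l5) (Nat.mul 2 l4) <|
  lq' a1 (Nat.div l3 2) r4 fun l1 r5 => Bool.rec (
  lq' a2 (Nat.add (Nat.div l3 2) t) r5 fun l2 r6 => Bool.rec true (Bool.rec
    (dm' a3 (Nat.add l1 (Nat.add l2 l4)) (Nat.mul 2 l3) <| dm' a0 l2 (Nat.mul 4 t) <| lf (Nat.mul 2 t) l1 l2 l3 l4 l5 l6)
    true (Nat.beq (Nat.mod l2 2) 1)) (Nat.beq r6 0)) true (Nat.beq (Nat.mod (Nat.add l1 l6) 2) 1)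

private theorem srch_eq : srch = srch' := by
  have c1 : ∀ b x y : Bool, cond b x y = Bool.rec y x b := by decide
  have c2 : ∀ b x : Bool, (b && x) = Bool.rec false x b := by decide
  have c3 : ∀ b x : Bool, (b || x) = Bool.rec x true b := by decide
  have e1 : lp = lp' := by
    delta lp lp' two
    simp only [c1, c2, c3]
  have e2 : lq = lq' := by
    delta lq lq' one
    simp only [c1, c2]
  have e3 : dm = dm' := by
    delta dm dm'
    simp only [c1]
  delta srch srch'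
  rw [e1, e2, e3]
  simp only [c1, c3]

private theorem chk_a : ∀ a0 a1 a2 a3 a4 a5 a6, chk a0 a1 a2 a3 a4 a5 a6 = true := by
  delta chk
  rw [leaf_eq 16000, srch_eq]
  decide +kernel

/-- the function `χ` -/
def chi (x : ℤ) : ℤ := if x = 0 then 1 else if x = 2 then -1 else 0

theorem chk_two : (WT.map fun w => chi (dot w t1) * chi (dot w t2)).sum = 2 := by decide +kernel

theorem chk_three : (CT.all fun x => !(dot x t1 == 0 && dot x t2 == 0) ||
    ((WT.map fun w => chi (dot w t1) * (chi (dot w t2) * chi (dot w (cwl x)))).sum == 2 ||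
      zp (WT.map fun w => (dot w t1, dot w t2 + 5 * dot w (cwl x))))) = true := by decide +kernel

theorem chk_four : (CT.all fun x => !(dot x t1 == 0 && dot x t2 == 0) || CT.all fun y =>
    !(dot y t1 == 0 && dot y t2 == 0 && dot y (cwl x) == 0) ||
    (zp (WT.map fun w => (dot w t1, dot w t2 + 5 * dot w (cwl x) + 25 * dot w (cwl y))) ||
      zp (WT.map fun w => (dot w t2, dot w t1 + 5 * dot w (cwl x) + 25 * dot w (cwl y))))) = true := by
  simp only [← dot_zv]
  show (CT.all fun x => !(dot x t1 == 0 && dot x t2 == 0) || CT.all fun y =>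
    !(dot y t1 == 0 && dot y t2 == 0 && dot y (cwl x) == 0) ||
    (zf WT t1 (zv 25 (zv 5 t2 (cwl x)) (cwl y)) || zf WT t2 (zv 25 (zv 5 t1 (cwl x)) (cwl y)))) = true
  have h : ∀ a b c d, (zf WT a b || zf WT c d) = (zq 16000 a b || (zq 16000 c d || (zf WT a b || zf WT c d))) := fun a b c d => by
    cases h1 : zq 16000 a b
    · cases h2 : zq 16000 c d
      · rfl
      · rw [zf_of h2, Bool.or_true]
        rfl
    · rw [zf_of h1]
      rfl
  refine Eq.trans (congrArg _ (funext fun x => congrArg _ (congrArg _ (funext fun y => congrArg _ (h _ _ _ _))))) ?_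
  decide +kernel

theorem chk_all (a0 a1 a2 a3 a4 a5 a6 : Bool) : chk a0 a1 a2 a3 a4 a5 a6 = true := chk_a a0 a1 a2 a3 a4 a5 a6

theorem dot_lst (c l : Fin 7 → ℤ) : dot (lst c) (lst l) = lev l c := by
  show c 0 * l 0 + (c 1 * l 1 + (c 2 * l 2 + (c 3 * l 3 + (c 4 * l 4 + (c 5 * l 5 + (c 6 * l 6 + 0)))))) = _
  rw [lev, Fin.sum_univ_seven]
  ring

theorem cwl_lst (c : Fin 7 → ℤ) : cwl (lst c) = lst (nt_cw c) := by
  show [dot (lst ![4, 4, 6, 8, 6, 4, 2]) _, dot (lst ![4, 7, 8, 12, 9, 6, 3]) _, dot (lst ![6, 8, 12, 16, 12, 8, 4]) _,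
    dot (lst ![8, 12, 16, 24, 18, 12, 6]) _, dot (lst ![6, 9, 12, 18, 15, 10, 5]) _, dot (lst ![4, 6, 8, 12, 10, 8, 4]) _,
    dot (lst ![2, 3, 4, 6, 5, 4, 3]) _] = _
  simp only [dot_lst]
  simp [lst, lev, nt_cw, iC, Fin.sum_univ_seven, mul_comm]

theorem pw_ne {k : Type*} [Field k] (h2 : (2 : k) ≠ 0) {x : ℤ} (hx : pw x = true) : (x : k) ≠ 0 := by
  have h1 : x.natAbs < 17 := (Nat.pow_lt_pow_iff_right one_lt_two).1 ((Nat.ge_two_pow_of_testBit hx).trans_lt (by norm_num))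
  have h3 : ∀ n < 17, Nat.testBit 65814 n = true → ∃ e < 5, n = 2 ^ e := by decide
  obtain ⟨e, -, he⟩ := h3 _ h1 hx
  rcases Int.natAbs_eq x with h4 | h4 <;> rw [h4, he] <;> simp [h2]

theorem bits_spec {P : List (ℤ × ℤ)} {x y : ℤ} (hx : (x, y) ∈ P) : (bits P).testBit (cd x y) = true := by
  induction P with
  | nil => exact absurd hx List.not_mem_nil
  | cons z P ih =>
    show Nat.testBit (1 <<< cd z.1 z.2 ||| bits P) _ = true
    rw [Nat.testBit_or, Bool.or_eq_true, Nat.one_shiftLeft]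
    rcases List.mem_cons.1 hx with rfl | hx
    · exact Or.inl Nat.testBit_two_pow_self
    · exact Or.inr (ih hx)

theorem zp_false {P : List (ℤ × ℤ)} (hP : ∀ x ∈ P, pw x.1 = true → (x.1 + 2, x.2) ∈ P ∨ (x.1 - 2, x.2) ∈ P) :
    zp P = false := by
  rw [zp, List.any_eq_false]
  intro x hx e
  simp only [Bool.and_eq_true, Bool.not_eq_true'] at e
  rcases hP x hx e.1 with h1 | h1
  · exact Bool.false_ne_true (e.2.1.symm.trans (bits_spec h1))
  · exact Bool.false_ne_true (e.2.2.symm.trans (bits_spec h1))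

theorem two_spec {f : ℕ → ℕ → Bool} {c rem x d r : ℕ} (hx : x = c + d ∨ x + d = c) (hr : d * d + r = rem) :
    ∀ n u, two f c rem n u = true → u ≤ d → (d + u) % 2 = 0 → f x r = true := by
  intro n
  induction n with
  | zero => exact fun u e => absurd e Bool.false_ne_true
  | succ n ih =>
    intro u e h1 h2
    have h3 : Nat.ble (u * u) rem = true := Nat.ble_eq_true_of_le ((Nat.mul_self_le_mul_self h1).trans (by omega))
    have h4 : cond (Nat.ble (u * u) rem) (f (c + u) (rem - u * u) && (cond (Nat.ble u c) (Nat.beq u 0 ||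
      f (c - u) (rem - u * u)) true && two f c rem n (u + 2))) true = true := e
    simp only [h3, cond_true, Bool.and_eq_true] at h4
    by_cases h5 : u = d
    · subst h5
      rw [show rem - u * u = r by omega] at h4
      rcases hx with rfl | rfl
      · exact h4.1
      · have h6 := h4.2.1
        rw [Nat.ble_eq_true_of_le (Nat.le_add_left _ _), cond_true, Bool.or_eq_true, Nat.beq_eq, Nat.add_sub_cancel] at h6
        rcases h6 with rfl | h6
        · exact h4.1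
        · exact h6
    · exact ih _ h4.2.2 (by omega) (by omega)

theorem lp_spec {z : Bool} {f : ℕ → ℕ → Bool} {c rem par x d r : ℕ} (e : lp z c rem par f = true) (hz : z = true → x = 0)
    (hx : x = c + d ∨ x + d = c) (hr : d * d + r = rem) (h1 : par < 2) (h2 : (d + par) % 2 = 0) : f x r = true := by
  cases z
  · exact two_spec hx hr 40 par e (by omega) h2
  · obtain rfl := hz rfl
    obtain rfl : c = d := by omega
    have h3 : cond (Nat.ble (c * c) rem) (Nat.beq ((c + par) % 2) 1 || f 0 (rem - c * c)) true = true := e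
    rwa [Nat.ble_eq_true_of_le (show c * c ≤ rem by omega), h2, show rem - c * c = r by omega] at h3

theorem one_spec {f : ℕ → ℕ → Bool} {c rem d r : ℕ} (hr : 2 * (d * d) + r = rem) :
    ∀ n u, one f c rem n u = true → u ≤ d → f (c + d) r = true := by
  intro n
  induction n with
  | zero => exact fun u e => absurd e Bool.false_ne_true
  | succ n ih =>
    intro u e h1
    have h2 := Nat.mul_self_le_mul_self h1
    have h3 : Nat.ble (2 * (u * u)) rem = true := Nat.ble_eq_true_of_le (by omega)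
    have h4 : cond (Nat.ble (2 * (u * u)) rem) (f (c + u) (rem - 2 * (u * u)) && one f c rem n (u + 1)) true = true := e
    simp only [h3, cond_true, Bool.and_eq_true] at h4
    by_cases h5 : u = d
    · subst h5
      rw [show rem - 2 * (u * u) = r by omega] at h4
      exact h4.1
    · exact ih _ h4.2 (by omega)

theorem lq_spec {z : Bool} {f : ℕ → ℕ → Bool} {c rem x d r : ℕ} (e : lq z c rem f = true) (hz : z = true → x = 0)
    (hz' : z = false → c ≤ x) (hx : x = c + d ∨ x + d = c) (hr : 2 * (d * d) + r = rem) : f x r = true := by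
  cases z
  · have h1 := hz' rfl
    rw [show x = c + d by omega]
    exact one_spec hr 40 0 e (Nat.zero_le _)
  · obtain rfl := hz rfl
    obtain rfl : c = d := by omega
    have h3 : cond (Nat.ble (2 * (c * c)) rem) (f 0 (rem - 2 * (c * c))) true = true := e
    rwa [Nat.ble_eq_true_of_le (show 2 * (c * c) ≤ rem by omega), show rem - 2 * (c * c) = r by omega] at h3

theorem dm_spec {z b : Bool} {x y : ℕ} (e : dm z x y b = true) (hz : z = false → x ≤ y) : b = true := by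
  cases z
  · rwa [dm, cond_false, Nat.ble_eq_true_of_le (hz rfl)] at e
  · exact e

theorem exists_dist (x c : ℕ) : ∃ d : ℕ, (x = c + d ∨ x + d = c) ∧ (d : ℤ) * d = ((x : ℤ) - c) ^ 2 := by
  rcases le_total c x with e | e <;> obtain ⟨d, rfl⟩ := Nat.exists_eq_add_of_le e
  · exact ⟨d, Or.inl rfl, by push_cast; ring⟩
  · exact ⟨d, Or.inr rfl, by push_cast; ring⟩

theorem srch_spec {a0 a1 a2 a3 a4 a5 a6 : Bool} {Q : ℕ} {lf : ℕ → ℕ → ℕ → ℕ → ℕ → ℕ → ℕ → Bool}
    (e : srch a0 a1 a2 a3 a4 a5 a6 Q lf = true) {t l1 l2 x l4 l5 l6 : ℕ} (z0 : a0 = true → t = 0) (z1 : a1 = true → l1 = 0)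
    (z2 : a2 = true → l2 = 0) (z3 : a3 = true → 2 * x = 0) (z4 : a4 = true → l4 = 0) (z5 : a5 = true → l5 = 0)
    (z6 : a6 = true → l6 = 0) (d0 : a0 = false → l2 ≤ 4 * t) (d1 : a1 = false → x ≤ l1) (d2 : a2 = false → x + t ≤ l2)
    (d3 : a3 = false → l1 + (l2 + l4) ≤ 2 * (2 * x)) (d4 : a4 = false → 2 * x + l5 ≤ 2 * l4)
    (d5 : a5 = false → l4 + l6 ≤ 2 * l5) (d6 : a6 = false → l5 ≤ 2 * l6) (p2 : l2 % 2 = 0) (p5 : l5 % 2 = 0)
    (p1 : (l1 + l6) % 2 = 0) (p4 : (l4 + l6) % 2 = 0)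
    (hQ : (Q : ℤ) = 8 * t ^ 2 + 2 * l1 ^ 2 + 2 * l2 ^ 2 + 8 * x ^ 2 + 2 * l4 ^ 2 + 2 * l5 ^ 2 + 2 * l6 ^ 2 - 4 * t * l2 -
      4 * l1 * x - 4 * l2 * x - 4 * x * l4 - 2 * l4 * l5 - 2 * l5 * l6) : lf (2 * t) l1 l2 (2 * x) l4 l5 l6 = true := by
  obtain ⟨y6, e6, q6⟩ := exists_dist l6 t
  obtain ⟨y5, e5, q5⟩ := exists_dist l5 (l6 + t)
  obtain ⟨y4, e4, q4⟩ := exists_dist l4 (l5 + t)
  obtain ⟨y3, e3, q3⟩ := exists_dist (2 * x) (l4 + t)
  obtain ⟨y1, e1, q1⟩ := exists_dist l1 x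
  obtain ⟨y2, e2, q2⟩ := exists_dist l2 (x + t)
  have h0 : 2 * (t * t) + (y6 * y6 + (y5 * y5 + (y4 * y4 + (y3 * y3 + (2 * (y1 * y1) + (2 * (y2 * y2) + 0)))))) = Q := by
    zify
    push_cast at q5 q4 q3 q2
    rw [q6, q5, q4, q3, q1, q2, hQ]
    ring
  have hx : Nat.div (2 * x) 2 = x := Nat.mul_div_cancel_left x two_pos
  have h1 := lq_spec e z0 (fun _ => Nat.zero_le _) (Or.inl (Nat.zero_add t).symm) h0
  have h2 := List.all_eq_true.1 h1 (y6 % 2) (by simp only [List.mem_cons, List.not_mem_nil, or_false]; exact Nat.mod_two_eq_zero_or_one _)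
  have k0 : y6 % 2 < 2 := Nat.mod_lt _ two_pos
  have k1 : (l6 + t + y6 % 2) % 2 = 0 := by clear * - e6; omega
  have k2 : ∀ {a c y : ℕ}, a = c + y ∨ a + y = c → (a + c + y6 % 2) % 2 = 0 → (y + y6 % 2) % 2 = 0 := fun h1 h2 => by
    clear * - h1 h2
    omega
  have h3 := lp_spec h2 z6 e6 rfl k0 (k2 e6 k1)
  have h4 := dm_spec (lp_spec h3 z5 e5 rfl k0 (k2 e5 (by clear * - k1 p5; omega))) d6
  have h5 := dm_spec (lp_spec h4 z4 e4 rfl k0 (k2 e4 (by clear * - k1 p5 p4; omega))) d5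
  have h6 := dm_spec (lp_spec h5 z3 e3 rfl k0 (k2 e3 (by clear * - k1 p4; omega))) d4
  rw [hx] at h6
  have h7 := lq_spec h6 z1 d1 e1 rfl
  rw [show Nat.mod (Nat.add l1 l6) 2 = 0 from p1] at h7
  have h8 := lq_spec ((Bool.false_or _).symm.trans h7) z2 d2 e2 rfl
  rw [show Nat.mod l2 2 = 0 from p2] at h8
  exact dm_spec (dm_spec ((Bool.false_or _).symm.trans h8) d3) d0

end Cfsg.Agent.E7P.En2

private theorem dce_448148abc161 : _root_.True := by
  try have : _root_.True := by simp only [_root_.Cfsg.Agent.E7P.En2.zp.eq_1]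
  try have : _root_.True := by simp only [_root_.Cfsg.Agent.E7P.En2.dm.eq_1]
  exact _root_.True.intro
end

-- part: E7P/En2/Pair
section
prune_inst 0xf5606f6025c002000018851ab200242060000400000304003ea00f020b47f122a903a7414f201d01004ebc883805000000100060408000000a3c30100003012098665a040748431d6e009981308b590c00008040000000000000000000051004000000000
set_option linter.all false
open scoped Cfsg.Agent.FastGrp

/-!
# S5932, END2: two cocharacters (helper61)

* `exists_dom2` : simultaneous dominance; `zp_V`, `zp_L`, `rk_false` : the tests fail;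
* `pair` : two cocharacters of a family with even levels are conjugate to twice the highest coroots of `E₇` and `D₆`.
-/

set_option autoImplicit false
set_option maxRecDepth 100000
set_option maxHeartbeats 400000

namespace Cfsg.Agent.E7P.En2

open Cfsg Cfsg.Lie Matrix
open Cfsg.Agent.R2.T1 Cfsg.Agent.E7P.Kf Cfsg.Agent.E7P.Rsl

universe u

theorem exists_dom2 (x y : Kf.E) : ∃ v, Dom (wL v x) ∧ ∀ a, wL v x a = 0 → 0 ≤ wL v y a := by
  obtain ⟨v1, h1⟩ := exists_dom x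
  obtain ⟨_, ⟨v, hv, rfl⟩, h2⟩ := Set.exists_max_image ((fun v => wL v y) '' {v | wL v x = wL v1 x}) (fun z => bf rho1 z)
    ((finite_orbit y).subset (Set.image_subset_range _ _)) ⟨_, v1, rfl, rfl⟩
  refine ⟨v, (show wL v x = wL v1 x from hv) ▸ h1, fun a ha => ?_⟩
  have h3 := h2 _ ⟨a :: v, show wL (a :: v) x = _ by rw [wL_cons, sr_apply, ha, zero_smul, sub_zero]; exact hv, rfl⟩
  simp only [wL_cons, sr_apply, map_sub, map_smul, bf_rho1_al, smul_eq_mul, mul_one] at h3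
  linarith

theorem nonneg7 {l0 l1 l2 l3 l4 l5 l6 : ℤ} (n0 : l0 = 0 ∨ 0 ≤ 2 * l0 - l2) (n1 : l1 = 0 ∨ 0 ≤ 2 * l1 - l3)
    (n2 : l2 = 0 ∨ 0 ≤ 2 * l2 - l0 - l3) (n3 : l3 = 0 ∨ 0 ≤ 2 * l3 - l1 - l2 - l4) (n4 : l4 = 0 ∨ 0 ≤ 2 * l4 - l3 - l5)
    (n5 : l5 = 0 ∨ 0 ≤ 2 * l5 - l4 - l6) (n6 : l6 = 0 ∨ 0 ≤ 2 * l6 - l5) :
    0 ≤ l0 ∧ 0 ≤ l1 ∧ 0 ≤ l2 ∧ 0 ≤ l3 ∧ 0 ≤ l4 ∧ 0 ≤ l5 ∧ 0 ≤ l6 := by
  have key : ∀ x : ℤ, ∃ m : ℤ, 0 ≤ m ∧ -x ≤ m ∧ (m = 0 ∨ (m = -x ∧ x ≠ 0)) := fun x => ⟨max 0 (-x), by omega⟩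
  obtain ⟨m0, a0, b0, c0⟩ := key l0
  obtain ⟨m1, a1, b1, c1⟩ := key l1
  obtain ⟨m2, a2, b2, c2⟩ := key l2
  obtain ⟨m3, a3, b3, c3⟩ := key l3
  obtain ⟨m4, a4, b4, c4⟩ := key l4
  obtain ⟨m5, a5, b5, c5⟩ := key l5
  obtain ⟨m6, a6, b6, c6⟩ := key l6
  have h0 : 2 * m0 ≤ m2 := c0.elim (fun e => by linarith) fun e => by linarith [n0.resolve_left e.2, e.1]
  have h1 : 2 * m1 ≤ m3 := c1.elim (fun e => by linarith) fun e => by linarith [n1.resolve_left e.2, e.1]
  have h2 : 2 * m2 ≤ m0 + m3 := c2.elim (fun e => by linarith) fun e => by linarith [n2.resolve_left e.2, e.1]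
  have h3 : 2 * m3 ≤ m1 + m2 + m4 := c3.elim (fun e => by linarith) fun e => by linarith [n3.resolve_left e.2, e.1]
  have h4 : 2 * m4 ≤ m3 + m5 := c4.elim (fun e => by linarith) fun e => by linarith [n4.resolve_left e.2, e.1]
  have h5 : 2 * m5 ≤ m4 + m6 := c5.elim (fun e => by linarith) fun e => by linarith [n5.resolve_left e.2, e.1]
  have h6 : 2 * m6 ≤ m5 := c6.elim (fun e => by linarith) fun e => by linarith [n6.resolve_left e.2, e.1]
  exact ⟨by linarith, by linarith, by linarith, by linarith, by linarith, by linarith, by linarith⟩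

theorem srch_int {a0 a1 a2 a3 a4 a5 a6 : Bool} {lf : List ℤ → Bool} {l0 l1 l2 l3 l4 l5 l6 : ℤ}
    (e : srch a0 a1 a2 a3 a4 a5 a6 ((2 * l0 - l2) * l0 + (2 * l1 - l3) * l1 + (2 * l2 - l0 - l3) * l2 +
      (2 * l3 - l1 - l2 - l4) * l3 + (2 * l4 - l3 - l5) * l4 + (2 * l5 - l4 - l6) * l5 + (2 * l6 - l5) * l6).toNat
      (fun l0 l1 l2 l3 l4 l5 l6 => lf [Int.ofNat l0, Int.ofNat l1, Int.ofNat l2, Int.ofNat l3, Int.ofNat l4, Int.ofNat l5,
        Int.ofNat l6]) = true) (z0 : a0 = true → l0 = 0) (z1 : a1 = true → l1 = 0) (z2 : a2 = true → l2 = 0)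
    (z3 : a3 = true → l3 = 0) (z4 : a4 = true → l4 = 0) (z5 : a5 = true → l5 = 0) (z6 : a6 = true → l6 = 0)
    (d0 : a0 = false → 0 ≤ 2 * l0 - l2) (d1 : a1 = false → 0 ≤ 2 * l1 - l3) (d2 : a2 = false → 0 ≤ 2 * l2 - l0 - l3)
    (d3 : a3 = false → 0 ≤ 2 * l3 - l1 - l2 - l4) (d4 : a4 = false → 0 ≤ 2 * l4 - l3 - l5)
    (d5 : a5 = false → 0 ≤ 2 * l5 - l4 - l6) (d6 : a6 = false → 0 ≤ 2 * l6 - l5) (p0 : (2 * l0 - l2) % 2 = 0)
    (p1 : (2 * l1 - l3) % 2 = 0) (p2 : (2 * l2 - l0 - l3) % 2 = 0) (p3 : (2 * l3 - l1 - l2 - l4) % 2 = 0)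
    (p5 : (2 * l5 - l4 - l6) % 2 = 0) (p6 : (2 * l6 - l5) % 2 = 0) : lf [l0, l1, l2, l3, l4, l5, l6] = true := by
  have key : ∀ {a : Bool} {P Q : Prop}, (a = true → P) → (a = false → Q) → P ∨ Q := fun {a} _ _ h1 h2 => by
    cases a
    · exact Or.inr (h2 rfl)
    · exact Or.inl (h1 rfl)
  obtain ⟨n0, n1, n2, n3, n4, n5, n6⟩ := nonneg7 (key z0 d0) (key z1 d1) (key z2 d2) (key z3 d3) (key z4 d4) (key z5 d5)
    (key z6 d6)
  obtain ⟨t, rfl⟩ : ∃ t : ℕ, l0 = (2 * t : ℕ) := ⟨l0.toNat / 2, by (clear * - p1 p2 n0; omega)⟩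
  obtain ⟨x, rfl⟩ : ∃ x : ℕ, l3 = (2 * x : ℕ) := ⟨l3.toNat / 2, by (clear * - n3 p2; omega)⟩
  lift l1 to ℕ using n1
  lift l2 to ℕ using n2
  lift l4 to ℕ using n4
  lift l5 to ℕ using n5
  lift l6 to ℕ using n6
  refine srch_spec e (fun e => by have := z0 e; omega) (fun e => by have := z1 e; (clear * - p2 this; omega)) (fun e => by have := z2 e; omega)
    (fun e => by have := z3 e; (clear * - this; omega)) (fun e => by have := z4 e; (clear * - this; omega)) (fun e => by have := z5 e; omega)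
    (fun e => by have := z6 e; omega) (fun e => by have := d0 e; omega) (fun e => by have := d1 e; (clear * - p2 this; omega))
    (fun e => by have := d2 e; (clear * - this; omega)) (fun e => by have := d3 e; (clear * - this; omega)) (fun e => by have := d4 e; (clear * - this; omega))
    (fun e => by have := d5 e; (clear * - this; omega)) (fun e => by have := d6 e; omega) (by omega) (by omega) (by (clear * - p0 p3 p5; omega)) (by (clear * - p5; omega)) ?_
  rw [Int.toNat_of_nonneg] <;> push_cast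
  · ring
  · linarith only [sq_nonneg ((l6 : ℤ) - t), sq_nonneg ((l5 : ℤ) - l6 - t), sq_nonneg ((l4 : ℤ) - l5 - t), sq_nonneg (2 * (x : ℤ) - l4 - t), sq_nonneg ((l1 : ℤ) - x), sq_nonneg ((l2 : ℤ) - x - t), sq_nonneg (t : ℤ)]

theorem chk_simple : ((List.range 7).map fun a => (List.range 7).map fun i => chevE7.cartan i (chevE7.simple a)) =
    [[2, 0, -1, 0, 0, 0, 0], [0, 2, 0, -1, 0, 0, 0], [-1, 0, 2, -1, 0, 0, 0], [0, -1, -1, 2, -1, 0, 0],
      [0, 0, 0, -1, 2, -1, 0], [0, 0, 0, 0, -1, 2, -1], [0, 0, 0, 0, 0, -1, 2]] := by decide +kernel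

/-- the labels of a cocharacter -/
def lb (l : Fin 7 → ℤ) (a : Fin 7) : ℤ := lev l (rc (chevE7.simple a))

theorem lb_eq (l : Fin 7 → ℤ) : lb l 0 = 2 * l 0 - l 2 ∧ lb l 1 = 2 * l 1 - l 3 ∧ lb l 2 = 2 * l 2 - l 0 - l 3 ∧
    lb l 3 = 2 * l 3 - l 1 - l 2 - l 4 ∧ lb l 4 = 2 * l 4 - l 3 - l 5 ∧ lb l 5 = 2 * l 5 - l 4 - l 6 ∧
    lb l 6 = 2 * l 6 - l 5 := by
  have h1 := chk_simple
  simp only [List.range_succ, List.range_zero, List.nil_append, List.cons_append, List.map_cons, List.map_nil,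
    List.cons.injEq, and_true] at h1
  simp only [lb, lev, rc, Fin.sum_univ_seven, Fin.isValue, Fin.val_zero, Fin.val_one, Fin.val_two,
    show ((3 : Fin 7) : ℕ) = 3 from rfl, show ((4 : Fin 7) : ℕ) = 4 from rfl, show ((5 : Fin 7) : ℕ) = 5 from rfl,
    show ((6 : Fin 7) : ℕ) = 6 from rfl, h1]
  (clear * -; omega)

theorem lb_cast (l : Fin 7 → ℤ) (a : Fin 7) : (lb l a : ℝ) = lE l a := lev_simple l a

theorem norm_eq (l : Fin 7 → ℤ) : bf (lE l) (lE l) = (lev l (lb l) : ℝ) := by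
  rw [lev_cast]
  exact congrArg _ (funext fun a => (lb_cast l a).symm)

variable {k : Type u} [Field k] [Infinite k] {p : ℕ} {ι : Type} (Y : Fam k p ι)

theorem zp_V (i : ι) (κ : List ℤ → ℤ) (hκ : ∀ s s', (∀ j, j ≠ i → lev (Y.X j).l (wc s') = lev (Y.X j).l (wc s)) →
    κ (lst (wc s')) = κ (lst (wc s))) : zp (WT.map fun x => (dot x (lst (Y.X i).l), κ x)) = false := by
  refine zp_false fun x hx h1 => ?_
  obtain ⟨_, h2, rfl⟩ := List.mem_map.1 hx
  obtain ⟨s, rfl⟩ := mem_WT.1 h2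
  rw [dot_lst] at h1 ⊢
  obtain ⟨s', h3, h4⟩ := Y.zV (pw_ne (Y.X i).two h1)
  exact h4.imp (fun e => List.mem_map.2 ⟨_, mem_WT.2 ⟨s', rfl⟩, by rw [dot_lst, e, hκ _ _ h3]⟩)
    fun e => List.mem_map.2 ⟨_, mem_WT.2 ⟨s', rfl⟩, by rw [dot_lst, e, hκ _ _ h3]⟩

theorem zf_V {i j : ι} (hij : i ≠ j) : zf WT (lst (Y.X i).l) (lst (Y.X j).l) = false :=
  zp_V Y i _ fun s s' e => by rw [dot_lst, dot_lst, e j hij.symm]

theorem zf_L {i j : ι} (hij : i ≠ j) : zf GT (lst (Y.X i).l) (lst (Y.X j).l) = false := by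
  refine zp_false fun x hx h1 => ?_
  obtain ⟨_, h2, rfl⟩ := List.mem_map.1 hx
  obtain ⟨s, rfl⟩ := mem_GT.1 h2
  rw [dot_lst] at h1 ⊢
  obtain ⟨s', h3, h4⟩ := Y.zL (pw_ne (Y.X i).two h1)
  exact h4.imp (fun e => List.mem_map.2 ⟨_, mem_GT.2 ⟨s', rfl⟩, by rw [dot_lst, e, dot_lst, dot_lst, h3 j hij.symm]⟩)
    fun e => List.mem_map.2 ⟨_, mem_GT.2 ⟨s', rfl⟩, by rw [dot_lst, e, dot_lst, dot_lst, h3 j hij.symm]⟩

theorem chk_NU : ∀ ν ∈ NU, lst (fun a => ν.getD a 0) = ν ∧ ν ≠ lst 0 := by decide +kernel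

theorem rk_false {i j : ι} (hij : i ≠ j) : rk (lst (Y.X i).l) (lst (Y.X j).l) = false := by
  rw [rk, List.any_eq_false]
  intro ν hν e
  obtain ⟨h1, h2⟩ := chk_NU ν hν
  refine h2 (h1.symm.trans (congrArg lst (Y.cent fun a r hr h3 h4 => ?_)))
  have h5 := List.all_eq_true.1 e _ (mem_CT.2 ⟨r, hr, rfl⟩)
  rw [← h1, dot_lst, dot_lst, dot_lst, Bool.or_eq_true, beq_iff_eq] at h5
  refine h5.resolve_right ?_
  by_cases e1 : i = a
  · rw [h4 j (e1 ▸ hij.symm), e1, h3]
    decide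
  · by_cases e2 : j = a
    · rw [h4 i e1, e2, h3]
      decide
    · rw [h4 i e1, h4 j e2]
      decide

/-- the levels on the roots are even -/
def Ev : Prop := ∀ i, ∀ r < 126, lev (Y.X i).l (rc r) % 2 = 0

variable {Y} in
theorem Ev.move (hY : Ev Y) (v : List (Fin 7)) : Ev (Y.move v) := fun i r hr => by
  obtain ⟨s, hs, e⟩ := exists_wL_rv v.reverse hr
  have h1 := lev_cast ((Y.move v).X i).l (rc r)
  rw [Y.move_l, bf_wL, show cv (rc r) = rv r from rfl, e, rv, ← lev_cast, Int.cast_inj] at h1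
  rw [h1, hY i s hs]

theorem pair_dom (hY : Ev Y) {i j : ι} (hij : i ≠ j) (hi : Dom (lE (Y.X i).l))
    (hj : ∀ a, lE (Y.X i).l a = 0 → 0 ≤ lE (Y.X j).l a) : lst (Y.X i).l = t1 ∧ lst (Y.X j).l = t2 := by
  have h1 : ∀ a, ∃ b : Bool, lb (Y.X i).l a = 2 * b.toInt ∧ (b = true → (Y.X j).l a = 0) ∧
      (b = false → 0 ≤ lb (Y.X j).l a) := fun a => by
    have h2 : lb (Y.X i).l a ≤ 2 := Y.lab_le_two hi a
    have h3 : lb (Y.X i).l a % 2 = 0 := hY i _ (simple_lt7 a a.2)
    have h4 : 0 ≤ lb (Y.X i).l a := by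
      have h5 := hi a
      rwa [← lb_cast, Int.cast_nonneg_iff] at h5
    by_cases e : lb (Y.X i).l a = 0
    · refine ⟨false, e, fun e' => absurd e' Bool.false_ne_true, fun _ => ?_⟩
      have h5 := hj a (by rw [← lb_cast, e, Int.cast_zero])
      rwa [← lb_cast, Int.cast_nonneg_iff] at h5
    · exact ⟨true, show _ = 2 by omega, fun _ => Y.coord_eq_zero hij hi (by rw [← lb_cast]; exact_mod_cast e),
        fun e' => absurd e'.symm Bool.false_ne_true⟩
  choose b hb hz hd using h1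
  have h2 : (Y.X i).l = nt_cw fun a => (b a).toInt := nt_lE_inj (by
    rw [nt_lE_cw]
    funext a
    rw [← lb_cast, hb, Pi.smul_apply, cv, smul_eq_mul, Int.cast_mul, Int.cast_ofNat])
  have h3 : lev (Y.X j).l (lb (Y.X j).l) = 2 * lev (nt_cw fun a => (b a).toInt) fun a => (b a).toInt := by
    have h4 := Y.norm j i
    rw [norm_eq, norm_eq, Int.cast_inj] at h4
    rw [h4, ← h2, lev, lev, Finset.mul_sum]
    exact Finset.sum_congr rfl fun a _ => by rw [hb, mul_assoc]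
  have h4 := chk_all (b 0) (b 1) (b 2) (b 3) (b 4) (b 5) (b 6)
  rw [chk, show [(b 0).toInt, (b 1).toInt, (b 2).toInt, (b 3).toInt, (b 4).toInt, (b 5).toInt, (b 6).toInt] =
    lst fun a => (b a).toInt from rfl, cwl_lst, ← h2, Bool.or_eq_true] at h4
  rcases h4 with h4 | h4
  · refine absurd ?_ (Y.X i).l_ne
    simp only [Bool.not_eq_true', Bool.or_eq_false_iff] at h4
    rw [h2]
    funext a
    simp [nt_cw, Fin.sum_univ_seven, h4]
  have hp : ∀ a, lb (Y.X j).l a % 2 = 0 := fun a => hY j _ (simple_lt7 a a.2)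
  obtain ⟨e0, e1, e2, e3, e4, e5, e6⟩ := lb_eq (Y.X j).l
  have h5 : lev (Y.X j).l (lb (Y.X j).l) = 2 * dot (lst (Y.X i).l) (lst fun a => (b a).toInt) := by
    rw [h3, dot_lst, h2, lev, lev]
    simp only [mul_comm]
  rw [← h5, lev, Fin.sum_univ_seven, e0, e1, e2, e3, e4, e5, e6] at h4
  have h6 : leaf (lst (Y.X i).l) (lst (Y.X j).l) = true := srch_int h4 (hz 0) (hz 1) (hz 2) (hz 3) (hz 4) (hz 5) (hz 6)
    (e0 ▸ hd 0) (e1 ▸ hd 1) (e2 ▸ hd 2) (e3 ▸ hd 3) (e4 ▸ hd 4) (e5 ▸ hd 5) (e6 ▸ hd 6) (e0 ▸ hp 0) (e1 ▸ hp 1) (e2 ▸ hp 2)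
    (e3 ▸ hp 3) (e5 ▸ hp 5) (e6 ▸ hp 6)
  rwa [leaf, zf_V Y hij, zf_V Y hij.symm, zf_L Y hij, rk_false Y hij, Bool.false_or, Bool.false_or, Bool.false_or,
    Bool.false_or, Bool.and_eq_true, beq_iff_eq, beq_iff_eq] at h6

/-- **two cocharacters** -/
theorem pair (hY : Ev Y) {i j : ι} (hij : i ≠ j) : ∃ v, lst ((Y.move v).X i).l = t1 ∧ lst ((Y.move v).X j).l = t2 := by
  obtain ⟨v, h1, h2⟩ := exists_dom2 (lE (Y.X i).l) (lE (Y.X j).l)
  exact ⟨v, pair_dom _ (hY.move v) hij (by rwa [Y.move_l]) (by rwa [Y.move_l, Y.move_l])⟩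

end Cfsg.Agent.E7P.En2

private theorem dce_55230e4ef175 : _root_.True := by
  try have : _root_.True := by simp only [_root_.Cfsg.Agent.E7P.En2.chk.eq_1]
  try have : _root_.True := by simp only [_root_.Cfsg.Agent.E7P.Kf.rc.eq_1]
  try have : _root_.True := by simp only [_root_.Cfsg.Agent.E7P.En2.lb.eq_1]
  try have : _root_.True := by simp only [_root_.Cfsg.Agent.E7P.En2.leaf.eq_1]
  try have : _root_.True := by simp only [_root_.Cfsg.Agent.E7P.En2.rk.eq_1]
  exact _root_.True.intro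
end

-- part: E7P/En2/Root
section
prune_inst 0xf1406f6425c002000000851af20006202200049200430400f6a003020bc7f8648902a660db301d1100081c9c283500081110000042a000000a3c0010011b018010400000014843196a0098012888000000008040000000000000000000051004000000000
set_option linter.all false
open scoped Cfsg.Agent.FastGrp

/-!
# S5932, END2: orthogonal coroots (helper61)

* `Sm A` : the weights are `0, ± 2`; `Qm A` : an operator onto the fixed vectors; `trace_list` : the trace of the product;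
* `en2` : there is no family with at least two members and even levels.
-/

set_option autoImplicit false
set_option maxRecDepth 100000
set_option maxHeartbeats 400000

namespace Cfsg.Agent.E7P.En2

open Cfsg Cfsg.Lie Matrix
open Cfsg.Agent.R2.T1 Cfsg.Agent.E7P.Kf Cfsg.Agent.E7P.Rsl
open Cfsg.Agent.H943.SL2Rel (u w h)

universe u

variable {k : Type u} [Field k]

section
variable {I : Type*} [Fintype I] [DecidableEq I] (A : Rep2 k I)

/-- the weights are `0, ± 2` -/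
def Sm : Prop := ∀ s, A.n s = 0 ∨ A.n s = 2 ∨ A.n s = -2

/-- a function of the weight -/
def dg (φ : ℤ → ℤ) : Matrix I I k := diagonal fun s => (φ (A.n s) : k)

/-- the projection to the weight `0` -/
def p0 : Matrix I I k := dg A fun x => if x = 0 then 1 else 0

/-- an operator onto the fixed vectors -/
noncomputable def Qm : Matrix I I k := (1 - (2 : k)⁻¹ • (A.F * A.E)) * p0 A

variable {A}

theorem dg_mulVec (φ : ℤ → ℤ) {j : ℤ} {x : I → k} (hx : x ∈ A.Wt j) : dg A φ *ᵥ x = (φ j : k) • x := by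
  funext s
  rw [dg, mulVec_diagonal, Pi.smul_apply, smul_eq_mul]
  by_cases e : x s = 0
  · rw [e, mul_zero, mul_zero]
  · rw [hx s e]

theorem p0_mem (x : I → k) : p0 A *ᵥ x ∈ A.Wt 0 := fun s hs => by
  by_contra e
  exact hs (by rw [p0, dg, mulVec_diagonal, if_neg e, Int.cast_zero, zero_mul])

theorem Sm.zero (hA : Sm A) {j : ℤ} {x : I → k} (hx : x ∈ A.Wt j) (hj : 2 < j ∨ j < -2) : x = 0 := funext fun s => by
  by_contra e
  have h1 := hx s e
  have h2 := hA s
  omega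

theorem ext_wt {B C : Matrix I I k} (e : ∀ j, ∀ x ∈ A.Wt j, B *ᵥ x = C *ᵥ x) : B = C := by
  ext a b
  have h1 := congrFun (e _ _ (A.single_mem b 1)) a
  rwa [mulVec_single_one, mulVec_single_one] at h1

variable [Infinite k]

theorem comm_dg {B : Matrix I I k} (e : ∀ x, B * A.R x = A.R x * B) (φ : ℤ → ℤ) : B * dg A φ = dg A φ * B := by
  ext a b
  rw [dg, mul_diagonal, diagonal_mul, mul_comm]
  by_cases h0 : B a b = 0
  · rw [h0, mul_zero, mul_zero]
  · rw [Rep2.wt_of_comm (fun _ => e _) h0]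

theorem comm_Qm {B : Matrix I I k} (e : ∀ x, B * A.R x = A.R x * B) : B * Qm A = Qm A * B := by
  have h1 : Commute B A.E := Rep2.comm_E e
  have h2 : Commute B A.F := Rep2.comm_F e
  have h3 : Commute B (p0 A) := comm_dg e _
  exact ((Commute.one_right B).sub_right ((h2.mul_right h1).smul_right _)).mul_right h3

theorem Sm.fix (hA : Sm A) (h2 : (2 : k) ≠ 0) (x : I → k) (g : SpecialLinearGroup (Fin 2) k) :
    A.R g *ᵥ Qm A *ᵥ x = Qm A *ᵥ x := by
  have h0 := p0_mem (A := A) x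
  have h1 := Rep2.E_mem h0
  have h3 : Qm A *ᵥ x = p0 A *ᵥ x - (2 : k)⁻¹ • A.F *ᵥ A.E *ᵥ p0 A *ᵥ x := by
    rw [Qm, ← mulVec_mulVec, sub_mulVec, one_mulVec, smul_mulVec, ← mulVec_mulVec]
  have h4 : Qm A *ᵥ x ∈ A.Wt 0 := h3 ▸ sub_mem h0 (Submodule.smul_mem _ _ (Rep2.F_mem h1))
  have h5 : A.E *ᵥ Qm A *ᵥ x = 0 := by
    rw [h3, mulVec_sub, mulVec_smul, Rep2.EF_mulVec h2 h1, hA.zero (Rep2.E_mem h1) (by omega), mulVec_zero, zero_add,
      smul_smul, zero_add, Int.cast_ofNat, inv_mul_cancel₀ h2, one_smul, sub_self]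
  have h6 : A.F *ᵥ Qm A *ᵥ x = 0 := Rep2.f4 h2 (by simpa using h2) (Rep2.F_mem h4)
    (by rw [Rep2.EF_mulVec h2 h4, h5, mulVec_zero, Int.cast_zero, zero_smul, add_zero])
    (hA.zero (Rep2.F_mem (Rep2.F_mem h4)) (by omega))
  refine Rep2.fix_all (fun m hm => ?_) (fun m hm => ?_) g
  · by_cases e : m = 1
    · rw [e]; exact h5
    · exact hA.zero (Rep2.D_mem h4 m) (by omega)
  · by_cases e : m = 1
    · rw [e, ← Rep2.E, Rep2.op_E, neg_mulVec, h6, neg_zero]
    · exact hA.zero (Rep2.opD_mem h4 m) (by omega)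

theorem Sm.trace (hA : Sm A) (h2 : (2 : k) ≠ 0) {B : Matrix I I k} (e : ∀ x, B * A.R x = A.R x * B) :
    trace (Qm A * B) = trace (dg A chi * B) := by
  have h1 : p0 A - (2 : k)⁻¹ • (A.E * p0 A * A.F) = dg A chi := ext_wt (A := A) fun j x hx => by
    rw [sub_mulVec, smul_mulVec, ← mulVec_mulVec, ← mulVec_mulVec, p0, dg_mulVec _ (Rep2.F_mem hx), dg_mulVec _ hx,
      dg_mulVec _ hx, mulVec_smul, chi]
    by_cases e2 : j = 2
    · rw [Rep2.EF_mulVec h2 hx, hA.zero (Rep2.E_mem hx) (by omega), e2]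
      simp [smul_smul, h2]
    · rw [if_neg (show j - 2 ≠ 0 by omega), if_neg e2]
      simp
  rw [← h1, Qm, sub_mul, one_mul, sub_mul, sub_mul, trace_sub, trace_sub, smul_mul_assoc, smul_mul_assoc, smul_mul_assoc,
    trace_smul, trace_smul, mul_assoc A.F, mul_assoc A.F, trace_mul_comm A.F, mul_assoc _ B, Rep2.comm_F e, ← mul_assoc]

end

section
variable [Infinite k] {I ι : Type*} [Fintype I] [DecidableEq I] {A : ι → Rep2 k I}
  (hA : ∀ i j, i ≠ j → ∀ x y, (A i).R x * (A j).R y = (A j).R y * (A i).R x) (hS : ∀ i, Sm (A i)) (h2 : (2 : k) ≠ 0)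
include hA

theorem comm_list {L : List ι} {i : ι} (hi : i ∉ L) (x : SpecialLinearGroup (Fin 2) k) :
    Commute ((A i).R x) (L.map fun j => Qm (A j)).prod :=
  Commute.list_prod_right _ _ fun B hB => by
    obtain ⟨j, hj, rfl⟩ := List.mem_map.1 hB
    exact comm_Qm (hA i j (fun e => hi (e ▸ hj)) x)

include hS h2

theorem fix_list {L : List ι} (hL : L.Nodup) {i : ι} (hi : i ∈ L) (g : SpecialLinearGroup (Fin 2) k) (x : I → k) :
    (A i).R g *ᵥ (L.map fun j => Qm (A j)).prod *ᵥ x = (L.map fun j => Qm (A j)).prod *ᵥ x := by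
  induction L with
  | nil => exact absurd hi List.not_mem_nil
  | cons j L ih =>
    rw [List.map_cons, List.prod_cons, ← mulVec_mulVec]
    rcases List.mem_cons.1 hi with rfl | hi
    · exact (hS i).fix h2 _ g
    · rw [mulVec_mulVec, comm_Qm (hA i j (fun e => (List.nodup_cons.1 hL).1 (e ▸ hi)) g), ← mulVec_mulVec,
        ih (List.nodup_cons.1 hL).2 hi]

theorem trace_list {L : List ι} (hL : L.Nodup) {B : Matrix I I k} (hB : ∀ i ∈ L, ∀ x, Commute B ((A i).R x)) :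
    trace ((L.map fun j => Qm (A j)).prod * B) =
      trace (diagonal (fun s => (((L.map fun j => chi ((A j).n s)).prod : ℤ) : k)) * B) := by
  induction L generalizing B with
  | nil => simp
  | cons j L ih =>
    obtain ⟨h1, h3⟩ := List.nodup_cons.1 hL
    rw [List.map_cons, List.prod_cons, mul_assoc, (hS j).trace h2 fun x =>
      (comm_list hA h1 x).symm.mul_left (hB j List.mem_cons_self x), trace_mul_comm, mul_assoc, ih h3 fun i hi x =>
      (hB i (List.mem_cons_of_mem _ hi) x).mul_left (comm_dg (hA i j (fun e => h1 (e ▸ hi)) x) chi).symm, ← mul_assoc,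
      trace_mul_comm, ← mul_assoc, dg, diagonal_mul_diagonal]
    simp only [List.map_cons, List.prod_cons, Int.cast_mul]

end

theorem chk_sm : (CT.all fun x => WT.all fun y => dot y (cwl x) == 0 || dot y (cwl x) == 2 || dot y (cwl x) == -2) = true := by
  decide +kernel

variable [Infinite k] {p : ℕ} {ι : Type} (Y : Fam k p ι)

theorem trace_ne (hR : ∀ i, ∃ r < 126, (Y.X i).l = nt_cw (rc r)) {L : List ι} (hL : L.Nodup) (hall : ∀ i, i ∈ L) (i : ι) :
    (WT.map fun x => (L.map fun j => chi (dot x (lst (Y.X j).l))).prod).sum ≠ 2 := fun e => by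
  have hS : ∀ i, Sm (Y.X i).V := fun i s => by
    obtain ⟨r, hr, h1⟩ := hR i
    have h2 := List.all_eq_true.1 (List.all_eq_true.1 chk_sm _ (mem_CT.2 ⟨r, hr, rfl⟩)) _ (mem_WT.2 ⟨s, rfl⟩)
    rwa [cwl_lst, dot_lst, ← h1, Bool.or_eq_true, Bool.or_eq_true, beq_iff_eq, beq_iff_eq, beq_iff_eq, or_assoc] at h2
  have h1 := trace_list Y.comm_V hS (Y.X i).two hL fun _ _ _ => Commute.one_left _
  have h2 : (L.map fun j => Qm (Y.X j).V).prod = 0 := by
    ext a b
    have h3 := congrFun (Y.fixV _ fun j x => fix_list Y.comm_V hS (Y.X i).two hL (hall j) x (Pi.single b 1)) a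
    rwa [mulVec_single_one] at h3
  rw [h2, zero_mul, trace_zero, mul_one, trace_diagonal, ← Int.cast_sum] at h1
  rw [← sum_WT] at e
  simp only [dot_lst] at e
  exact (Y.X i).two (by rw [h1]; exact_mod_cast congrArg (Int.cast : ℤ → k) e.symm)

/-- **no family with two members and even levels** -/
theorem en2 (hY : Ev Y) {i j : ι} (hij : i ≠ j) : False := by
  obtain ⟨v, h1, h2⟩ := pair Y hY hij
  generalize Y.move v = Z at h1 h2
  have hR : ∀ a, ∃ r < 126, (Z.X a).l = nt_cw (rc r) := fun a => by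
    obtain ⟨v, hv⟩ := Z.conj i a
    obtain ⟨r, hr, e⟩ := exists_wL_rv v (show 125 < 126 by norm_num)
    have h3 : (Z.X i).l = nt_cw (rc 125) := lst_inj (by
      rw [h1, ← cwl_lst, show lst (rc 125) = [1, 0, 0, 0, 0, 0, 0] by decide +kernel]
      decide +kernel)
    exact ⟨r, hr, nt_lE_inj (by rw [hv, h3, nt_lE_cw, nt_lE_cw, map_smul]; exact congrArg _ e)⟩
  choose ρ hρ hl using id hR
  have ho : ∀ a b, a ≠ b → dot (lst (rc (ρ b))) (lst (Z.X a).l) = 0 := fun a b hab => by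
    have h3 := Z.orth hab
    rw [hl b, nt_lE_cw, map_smul, ← lev_cast, smul_eq_mul, mul_eq_zero, Int.cast_eq_zero] at h3
    rw [dot_lst, h3.resolve_left two_ne_zero]
  have hc : ∀ a, cwl (lst (rc (ρ a))) = lst (Z.X a).l := fun a => by rw [cwl_lst, hl]
  by_cases e2 : ∀ a, a ∈ [i, j]
  · refine trace_ne Z hR (by simp [hij]) e2 i ?_
    simp only [List.map_cons, List.map_nil, List.prod_cons, List.prod_nil, mul_one, h1, h2]
    exact chk_two
  obtain ⟨a, ha⟩ := not_forall.1 e2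
  simp only [List.mem_cons, List.not_mem_nil, or_false, not_or] at ha
  have hai := ho i a (Ne.symm ha.1)
  have haj := ho j a (Ne.symm ha.2)
  by_cases e3 : ∀ b, b ∈ [i, j, a]
  · have h3 := List.all_eq_true.1 chk_three _ (mem_CT.2 ⟨_, hρ a, rfl⟩)
    rw [hc, ← h1, ← h2, hai, haj, zp_V Z i _ fun s s' e => by
      rw [dot_lst, dot_lst, dot_lst, dot_lst, e j hij.symm, e a ha.1]] at h3
    refine trace_ne Z hR (by simp [hij, Ne.symm ha.1, Ne.symm ha.2]) e3 i ?_
    simpa only [List.map_cons, List.map_nil, List.prod_cons, List.prod_nil, mul_one, beq_self_eq_true, Bool.and_self,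
      Bool.not_true, Bool.false_or, Bool.or_false, beq_iff_eq] using h3
  obtain ⟨b, hb⟩ := not_forall.1 e3
  simp only [List.mem_cons, List.not_mem_nil, or_false, not_or] at hb
  have h3 := List.all_eq_true.1 chk_four _ (mem_CT.2 ⟨_, hρ a, rfl⟩)
  rw [← h1, ← h2, hai, haj, hc] at h3
  have h4 := List.all_eq_true.1 ((Bool.false_or _).symm.trans h3) _ (mem_CT.2 ⟨_, hρ b, rfl⟩)
  rw [hc, ho i b (Ne.symm hb.1), ho j b (Ne.symm hb.2.1), ho a b (Ne.symm hb.2.2), zp_V Z i _ fun s s' e => by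
    simp only [dot_lst, e j hij.symm, e a ha.1, e b hb.1], zp_V Z j _ fun s s' e => by
    simp only [dot_lst, e i hij, e a ha.2, e b hb.2.1]] at h4
  exact absurd h4 (by decide)

end Cfsg.Agent.E7P.En2

private theorem dce_6390d4c90377 : _root_.True := by
  try have : _root_.True := by simp only [_root_.Cfsg.Agent.E7P.En2.dg.eq_1]
  try have : _root_.True := by simp only [_root_.Cfsg.Agent.E7P.En2.Qm.eq_1]
  try have : _root_.True := by simp only [_root_.Cfsg.Agent.E7P.En2.chi.eq_1]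
  try have : _root_.True := by simp only [_root_.Cfsg.Agent.E7P.En2.p0.eq_1]
  exact _root_.True.intro
end

-- part: E7P/Ag/Defs
section
prune_inst 0xe140266401c0020000180518700026400e00009200430000c24002400fc02c4429010661b4301118001808d4683d004811100060428000000a1c0c10011900800880000030084119420008000088410000008040000000000000000000010004000000000
set_option linter.all false
open scoped Cfsg.Agent.FastGrp

/-!
# S5932: the interface of ALG (`TorW ⇒ Alg`) (helper32)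

See `notes/E7P/alg.md`.
* `Kf.MA`, `Kf.Reg` : regular maps, `Kf.PA`, `Kf.LA` : polynomial and Laurent functions; `Kf.constP`, `Kf.constL` : rigidity;
* `Kf.co` : cocharacters; `Kf.PL` : polynomial maps with a linear term;
* `Kf.ADDPOLY, UNIQ, FRAME, LIEPOLY, RINGD, RINGE, COUNT, LIFT` : the statements of the lemmas;
* `Sit.Good, Sg, Ut, IRRF, Sig, AbU, Sec, Rts` : the steps.
-/

set_option autoImplicit false
set_option maxRecDepth 100000

namespace Cfsg.Agent.E7P

open Cfsg Cfsg.Lie Matrix Module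
open Cfsg.Agent.H943.E7V.Block (D1 rho)
open Cfsg.Agent.R2.T1 Cfsg.Agent.E7P.Kf
open Cfsg.Agent.R2.PX (del)
open Cfsg.Agent.H943.SL2Rel (u w h)

universe u v

namespace Kf

variable {k : Type u} [Field k]

section
variable {X : Type*}

/-- matrix-valued functions with entries in `𝒜` -/
def MA (𝒜 : Subalgebra k (X → k)) (I : Type*) [Fintype I] [DecidableEq I] : Subalgebra k (X → Matrix I I k) where
  carrier := {f | ∀ i j, (fun x => f x i j) ∈ 𝒜}
  mul_mem' := by
    intro f g hf hg i j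
    have e : (fun x => (f * g) x i j) = ∑ m, (fun x => f x i m) * fun x => g x m j := by
      funext x
      rw [Finset.sum_apply, Pi.mul_apply, mul_apply]
      rfl
    rw [e]
    exact sum_mem fun m _ => mul_mem (hf i m) (hg m j)
  add_mem' := fun hf hg i j => add_mem (hf i j) (hg i j)
  algebraMap_mem' := fun c i j => 𝒜.algebraMap_mem ((algebraMap k (Matrix I I k) c) i j)

theorem const_mem_MA (𝒜 : Subalgebra k (X → k)) {I : Type*} [Fintype I] [DecidableEq I] (A : Matrix I I k) :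
    (fun _ => A) ∈ MA 𝒜 I := fun i j => 𝒜.algebraMap_mem (A i j)

theorem smul_mem_MA {𝒜 : Subalgebra k (X → k)} {I : Type*} [Fintype I] [DecidableEq I] {c : X → k} (hc : c ∈ 𝒜)
    (A : Matrix I I k) : (fun x => c x • A) ∈ MA 𝒜 I := fun i j => mul_mem hc (𝒜.algebraMap_mem (A i j))

theorem det_mem {𝒜 : Subalgebra k (X → k)} {I : Type*} [Fintype I] [DecidableEq I] {f : X → Matrix I I k}
    (hf : f ∈ MA 𝒜 I) : (fun x => (f x).det) ∈ 𝒜 := by
  have e : (fun x => (f x).det) = ∑ σ : Equiv.Perm I, (Equiv.Perm.sign σ : ℤ) • ∏ i, fun x => f x (σ i) i := by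
    funext x
    rw [det_apply, Finset.sum_apply]
    refine Finset.sum_congr rfl fun σ _ => ?_
    rw [Pi.smul_apply, Finset.prod_apply]
    rfl
  rw [e]
  exact sum_mem fun σ _ => zsmul_mem (prod_mem fun i _ => hf _ _) _

/-- regular maps -/
def Reg (𝒜 : Subalgebra k (X → k)) : Subgroup (X → Gh k) where
  carrier := {f | (fun x => rho k (f x)) ∈ MA 𝒜 D1 ∧ (fun x => rho k (f x)⁻¹) ∈ MA 𝒜 D1}
  one_mem' := ⟨const_mem_MA 𝒜 _, const_mem_MA 𝒜 _⟩
  mul_mem' := by
    intro f g hf hg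
    constructor
    · simp only [Pi.mul_apply, map_mul]
      exact mul_mem hf.1 hg.1
    · simp only [Pi.mul_apply, _root_.mul_inv_rev, map_mul]
      exact mul_mem hg.2 hf.2
  inv_mem' := by
    intro f hf
    refine ⟨hf.2, ?_⟩
    simp only [Pi.inv_apply, inv_inv]
    exact hf.1

variable {𝒜 : Subalgebra k (X → k)}

theorem Reg.const (𝒜 : Subalgebra k (X → k)) (g : Gh k) : (fun _ => g) ∈ Reg 𝒜 := ⟨const_mem_MA 𝒜 _, const_mem_MA 𝒜 _⟩

theorem Reg.mul {f g : X → Gh k} (hf : f ∈ Reg 𝒜) (hg : g ∈ Reg 𝒜) : (fun x => f x * g x) ∈ Reg 𝒜 := mul_mem hf hg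

theorem Reg.inv {f : X → Gh k} (hf : f ∈ Reg 𝒜) : (fun x => (f x)⁻¹) ∈ Reg 𝒜 := inv_mem hf

theorem Reg.comp {Y : Type*} {ℬ : Subalgebra k (Y → k)} {φ : Y → X} (hφ : ∀ f ∈ 𝒜, (fun y => f (φ y)) ∈ ℬ)
    {f : X → Gh k} (hf : f ∈ Reg 𝒜) : (fun y => f (φ y)) ∈ Reg ℬ :=
  ⟨fun i j => hφ _ (hf.1 i j), fun i j => hφ _ (hf.2 i j)⟩

/-- **rigidity** -/
theorem const_of (hd : ∀ f ∈ 𝒜, ∀ g ∈ 𝒜, f * g = 0 → f = 0 ∨ g = 0) {f : X → Gh k} (hf : f ∈ Reg 𝒜) {N : ℕ}
    (hN : (N : k) ≠ 0) (h : ∀ x, f x ^ N = 1) {x0 : X} (h0 : f x0 = 1) (x : X) : f x = 1 := by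
  let P : X → Matrix D1 D1 k := (N : k)⁻¹ • ∑ i ∈ Finset.range N, (fun x => rho k (f x)) ^ i
  have hP : P ∈ MA 𝒜 D1 := Subalgebra.smul_mem _ (sum_mem fun i _ => pow_mem hf.1 i) _
  have e : ∀ x, P x = (N : k)⁻¹ • ∑ i ∈ Finset.range N, rho k (f x) ^ i := fun x => by
    show (N : k)⁻¹ • (∑ i ∈ Finset.range N, (fun x => rho k (f x)) ^ i) x = _
    rw [Finset.sum_apply]
    rfl
  have h1 : ∀ x, rho k (f x) * P x = P x := fun x => by
    rw [e, mul_smul_comm]
    congr 1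
    have h2 := mul_geom_sum (rho k (f x)) N
    rw [← map_pow, h, map_one, sub_self, sub_mul, one_mul, sub_eq_zero] at h2
    exact h2
  have h2 : ∀ x i, rho k (f x) ^ i * P x = P x := fun x i => by
    induction i with
    | zero => rw [pow_zero, one_mul]
    | succ i ih => rw [pow_succ, mul_assoc, h1, ih]
  have h3 : ∀ x, P x * P x = P x := fun x => by
    conv_lhs => rw [e x, smul_mul_assoc, Finset.sum_mul, ← e x]
    rw [Finset.sum_congr rfl fun i _ => h2 x i, Finset.sum_const, Finset.card_range, ← Nat.cast_smul_eq_nsmul k,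
      smul_smul, inv_mul_cancel₀ hN, one_smul]
  have h4 : P x0 = 1 := by
    rw [e, h0, map_one, Finset.sum_congr rfl fun i _ => one_pow i, Finset.sum_const, Finset.card_range,
      ← Nat.cast_smul_eq_nsmul k, smul_smul, inv_mul_cancel₀ hN, one_smul]
  have hD := det_mem hP
  rcases hd _ hD _ (sub_mem hD (one_mem _)) (funext fun x => by
    show (P x).det * ((P x).det - 1) = 0
    rw [mul_sub, ← det_mul, h3, mul_one, sub_self]) with h5 | h5
  · have h6 : (P x0).det = 0 := congrFun h5 x0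
    rw [h4, det_one] at h6
    exact absurd h6 one_ne_zero
  · have h6 : (P x).det - 1 = 0 := congrFun h5 x
    have h7 : IsUnit (P x) := (isUnit_iff_isUnit_det _).2 (by rw [sub_eq_zero.1 h6]; exact isUnit_one)
    apply rho_injective
    rw [map_one]
    exact h7.mul_right_cancel (by rw [h1, one_mul])

end

variable (k) in
/-- polynomial functions -/
def PA : Subalgebra k (k → k) := Algebra.adjoin k {fun t => t}

variable (k) in
/-- Laurent polynomial functions -/
def LA : Subalgebra k (kˣ → k) := Algebra.adjoin k {fun z : kˣ => (z : k), fun z : kˣ => ((z⁻¹ : kˣ) : k)}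

theorem id_mem_PA : (fun t : k => t) ∈ PA k := Algebra.subset_adjoin rfl

theorem val_mem_LA : (fun z : kˣ => (z : k)) ∈ LA k := Algebra.subset_adjoin (Or.inl rfl)

theorem inv_mem_LA : (fun z : kˣ => ((z⁻¹ : kˣ) : k)) ∈ LA k := Algebra.subset_adjoin (Or.inr rfl)

theorem zpow_mem_LA (n : ℤ) : (fun z : kˣ => ((z ^ n : kˣ) : k)) ∈ LA k := by
  obtain ⟨m, rfl | rfl⟩ := Int.eq_nat_or_neg n
  · simp only [zpow_natCast, Units.val_pow_eq_pow_val]
    exact pow_mem val_mem_LA m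
  · simp only [_root_.zpow_neg, zpow_natCast, ← inv_pow, Units.val_pow_eq_pow_val]
    exact pow_mem inv_mem_LA m

/-- substitution into a polynomial function -/
theorem PA_comp {Y : Type*} {ℬ : Subalgebra k (Y → k)} {φ : Y → k} (hφ : φ ∈ ℬ) : ∀ f ∈ PA k, (fun y => f (φ y)) ∈ ℬ := by
  intro f hf
  induction hf using Algebra.adjoin_induction with
  | mem f hf => rw [hf]; exact hφ
  | algebraMap c => exact ℬ.algebraMap_mem c
  | add f g _ _ hf hg => exact add_mem hf hg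
  | mul f g _ _ hf hg => exact mul_mem hf hg

/-- substitution into a Laurent polynomial function -/
theorem LA_comp {Y : Type*} {ℬ : Subalgebra k (Y → k)} {φ : Y → kˣ} (hφ : (fun y => (φ y : k)) ∈ ℬ)
    (hφ' : (fun y => (((φ y)⁻¹ : kˣ) : k)) ∈ ℬ) : ∀ f ∈ LA k, (fun y => f (φ y)) ∈ ℬ := by
  intro f hf
  induction hf using Algebra.adjoin_induction with
  | mem f hf =>
    rcases hf with hf | hf
    · rw [hf]; exact hφ
    · rw [hf]; exact hφ'
  | algebraMap c => exact ℬ.algebraMap_mem c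
  | add f g _ _ hf hg => exact add_mem hf hg
  | mul f g _ _ hf hg => exact mul_mem hf hg

theorem exists_poly_PA {f : k → k} (hf : f ∈ PA k) : ∃ P : Polynomial k, ∀ t, f t = P.eval t := by
  induction hf using Algebra.adjoin_induction with
  | mem f hf => exact ⟨Polynomial.X, fun t => by rw [hf, Polynomial.eval_X]⟩
  | algebraMap c => exact ⟨Polynomial.C c, fun t => by rw [Polynomial.eval_C]; rfl⟩
  | add f g _ _ hf hg =>
    obtain ⟨P, hP⟩ := hf
    obtain ⟨Q, hQ⟩ := hg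
    exact ⟨P + Q, fun t => by rw [Polynomial.eval_add, ← hP, ← hQ]; rfl⟩
  | mul f g _ _ hf hg =>
    obtain ⟨P, hP⟩ := hf
    obtain ⟨Q, hQ⟩ := hg
    exact ⟨P * Q, fun t => by rw [Polynomial.eval_mul, ← hP, ← hQ]; rfl⟩

theorem exists_poly_LA {f : kˣ → k} (hf : f ∈ LA k) :
    ∃ (N : ℕ) (P : Polynomial k), ∀ z : kˣ, f z * (z : k) ^ N = P.eval (z : k) := by
  induction hf using Algebra.adjoin_induction with
  | mem f hf =>
    rcases hf with hf | hf
    · exact ⟨0, Polynomial.X, fun z => by rw [hf, Polynomial.eval_X, pow_zero, mul_one]⟩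
    · exact ⟨1, 1, fun z => by rw [hf, Polynomial.eval_one, pow_one, Units.inv_mul]⟩
  | algebraMap c => exact ⟨0, Polynomial.C c, fun t => by rw [Polynomial.eval_C, pow_zero, mul_one]; rfl⟩
  | add f g _ _ hf hg =>
    obtain ⟨M, P, hP⟩ := hf
    obtain ⟨N, Q, hQ⟩ := hg
    refine ⟨M + N, P * Polynomial.X ^ N + Q * Polynomial.X ^ M, fun z => ?_⟩
    rw [Polynomial.eval_add, Polynomial.eval_mul, Polynomial.eval_mul, Polynomial.eval_pow, Polynomial.eval_pow,
      Polynomial.eval_X, ← hP, ← hQ, Pi.add_apply]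
    ring
  | mul f g _ _ hf hg =>
    obtain ⟨M, P, hP⟩ := hf
    obtain ⟨N, Q, hQ⟩ := hg
    refine ⟨M + N, P * Q, fun z => ?_⟩
    rw [Polynomial.eval_mul, ← hP, ← hQ, Pi.mul_apply]
    ring

theorem poly_eq_zero [Infinite k] {P : Polynomial k} (h : ∀ z : kˣ, P.eval (z : k) = 0) : P = 0 := by
  refine Polynomial.eq_zero_of_infinite_isRoot P ?_
  refine Set.Infinite.mono (s := {0}ᶜ) (fun t ht => h (Units.mk0 t ht)) ?_
  exact (Set.finite_singleton 0).infinite_compl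

theorem dom_PA [Infinite k] : ∀ f ∈ PA k, ∀ g ∈ PA k, f * g = 0 → f = 0 ∨ g = 0 := by
  intro f hf g hg e
  obtain ⟨P, hP⟩ := exists_poly_PA hf
  obtain ⟨Q, hQ⟩ := exists_poly_PA hg
  rcases mul_eq_zero.1 (poly_eq_zero (P := P * Q) fun z => by
    rw [Polynomial.eval_mul, ← hP, ← hQ]; exact congrFun e z) with h1 | h1
  · exact Or.inl (funext fun t => by rw [hP, h1, Polynomial.eval_zero]; rfl)
  · exact Or.inr (funext fun t => by rw [hQ, h1, Polynomial.eval_zero]; rfl)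

theorem dom_LA [Infinite k] : ∀ f ∈ LA k, ∀ g ∈ LA k, f * g = 0 → f = 0 ∨ g = 0 := by
  intro f hf g hg e
  obtain ⟨M, P, hP⟩ := exists_poly_LA hf
  obtain ⟨N, Q, hQ⟩ := exists_poly_LA hg
  rcases mul_eq_zero.1 (poly_eq_zero (P := P * Q) fun z => by
    rw [Polynomial.eval_mul, ← hP, ← hQ, mul_mul_mul_comm, show f z * g z = 0 from congrFun e z, zero_mul]) with h1 | h1
  · refine Or.inl (funext fun z => ?_)
    have h2 := hP z
    rw [h1, Polynomial.eval_zero] at h2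
    exact (mul_eq_zero.1 h2).resolve_right (pow_ne_zero _ z.ne_zero)
  · refine Or.inr (funext fun z => ?_)
    have h2 := hQ z
    rw [h1, Polynomial.eval_zero] at h2
    exact (mul_eq_zero.1 h2).resolve_right (pow_ne_zero _ z.ne_zero)

/-- **rigidity** of Laurent maps -/
theorem constL [Infinite k] {f : kˣ → Gh k} (hf : f ∈ Reg (LA k)) {N : ℕ} (hN : (N : k) ≠ 0) (h : ∀ x, f x ^ N = 1)
    {x0 : kˣ} (h0 : f x0 = 1) (x : kˣ) : f x = 1 := const_of dom_LA hf hN h h0 x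

/-- cocharacters -/
noncomputable def co (g : Gh k) (l : Fin 7 → ℤ) : kˣ →* Gh k where
  toFun z := g * Phi k (lam l z) * g⁻¹
  map_one' := by
    rw [show lam l (1 : kˣ) = 1 from funext fun _ => one_zpow _, map_one, mul_one, mul_inv_cancel]
  map_mul' x y := by
    rw [show lam l (x * y) = lam l x * lam l y from funext fun _ => mul_zpow _ _ _, map_mul]
    group

theorem co_apply (g : Gh k) (l : Fin 7 → ℤ) (z : kˣ) : co g l z = g * Phi k (lam l z) * g⁻¹ := rfl

theorem co_mul (n g : Gh k) (l : Fin 7 → ℤ) (z : kˣ) : co (n * g) l z = n * co g l z * n⁻¹ := by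
  rw [co_apply, co_apply]
  group

theorem emb_co (s : k →+* k) (g : Gh k) (l : Fin 7 → ℤ) (z : kˣ) :
    emb s (co g l z) = co (emb s g) l (Units.map (s : k →* k) z) := by
  rw [co_apply, co_apply, map_mul, map_mul, map_inv, emb_Phi]
  congr 3
  funext i
  exact map_zpow _ _ _

theorem co_mem_Reg (g : Gh k) (l : Fin 7 → ℤ) : (fun z => co g l z) ∈ Reg (LA k) := by
  have key : ∀ l : Fin 7 → ℤ, (fun z : kˣ => rho k (Phi k (lam l z))) ∈ MA (LA k) D1 := by
    intro l i j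
    simp only [wrep_V.tor, ch_lam, diagonal_apply]
    by_cases hij : i = j
    · simp only [hij, if_true]
      exact zpow_mem_LA _
    · simp only [hij, if_false]
      exact zero_mem _
  refine Reg.mul (Reg.mul (Reg.const _ g) ⟨key l, ?_⟩) (Reg.const _ g⁻¹)
  have e : ∀ z : kˣ, (Phi k (lam l z))⁻¹ = Phi k (lam (-l) z) := fun z => by
    rw [← map_inv]
    exact congrArg _ (funext fun _ => (_root_.zpow_neg _ _).symm)
  simp only [e]
  exact key (-l)

/-- polynomial maps with a non-zero linear term -/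
def PL (x : k → Gh k) : Prop := ∃ (N : ℕ) (D : ℕ → Matrix D1 D1 k),
  (∀ t, rho k (x t) = ∑ m ∈ Finset.range (N + 2), t ^ m • D m) ∧ D 1 ≠ 0

theorem PL.reg {x : k → Gh k} (hx : PL x) (add : ∀ s t, x (s + t) = x s * x t) : x ∈ Reg (PA k) := by
  obtain ⟨N, D, h1, -⟩ := hx
  have h0 : x 0 = 1 := (left_eq_mul (a := x 0)).1 (by rw [← add, add_zero])
  have h2 : (fun t => rho k (x t)) ∈ MA (PA k) D1 := by
    have e : (fun t => rho k (x t)) = ∑ m ∈ Finset.range (N + 2), fun t : k => t ^ m • D m := by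
      funext t
      rw [h1, Finset.sum_apply]
    rw [e]
    exact sum_mem fun m _ => smul_mem_MA (pow_mem id_mem_PA m) _
  refine ⟨h2, ?_⟩
  have e : ∀ t, (x t)⁻¹ = x (-t) := fun t => inv_eq_of_mul_eq_one_right (by rw [← add, add_neg_cancel, h0])
  simp only [e]
  exact fun i j => PA_comp (neg_mem id_mem_PA) _ (h2 i j)

variable (k)

/-- **ADDPOLY** (task ALG-1) -/
def ADDPOLY : Prop := ∀ (x : k → Gh k) (n : ℤ), (∀ s t, x (s + t) = x s * x t) → (∃ t, x t ≠ 1) → n ≠ 0 →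
  (fun z : kˣ => x ((z ^ n : kˣ) : k)) ∈ Reg (LA k) → ∃ φ : k ≃+* k, PL fun t => x (φ t)

/-- **UNIQ** (task ALG-1) -/
def UNIQ : Prop := ∀ (x : k → Gh k) (φ : k →+* k), PL x → PL (fun t => x (φ t)) → ∀ t, φ t = t

/-- **FRAME** (task ALG-2) -/
def FRAME : Prop := ∀ Λ : Set (kˣ →* Gh k), (∀ μ ∈ Λ, (fun z => μ z) ∈ Reg (LA k)) →
  (∀ μ ∈ Λ, ∀ ν ∈ Λ, ∀ x y, μ x * ν y = ν y * μ x) → ∃ g, ∀ μ ∈ Λ, ∃ l, μ = co g l

/-- **LIEPOLY** (task ALG-2) -/
def LIEPOLY : Prop := ∀ (x : k → Gh k) (g : Gh k) (l : Fin 7 → ℤ) (N : ℕ) (D : ℕ → Matrix D1 D1 k), x 0 = 1 →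
  (∀ z t, co g l z * x t * (co g l z)⁻¹ = x ((z : k) ^ 2 * t)) →
  (∀ t, rho k (x t) = ∑ m ∈ Finset.range (N + 2), t ^ m • D m) → ∃ e, D 1 = del k e

/-- **RINGD** (task ALG-3): the decomposition of a subring of `k ^ J` -/
def RINGD : Prop := ∀ (J : Type) [Finite J] (B : Subring (J → k)) (ν : B →+* B), Function.Injective ν →
  (∀ x : B, ν x = x → x * x = x → x = 0 ∨ x = 1) → (∃ j, ∀ t, ∃ x : B, x.1 j = t) →
  ∃ n, 0 < n ∧ ∃ (Θ : B ≃+* (Fin n → k)) (cls : J → Fin n) (φ : J → (k ≃+* k)),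
    Function.Surjective cls ∧ ∀ x j, x.1 j = φ j (Θ x (cls j))

/-- **RINGE** (task ALG-3): the injective endomorphisms of `k ^ n` -/
def RINGE : Prop := ∀ (n : ℕ) (f : (Fin n → k) →+* (Fin n → k)), Function.Injective f →
  ∃ (π : Equiv.Perm (Fin n)) (φ : Fin n → (k ≃+* k)), (∀ i t, f (Pi.single i t) = Pi.single (π i) (φ i t)) ∧
    ((∀ x, f x = x → x * x = x → x = 0 ∨ x = 1) → ∀ i j, ∃ m : ℕ, (π ^ m) i = j)

/-- **COUNT** (task ALG-3) -/
def COUNT (q : ℕ) : Prop := ∀ (n : ℕ) (π : Equiv.Perm (Fin n)), 0 < n → (∀ i j, ∃ m : ℕ, (π ^ m) i = j) →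
  Nat.card {v : Fin n → k | ∀ i, v (π i) = v i ^ q} = q ^ n

/-- **LIFT** (task ALG-8) -/
def LIFT : Prop := ∀ (Γ : Subgroup (Gh k × SpecialLinearGroup (Fin 2) k)) (N : ℕ) (x y : k → Gh k), (N : k) ≠ 0 →
  (∀ c, (c, 1) ∈ Γ → c ^ N = 1) → (∀ s t, x (s + t) = x s * x t) → (∀ s t, y (s + t) = y s * y t) →
  x ∈ Reg (PA k) → y ∈ Reg (PA k) → (∀ t, (x t, u t) ∈ Γ) → (∀ t, (y t, w * u t * w⁻¹) ∈ Γ) →
  ∃ Ξ : SpecialLinearGroup (Fin 2) k →* Gh k, (∀ t, Ξ (u t) = x t) ∧ (∀ t, Ξ (w * u t * w⁻¹) = y t) ∧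
    (fun z => Ξ (h z)) ∈ Reg (LA k)

end Kf

namespace Sit

variable {p a b : ℕ} {F : Type u} {K : Type v} {k : Type u} [Field F] [Fintype F] [Field K] [Fintype K] [Field k]
  (S : Sit p a b F K k)

section
variable {I : Type} [Fintype I] [DecidableEq I] (R : Gh k →* Matrix I I k)

/-- the finite group is absolutely irreducible (task ALG-4) -/
def IRRF : Prop := ∀ Y : Submodule k (I → k), (∀ y0, ∀ x ∈ Y, R (emb S.f y0) *ᵥ x ∈ Y) → Y = ⊥ ∨ Y = ⊤

variable (W : Submodule k (I → k))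

/-- good cocharacters -/
structure Good (g : Gh k) (l : Fin 7 → ℤ) : Prop where
  mem : ∀ z, co g l z ∈ S.P ⊓ S.P'
  scal : ∀ θ : Kˣ → k, ∃ n : ℤ, ∀ y ∈ W, (∀ c, R (S.ψ (h c)) *ᵥ y = θ c • y) →
    ∀ z : kˣ, R (co g l z) *ᵥ y = ((z ^ n : kˣ) : k) • y

/-- the group generated by the good cocharacters -/
def Sg : Subgroup (Gh k) := Subgroup.closure {s | ∃ g l z, S.Good R W g l ∧ s = co g l z}

/-- the group generated by the conjugates of `U` -/
def Ut : Subgroup (Gh k) := Subgroup.closure {y | ∃ s ∈ S.Sg R W, ∃ t, y = s * S.ψ (u t) * s⁻¹}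

/-- the properties of `Sg` and `Ut` (task ALG-4) -/
structure Sig : Prop where
  σ : ∀ g l, S.Good R W g l → S.Good R W (S.σ g) l
  nb : ∀ n g l, S.NB n → S.Good R W g l → S.Good R W (n * g) l
  σS : ∀ s ∈ S.Sg R W, S.σ s ∈ S.Sg R W
  nbS : ∀ n, S.NB n → ∀ s ∈ S.Sg R W, n * s * n⁻¹ ∈ S.Sg R W
  σU : ∀ y ∈ S.Ut R W, S.σ y ∈ S.Ut R W
  nbU : ∀ n, S.NB n → ∀ y ∈ S.Ut R W, n * y * n⁻¹ ∈ S.Ut R W
  sU : ∀ s ∈ S.Sg R W, ∀ y ∈ S.Ut R W, s * y * s⁻¹ ∈ S.Ut R W
  hU : ∀ c, ∀ y ∈ S.Ut R W, S.ψ (h c) * y * (S.ψ (h c))⁻¹ ∈ S.Ut R W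
  comm : ∀ s ∈ S.Sg R W, ∀ s' ∈ S.Sg R W, s * s' = s' * s
  leP : S.Sg R W ≤ S.P
  le : S.Ut R W ≤ S.Ru
  fix : ∀ y ∈ S.Ut R W, S.σ y = y → y ∈ S.U
  nt : ∃ g l z t, S.Good R W g l ∧ co g l z * S.ψ (u t) * (co g l z)⁻¹ ≠ S.ψ (u t)

/-- `Ut` is abelian (task ALG-5) -/
def AbU : Prop := ∀ x ∈ S.Ut R W, ∀ y ∈ S.Ut R W, x * y = y * x

/-- the action on the composition factors of `W` (task ALG-6) -/
structure Sec where
  J : Type
  fin : Finite J
  ι : J → (K →+* k)
  Γ : Subgroup (Gh k × (J → SpecialLinearGroup (Fin 2) k))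
  res : ∀ x, (S.ψ x, fun j => SpecialLinearGroup.map (ι j) x) ∈ Γ
  N : ℕ
  hN : (N : k) ≠ 0
  ker : ∀ y, (y, 1) ∈ Γ → y ^ N = 1
  inj : ∀ x : J → k, (1, fun j => u (x j)) ∈ Γ → x = 0
  cj : ∀ g l, S.Good R W g l → ∃ n : J → ℤ, ∀ (z : kˣ) (y : Gh k) (x : J → k), (y, fun j => u (x j)) ∈ Γ →
    (co g l z * y * (co g l z)⁻¹, fun j => u (((z ^ n j : kˣ) : k) * x j)) ∈ Γ

variable {R} in
theorem TorW.good {S : Sit p a b F K k} (T : S.TorW R) : S.Good R T.W T.g T.l := ⟨T.mem, T.scal⟩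

end

/-- the root groups of the algebraic overgroup (task ALG-7) -/
structure Rts where
  n : ℕ
  npos : 0 < n
  ab : a = n * b
  x : Fin n → k → Gh k
  add : ∀ i s t, x i (s + t) = x i s * x i t
  pl : ∀ i, PL (x i)
  π : Equiv.Perm (Fin n)
  trans : ∀ i j, ∃ m : ℕ, (π ^ m) i = j
  frob : ∀ i t, S.σ (x i t) = x (π i) (S.s t)
  τ : Fin n → (K →+* k)
  res : ∀ t, S.ψ (u t) = (List.ofFn fun i => x i (τ i t)).prod
  norm : ∀ m ∈ S.M, ∀ (c : Kˣ) (α : K ≃+* K), (∀ y, S.ψ (aut c α y) = m * S.ψ y * m⁻¹) →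
    ∃ ρ : Equiv.Perm (Fin n), ∀ i t, m * x i t * m⁻¹ = x (ρ i) (τ (ρ i) c * t)
  Γ : Subgroup (Gh k × (Fin n → SpecialLinearGroup (Fin 2) k))
  N : ℕ
  hN : (N : k) ≠ 0
  ker : ∀ y, (y, 1) ∈ Γ → y ^ N = 1
  xΓ : ∀ i t, (x i t, Pi.mulSingle i (u t)) ∈ Γ
  wΓ : (S.ψ w, fun _ => w) ∈ Γ

end Sit

end Cfsg.Agent.E7P
end

-- part: E7P/Ag/RtB
section
prune_inst 0xd560274405c0000000188500720026042e000492006000008800064006808f4420010161bc301118808a0a54603d00481110016042a000000a1c040001180080088010002008401940001000008c410000008040000000000000000000010004000000000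
set_option linter.all false
open scoped Cfsg.Agent.FastGrp

/-!
# S5932, ALG-7: the ring of the group `Ut` (helper72)
-/

set_option autoImplicit false
set_option linter.unusedSectionVars false

namespace Cfsg.Agent.E7P

open Cfsg Cfsg.Lie Matrix Module
open Cfsg.Agent.H943.E7V.Block (D1 rho)
open Cfsg.Agent.R2.T1 Cfsg.Agent.E7P.Kf
open Cfsg.Agent.H943.SL2Rel (u w h u_add u_zero u_neg h_u)

universe u v

namespace Rt

theorem map_u {F k : Type*} [Field F] [Field k] (f : F →+* k) (t : F) : SpecialLinearGroup.map f (u t) = u (f t) :=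
  Subtype.ext (Matrix.ext fun i j => show f ((u t).1 i j) = _ by fin_cases i <;> fin_cases j <;> simp [u])

theorem map_w {F k : Type*} [Field F] [Field k] (f : F →+* k) : SpecialLinearGroup.map f w = w :=
  Subtype.ext (Matrix.ext fun i j => show f ((w : SpecialLinearGroup (Fin 2) F).1 i j) = _ by
    fin_cases i <;> fin_cases j <;> simp [w])

theorem map_h {F k : Type*} [Field F] [Field k] (f : F →+* k) (z : Fˣ) :
    SpecialLinearGroup.map f (h z) = h (Units.map (f : F →* k) z) :=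
  Subtype.ext (Matrix.ext fun i j => show f ((h z).1 i j) = _ by fin_cases i <;> fin_cases j <;> simp [h])

theorem sq_ind {K : Type*} [Field K] [Finite K] {P : K → Prop} (h0 : P 0) (hsq : ∀ c : Kˣ, P ((c : K) ^ 2))
    (hsub : ∀ s t, P s → P t → P (s - t)) (t : K) : P t := by
  have h1 : ∀ c : K, P (c ^ 2) := fun c => by
    by_cases hc : c = 0
    · rwa [hc, zero_pow two_ne_zero]
    · exact hsq (Units.mk0 c hc)
  by_cases h2 : (2 : K) = 0
  · have : CharP K 2 := CharTwo.of_one_ne_zero_of_two_eq_zero one_ne_zero h2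
    obtain ⟨d, hd⟩ := FiniteField.isSquare_of_char_two (F := K) (ringChar.eq K 2) t
    rw [hd, ← sq]
    exact h1 d
  · have h3 := hsub _ _ (h1 ((t + 1) / 2)) (h1 ((t - 1) / 2))
    rwa [show ((t + 1) / 2) ^ 2 - ((t - 1) / 2) ^ 2 = t by field_simp; ring] at h3

variable {p a b : ℕ} {F : Type u} {K : Type v} {k : Type u} [Field F] [Fintype F] [Field K] [Fintype K] [Field k]
  {S : Sit p a b F K k} {I : Type} [Fintype I] [DecidableEq I] {R : Gh k →* Matrix I I k} {W : Submodule k (I → k)}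
  (C : S.Sec R W)

/-- `y` acts on the sections as `u x` -/
def Rel (y : Gh k) (x : C.J → k) : Prop := (y, fun j => u (x j)) ∈ C.Γ

/-- `s` multiplies the parameters by `c` -/
def Sc (s : Gh k) (c : C.J → k) : Prop := ∀ y x, Rel C y x → Rel C (s * y * s⁻¹) (c * x)

/-- the embedding of `K` -/
def iv : K →+* (C.J → k) := RingHom.pi C.ι

variable {C}

theorem Rel.mul {y y' : Gh k} {x x' : C.J → k} (h1 : Rel C y x) (h2 : Rel C y' x') : Rel C (y * y') (x + x') := by
  have h3 := mul_mem h1 h2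
  unfold Rel
  simp only [Pi.add_apply, u_add]
  exact h3

theorem Rel.inv {y : Gh k} {x : C.J → k} (h1 : Rel C y x) : Rel C y⁻¹ (-x) := by
  have h3 := inv_mem h1
  unfold Rel
  simp only [Pi.neg_apply, u_neg]
  exact h3

theorem rel_zero {y : Gh k} : Rel C y 0 ↔ (y, 1) ∈ C.Γ := by
  unfold Rel
  simp only [Pi.zero_apply, u_zero]
  rfl

theorem Rel.uniq {y : Gh k} {x x' : C.J → k} (h1 : Rel C y x) (h2 : Rel C y x') : x = x' := by
  have h3 := h1.mul h2.inv
  rw [mul_inv_cancel] at h3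
  exact add_neg_eq_zero.1 (C.inj _ h3)

theorem rel_u (t : K) : Rel C (S.ψ (u t)) (iv C t) := by
  have h1 := C.res (u t)
  simp only [map_u] at h1
  exact h1

theorem Sc.mul {s s' : Gh k} {c c' : C.J → k} (h1 : Sc C s c) (h2 : Sc C s' c') : Sc C (s * s') (c * c') :=
  fun y x h3 => by
    have h4 := h1 _ _ (h2 y x h3)
    rwa [show s * (s' * y * s'⁻¹) * s⁻¹ = s * s' * y * (s * s')⁻¹ by group, ← mul_assoc] at h4

theorem sc_one : Sc C 1 1 := fun y x h3 => by rwa [one_mul, inv_one, mul_one, one_mul]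

theorem Sc.uniq {s : Gh k} {c c' : C.J → k} (h1 : Sc C s c) (h2 : Sc C s c') : c = c' := by
  have h3 := (h1 _ _ (rel_u 1)).uniq (h2 _ _ (rel_u 1))
  rwa [map_one, mul_one, mul_one] at h3

theorem sc_h (c : Kˣ) : Sc C (S.ψ (h c)) (iv C ((c : K) ^ 2)) := fun y x h1 => by
  have h2 := mul_mem (mul_mem (C.res (h c)) h1) (inv_mem (C.res (h c)))
  have h3 : ((fun j => SpecialLinearGroup.map (C.ι j) (h c)) * (fun j => u (x j)) *
      (fun j => SpecialLinearGroup.map (C.ι j) (h c))⁻¹) = fun j => u ((iv C ((c : K) ^ 2) * x) j) := by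
    funext j
    rw [Pi.mul_apply, Pi.mul_apply, Pi.inv_apply, map_h, h_u, mul_inv_cancel_right, Pi.mul_apply, map_pow]
    rfl
  unfold Rel
  rw [← h3]
  exact h2

theorem sg_ind {Q : (C.J → k) → Prop} (one : Q 1) (mul : ∀ c c', Q c → Q c' → Q (c * c'))
    (gen : ∀ g l, S.Good R W g l → ∀ n : C.J → ℤ, (∀ z : kˣ, Sc C (co g l z) fun j => ((z ^ n j : kˣ) : k)) →
      ∀ z : kˣ, Q fun j => ((z ^ n j : kˣ) : k)) {s : Gh k} (hs : s ∈ S.Sg R W) : ∃ c, Sc C s c ∧ Q c := by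
  have key : ∀ g l z, S.Good R W g l → ∃ c, Sc C (co g l z) c ∧ Q c := fun g l z hg => by
    obtain ⟨n, hn⟩ := C.cj g l hg
    exact ⟨_, hn z, gen g l hg n hn z⟩
  induction hs using Subgroup.closure_induction'' with
  | mem s hs =>
    obtain ⟨g, l, z, hg, rfl⟩ := hs
    exact key g l z hg
  | inv_mem s hs =>
    obtain ⟨g, l, z, hg, rfl⟩ := hs
    rw [← map_inv]
    exact key g l _ hg
  | one => exact ⟨1, sc_one, one⟩
  | mul s s' _ _ h1 h2 =>
    obtain ⟨c, h1, h3⟩ := h1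
    obtain ⟨c', h2, h4⟩ := h2
    exact ⟨_, h1.mul h2, mul _ _ h3 h4⟩

theorem exists_sc {s : Gh k} (hs : s ∈ S.Sg R W) : ∃ c, Sc C s c := by
  obtain ⟨c, h1, -⟩ := sg_ind (C := C) (Q := fun _ => True) trivial (fun _ _ _ _ => trivial) (fun _ _ _ _ _ _ => trivial) hs
  exact ⟨c, h1⟩

theorem ut_ind {P : (C.J → k) → Prop} (gen : ∀ s ∈ S.Sg R W, ∀ c, Sc C s c → ∀ t, P (c * iv C t)) (zero : P 0)
    (add : ∀ x x', P x → P x' → P (x + x')) (neg : ∀ x, P x → P (-x)) {y : Gh k} (hy : y ∈ S.Ut R W) :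
    ∃ x, Rel C y x ∧ P x := by
  induction hy using Subgroup.closure_induction with
  | mem y hy =>
    obtain ⟨s, hs, t, rfl⟩ := hy
    obtain ⟨c, hc⟩ := exists_sc (C := C) hs
    exact ⟨_, hc _ _ (rel_u t), gen s hs c hc t⟩
  | one => exact ⟨0, rel_zero.2 (one_mem _), zero⟩
  | mul y y' _ _ h1 h2 =>
    obtain ⟨x, h1, h3⟩ := h1
    obtain ⟨x', h2, h4⟩ := h2
    exact ⟨_, h1.mul h2, add _ _ h3 h4⟩
  | inv y _ h1 =>
    obtain ⟨x, h1, h3⟩ := h1
    exact ⟨_, h1.inv, neg _ h3⟩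

theorem u_mem (t : K) : S.ψ (u t) ∈ S.Ut R W :=
  Subgroup.subset_closure ⟨1, one_mem _, t, by rw [one_mul, inv_one, mul_one]⟩

variable (C) in
/-- the additive group of the parameters -/
def Ba : AddSubgroup (C.J → k) where
  carrier := {x | ∃ y ∈ S.Ut R W, Rel C y x}
  zero_mem' := ⟨1, one_mem _, rel_zero.2 (one_mem _)⟩
  add_mem' := by
    rintro _ _ ⟨y, h1, h2⟩ ⟨y', h3, h4⟩
    exact ⟨_, mul_mem h1 h3, h2.mul h4⟩
  neg_mem' := by
    rintro _ ⟨y, h1, h2⟩
    exact ⟨_, inv_mem h1, h2.inv⟩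

theorem ba_ind {P : (C.J → k) → Prop} (gen : ∀ s ∈ S.Sg R W, ∀ c, Sc C s c → ∀ t, P (c * iv C t)) (zero : P 0)
    (add : ∀ x x', P x → P x' → P (x + x')) (neg : ∀ x, P x → P (-x)) {x : C.J → k} (hx : x ∈ Ba C) : P x := by
  obtain ⟨y, h1, h2⟩ := hx
  obtain ⟨x', h3, h4⟩ := ut_ind gen zero add neg h1
  rwa [h2.uniq h3]

variable (hS : S.Sig R W)

include hS

theorem Rel.eq {y y' : Gh k} {x : C.J → k} (h1 : Rel C y x) (h2 : Rel C y' x) (hy : y ∈ S.Ut R W) (hy' : y' ∈ S.Ut R W) :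
    y = y' := by
  have := S.chark
  have h3 := h1.mul h2.inv
  rw [add_neg_cancel] at h3
  have h4 := C.ker _ (rel_zero.1 h3)
  obtain ⟨m, hm⟩ := (isPGroup_Ul S.prime S.β).comap_of_injective _ (MulAut.conj S.g0⁻¹).injective
    ⟨_, hS.le (mul_mem hy (inv_mem hy'))⟩
  have h5 : (y * y'⁻¹) ^ p ^ m = 1 := congrArg Subtype.val hm
  have h6 : C.N.Coprime (p ^ m) := by
    refine Nat.Coprime.pow_right m ((Nat.Prime.coprime_iff_not_dvd S.prime).2 fun h7 => C.hN ?_).symm
    exact (CharP.cast_eq_zero_iff k p _).2 h7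
  have h7 := pow_gcd_eq_one.2 ⟨h4, h5⟩
  rw [h6, pow_one] at h7
  exact mul_inv_eq_one.1 h7

theorem iv_mul (t : K) : ∀ x ∈ Ba C, iv C t * x ∈ Ba C := by
  refine sq_ind (P := fun t => ∀ x ∈ Ba C, iv C t * x ∈ Ba C) (fun x _ => ?_) ?_ (fun s t h1 h2 x hx => ?_) t
  · rw [map_zero, zero_mul]
    exact zero_mem _
  · rintro c x ⟨y, h1, h2⟩
    exact ⟨_, hS.hU c y h1, sc_h c y x h2⟩
  · rw [map_sub, sub_mul]
    exact sub_mem (h1 x hx) (h2 x hx)

variable (C) in
/-- the ring of the parameters -/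
def Br : Subring (C.J → k) where
  __ := Ba C
  one_mem' := ⟨_, u_mem 1, map_one (iv C) ▸ rel_u 1⟩
  mul_mem' := fun {x x'} hx hx' => by
    refine ba_ind (P := fun x => x * x' ∈ Ba C) (fun s hs c hc t => ?_) ?_ (fun x y h1 h2 => ?_) (fun x h1 => ?_) hx
    · obtain ⟨y, h1, h2⟩ := iv_mul hS t x' hx'
      exact ⟨_, hS.sU s hs y h1, mul_assoc c _ x' ▸ hc y _ h2⟩
    · rw [zero_mul]
      exact zero_mem _
    · rw [add_mul]
      exact add_mem h1 h2
    · rw [neg_mul]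
      exact neg_mem h1

theorem Sc.mem {s : Gh k} {c : C.J → k} (hc : Sc C s c) (hs : s ∈ S.Sg R W) : c ∈ Br C hS :=
  ⟨_, hS.sU s hs _ (u_mem 1), by have h1 := hc _ _ (rel_u 1); rwa [map_one, mul_one] at h1⟩

variable (C) in
/-- the embedding of `K` -/
def ib : K →+* Br C hS := (iv C).codRestrict _ fun t => ⟨_, u_mem t, rel_u t⟩

/-- the group element with a given parameter -/
noncomputable def xi (x : Br C hS) : Gh k := x.2.choose

theorem xi_mem (x : Br C hS) : xi hS x ∈ S.Ut R W := x.2.choose_spec.1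

theorem xi_rel (x : Br C hS) : Rel C (xi hS x) x.1 := x.2.choose_spec.2

theorem eq_xi {y : Gh k} {x : Br C hS} (hy : y ∈ S.Ut R W) (h1 : Rel C y x.1) : y = xi hS x :=
  h1.eq hS (xi_rel hS x) hy (xi_mem hS x)

theorem xi_inj : Function.Injective (xi (C := C) hS) := fun x x' e =>
  Subtype.ext ((xi_rel hS x).uniq (e ▸ xi_rel hS x'))

theorem xi_add (x x' : Br C hS) : xi hS (x + x') = xi hS x * xi hS x' :=
  (eq_xi hS (x := x + x') (mul_mem (xi_mem hS x) (xi_mem hS x')) ((xi_rel hS x).mul (xi_rel hS x'))).symm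

theorem xi_ib (t : K) : xi hS (ib C hS t) = S.ψ (u t) := (eq_xi hS (x := ib C hS t) (u_mem t) (rel_u t)).symm

theorem xi_sc {s : Gh k} {c : Br C hS} (hc : Sc C s c.1) (hs : ∀ y ∈ S.Ut R W, s * y * s⁻¹ ∈ S.Ut R W) (x : Br C hS) :
    xi hS (c * x) = s * xi hS x * s⁻¹ := (eq_xi hS (x := c * x) (hs _ (xi_mem hS x)) (hc _ _ (xi_rel hS x))).symm

/-- the endomorphisms of the ring -/
theorem exists_end (f : Gh k →* Gh k) (hf : Function.Injective f) (hU : ∀ y ∈ S.Ut R W, f y ∈ S.Ut R W)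
    (hG : ∀ s ∈ S.Sg R W, f s ∈ S.Sg R W) (c : Kˣ) (α : K →+* K) (hu : ∀ t, f (S.ψ (u t)) = S.ψ (u (c * α t)))
    (hh : ∀ z, f (S.ψ (h z)) = S.ψ (h (Units.map (α : K →* K) z))) :
    ∃ ν : Br C hS →+* Br C hS, Function.Injective ν ∧ ∀ x, f (xi hS x) = xi hS (ib C hS c * ν x) := by
  have key : ∀ x : Br C hS, ∃ x' : Br C hS, f (xi hS x) = xi hS x' := fun x => by
    obtain ⟨x', h1, -⟩ := ut_ind (C := C) (P := fun _ => True) (fun _ _ _ _ _ => trivial) trivial
      (fun _ _ _ _ => trivial) (fun _ _ => trivial) (hU _ (xi_mem hS x))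
    exact ⟨⟨x', _, hU _ (xi_mem hS x), h1⟩, eq_xi hS (x := ⟨x', _, hU _ (xi_mem hS x), h1⟩) (hU _ (xi_mem hS x)) h1⟩
  choose ν0 h0 using key
  let ν1 : Br C hS →+ Br C hS := AddMonoidHom.mk' ν0 fun x x' => xi_inj hS (by
    rw [← h0, xi_add, xi_add, map_mul, h0, h0])
  have h1 : ∀ x, f (xi hS x) = xi hS (ν1 x) := h0
  have h2 : ∀ t, ν1 (ib C hS t) = ib C hS (c * α t) := fun t => xi_inj hS (by rw [← h1, xi_ib, xi_ib, hu])
  have h3 : ∀ t x, ν1 (ib C hS t * x) = ib C hS (α t) * ν1 x := fun t x => by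
    refine sq_ind (P := fun t => ν1 (ib C hS t * x) = ib C hS (α t) * ν1 x) ?_ (fun z => xi_inj hS ?_)
      (fun s t h4 h5 => ?_) t
    · rw [map_zero, map_zero, zero_mul, map_zero, map_zero, zero_mul]
    · rw [← h1, xi_sc hS (c := ib C hS ((z : K) ^ 2)) (sc_h z) (hS.hU z), map_mul, map_mul, map_inv, hh, h1, map_pow]
      exact (xi_sc hS (c := ib C hS (((Units.map (α : K →* K) z : Kˣ) : K) ^ 2)) (sc_h _) (hS.hU _) _).symm
    · rw [map_sub, sub_mul, map_sub, h4, h5, map_sub, map_sub, sub_mul]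
  have h4 : ∀ x' : C.J → k, x' ∈ Ba C → ∃ hx : x' ∈ Br C hS, ∀ x, ib C hS c * ν1 (⟨x', hx⟩ * x) = ν1 ⟨x', hx⟩ * ν1 x := by
    intro x' hx'
    refine ba_ind (P := fun x' => ∃ hx : x' ∈ Br C hS, ∀ x, ib C hS c * ν1 (⟨x', hx⟩ * x) = ν1 ⟨x', hx⟩ * ν1 x)
      (fun s hs d hd t => ?_) ⟨zero_mem _, fun x => ?_⟩ ?_ ?_ hx'
    · obtain ⟨d', hd'⟩ := exists_sc (C := C) (hG s hs)
      have h5 : ∀ x, ν1 (⟨d, hd.mem hS hs⟩ * x) = ⟨d', hd'.mem hS (hG s hs)⟩ * ν1 x := fun x => xi_inj hS (by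
        rw [← h1, xi_sc hS (c := ⟨d, hd.mem hS hs⟩) hd (hS.sU s hs),
          xi_sc hS (c := ⟨d', hd'.mem hS (hG s hs)⟩) hd' (hS.sU _ (hG s hs)), map_mul, map_mul, map_inv, h1])
      refine ⟨mul_mem (hd.mem hS hs) (ib C hS t).2, fun x => ?_⟩
      change _ * ν1 (⟨d, hd.mem hS hs⟩ * ib C hS t * x) = ν1 (⟨d, hd.mem hS hs⟩ * ib C hS t) * _
      rw [mul_assoc, h5, h5, h3, h2, map_mul]
      ring
    · change _ * ν1 (0 * x) = ν1 0 * _
      rw [zero_mul, map_zero, mul_zero, zero_mul]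
    · rintro y y' ⟨hy, h5⟩ ⟨hy', h6⟩
      refine ⟨add_mem hy hy', fun x => ?_⟩
      change _ * ν1 ((⟨y, hy⟩ + ⟨y', hy'⟩) * x) = ν1 (⟨y, hy⟩ + ⟨y', hy'⟩) * _
      rw [add_mul, map_add, mul_add, h5, h6, map_add, add_mul]
    · rintro y ⟨hy, h5⟩
      refine ⟨neg_mem hy, fun x => ?_⟩
      change _ * ν1 (-⟨y, hy⟩ * x) = ν1 (-⟨y, hy⟩) * _
      rw [neg_mul, map_neg, mul_neg, h5, map_neg, neg_mul]
  have h5 : ib C hS c * ib C hS (c⁻¹ : Kˣ) = 1 := by rw [← map_mul, Units.mul_inv, map_one]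
  have h6 : ∀ x, ib C hS c * (ib C hS (c⁻¹ : Kˣ) * ν1 x) = ν1 x := fun x => by rw [← mul_assoc, h5, one_mul]
  refine ⟨{ toFun := fun x => ib C hS (c⁻¹ : Kˣ) * ν1 x
            map_one' := ?_
            map_mul' := fun x y => ?_
            map_zero' := by rw [map_zero, mul_zero]
            map_add' := fun x y => by rw [map_add, mul_add] }, fun x y e => ?_, fun x => ?_⟩
  · rw [← map_one (ib C hS), h2, map_one, mul_one, mul_comm, h5, map_one]
  · obtain ⟨_, h7⟩ := h4 x.1 x.2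
    have h8 : ib C hS c * ν1 (x * y) = ν1 x * ν1 y := h7 y
    linear_combination (ib C hS (c⁻¹ : Kˣ)) ^ 2 * h8 - ib C hS (c⁻¹ : Kˣ) * ν1 (x * y) * h5
  · have h7 : ib C hS (c⁻¹ : Kˣ) * ν1 x = ib C hS (c⁻¹ : Kˣ) * ν1 y := e
    exact xi_inj hS (hf (by rw [h1, h1, ← h6 x, ← h6 y, h7]))
  · exact (h1 x).trans (congrArg _ (h6 x).symm)

/-- every coordinate is moved by a good cocharacter, or it is finite -/
theorem coord (j : C.J) : (∃ g l, S.Good R W g l ∧ ∃ n : C.J → ℤ,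
    (∀ z : kˣ, Sc C (co g l z) fun j => ((z ^ n j : kˣ) : k)) ∧ n j ≠ 0) ∨ ∀ x : Br C hS, ∃ t, x.1 j = C.ι j t := by
  refine or_iff_not_imp_left.2 fun h0 x => ?_
  refine ba_ind (P := fun x => ∃ t, x j = C.ι j t) (fun s hs c hc t => ⟨t, ?_⟩) ⟨0, (map_zero _).symm⟩ ?_ ?_ x.2
  · obtain ⟨c', h1, h2⟩ := sg_ind (C := C) (Q := fun c => c j = 1) rfl
      (fun c c' h1 h2 => by rw [Pi.mul_apply, h1, h2, mul_one]) (fun g l hg n hn z => by
        have h3 : n j = 0 := by
          by_contra h3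
          exact h0 ⟨g, l, hg, n, hn, h3⟩
        change ((z ^ n j : kˣ) : k) = 1
        rw [h3, zpow_zero, Units.val_one]) hs
    rw [hc.uniq h1, Pi.mul_apply, h2, one_mul]
    rfl
  · rintro x y ⟨s, h1⟩ ⟨t, h2⟩
    exact ⟨s + t, by rw [Pi.add_apply, h1, h2, map_add]⟩
  · rintro x ⟨s, h1⟩
    exact ⟨-s, by rw [Pi.neg_apply, h1, map_neg]⟩

theorem onto : ∃ j, ∀ t, ∃ x : Br C hS, x.1 j = t := by
  have := S.closed
  obtain ⟨g, l, z, t, hg, h1⟩ := hS.nt
  obtain ⟨n, hn⟩ := C.cj g l hg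
  have hs : ∀ z, co g l z ∈ S.Sg R W := fun z => Subgroup.subset_closure ⟨g, l, z, hg, rfl⟩
  obtain ⟨j, hj⟩ : ∃ j, n j ≠ 0 := by
    by_contra h2
    push Not at h2
    have h3 := hn z _ _ (rel_u t)
    simp only [h2, zpow_zero, Units.val_one, one_mul] at h3
    exact h1 (Rel.eq hS h3 (rel_u t) (hS.sU _ (hs z) _ (u_mem t)) (u_mem t))
  refine ⟨j, fun t => ?_⟩
  by_cases ht : t = 0
  · exact ⟨0, ht.symm⟩
  obtain ⟨z, hz⟩ : ∃ z : kˣ, ((z ^ n j : kˣ) : k) = t := by
    obtain ⟨m, hm | hm⟩ := Int.eq_nat_or_neg (n j)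
    · obtain ⟨y, hy⟩ := IsAlgClosed.exists_pow_nat_eq t (show 0 < m by omega)
      refine ⟨Units.mk0 y fun h0 => ht ?_, by rw [hm, zpow_natCast, Units.val_pow_eq_pow_val]; exact hy⟩
      rw [← hy, h0, zero_pow (by omega)]
    · obtain ⟨y, hy⟩ := IsAlgClosed.exists_pow_nat_eq t (show 0 < m by omega)
      refine ⟨(Units.mk0 y fun h0 => ht ?_)⁻¹, by
        rw [hm, _root_.zpow_neg, zpow_natCast, inv_pow, inv_inv, Units.val_pow_eq_pow_val]; exact hy⟩
      rw [← hy, h0, zero_pow (by omega)]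
  exact ⟨⟨fun j => ((z ^ n j : kˣ) : k), Sc.mem hS (hn z) (hs z)⟩, hz⟩

end Rt

end Cfsg.Agent.E7P
end
end
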